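import Groth.Agent.Lib.LCI6.Fibre
import Groth.Agent.Lib.RelReg.FibreLift
import Mathlib.Algebra.Category.Ring.Constructions
import Mathlib.RingTheory.LocalRing.ResidueField.Fiber

/-!
# Koszul regular ideals with flat quotient and base change
-/

universe u

open IsLocalRing RingTheory.Sequence TensorProduct

namespace GrothLib.LCI6

/-- The local ring of the fibre as a quotient of the local ring. -/
theorem exists_fibre_equiv {R S : Type u} [CommRing R] [CommRing S] [Algebra R S] (r : Ideal R) [r.IsPrime]
    (q : Ideal (r.Fiber S)) [q.IsPrime] (p : Ideal S) [p.IsPrime]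
    (hq : q.comap Algebra.TensorProduct.includeRight.toRingHom = p) :
    ∃ e : Localization.AtPrime q ≃+* Localization.AtPrime p ⧸
        (r.map (algebraMap R S)).map (algebraMap S (Localization.AtPrime p)),
      ∀ x : S, e (algebraMap _ _ ((1 : r.ResidueField) ⊗ₜ[R] x)) = Ideal.Quotient.mk _ (algebraMap S _ x) := by
  subst hq
  refine ⟨(Ideal.Fiber.algEquivAux₂ r q).toRingEquiv, fun x => ?_⟩
  show Ideal.Fiber.algEquivAux₂ r q _ = _
  letI : Algebra S (r.Fiber S) := Algebra.TensorProduct.rightAlgebra
  have h : ((1 : r.ResidueField) ⊗ₜ[R] x) = algebraMap S (r.Fiber S) x := rfl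
  rw [h]
  simp [Ideal.Fiber.algEquivAux₂]
  rw [IsScalarTower.algebraMap_apply S (S ⧸ Ideal.map (algebraMap R S) r)
      (Localization (Algebra.algebraMapSubmonoid S r.primeCompl) ⧸ _),
    ← IsScalarTower.algebraMap_apply (S ⧸ Ideal.map (algebraMap R S) r)
      (Localization (Algebra.algebraMapSubmonoid S r.primeCompl) ⧸ _)]
  erw [@IsLocalization.map_eq]
  try rfl

variable {R P R' P' : Type u} [CommRing R] [CommRing P] [CommRing R'] [CommRing P'] [Algebra R P]
  [Algebra R R'] [Algebra R' P'] [Algebra R P'] [Algebra P P'] [IsScalarTower R R' P'] [IsScalarTower R P P']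
  [Algebra.IsPushout R P R' P'] [Algebra.FinitePresentation R P]

/-- A Koszul regular ideal with flat quotient stays Koszul regular after base change. -/
theorem kRegAt_baseChange [Algebra.FinitePresentation R' P'] [Module.Flat R' P'] {I : Ideal P} (hfg : I.FG)
    [Module.Flat R (P ⧸ I)] [Module.Flat R' (P' ⧸ I.map (algebraMap P P'))] (p' : Ideal P') [p'.IsPrime]
    (hIp : I ≤ p'.comap (algebraMap P P')) (h : KRegAt I (p'.comap (algebraMap P P'))) :
    KRegAt (I.map (algebraMap P P')) p' := by
  obtain ⟨g, hg, l, hl, hI⟩ := h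
  let B := Localization.Away g
  let C := Localization.Away (algebraMap P P' g)
  haveI : Module.Flat P B := IsLocalization.flat B (Submonoid.powers g)
  haveI : Module.Flat (P ⧸ I) (B ⧸ I.map (algebraMap P B)) :=
    IsLocalization.flat _ (Algebra.algebraMapSubmonoid (P ⧸ I) (Submonoid.powers g))
  haveI : IsScalarTower R (P ⧸ I) (B ⧸ I.map (algebraMap P B)) :=
    IsScalarTower.to₁₃₄ R P (P ⧸ I) (B ⧸ I.map (algebraMap P B))
  haveI : Module.Flat R (B ⧸ I.map (algebraMap P B)) := Module.Flat.trans R (P ⧸ I) _
  have hspan : Ideal.span (Set.range l.get) = I.map (algebraMap P B) := by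
    rw [hI, Set.range_list_get]
  haveI : Module.Flat R (B ⧸ Ideal.span (Set.range l.get)) := by rw [hspan]; infer_instance
  letI : Algebra B C := (Localization.awayMap (algebraMap P P') g).toAlgebra
  haveI : IsScalarTower P B C := IsScalarTower.of_algebraMap_eq fun x => by
    show _ = Localization.awayMap (algebraMap P P') g (algebraMap P B x)
    rw [IsScalarTower.algebraMap_apply P P' C]
    exact (IsLocalization.map_eq _ x).symm
  haveI : IsLocalization (Algebra.algebraMapSubmonoid P' (Submonoid.powers g)) C := by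
    rw [Algebra.algebraMapSubmonoid, Submonoid.map_powers]; infer_instance
  haveI : Algebra.IsPushout P B P' C :=
    Algebra.IsPushout.symm (Algebra.isPushout_of_isLocalization (Submonoid.powers g) B P' C)
  have h1 : CategoryTheory.IsPushout (CommRingCat.ofHom (algebraMap R P)) (CommRingCat.ofHom (algebraMap R R'))
      (CommRingCat.ofHom (algebraMap P P')) (CommRingCat.ofHom (algebraMap R' P')) :=
    CommRingCat.isPushout_iff_isPushout.mpr inferInstance
  have h2 : CategoryTheory.IsPushout (CommRingCat.ofHom (algebraMap P B)) (CommRingCat.ofHom (algebraMap P P'))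
      (CommRingCat.ofHom (algebraMap B C)) (CommRingCat.ofHom (algebraMap P' C)) :=
    CommRingCat.isPushout_iff_isPushout.mpr inferInstance
  have hq : CAlgX.IsQuasiRegular fun i => algebraMap B C (l.get i) :=
    (GrothLib.SeqKinds.map_of_isPushout (h1.paste_horiz h2) l.get (by
      show ((Ideal.Quotient.mk _).comp ((algebraMap P B).comp (algebraMap R P))).Flat
      rw [← IsScalarTower.algebraMap_eq]
      exact RingHom.flat_algebraMap_iff.mpr ‹_›)).2
      (GrothLib.SeqKinds.isQuasiRegular_of_isH1Regular _ (GrothLib.SeqKinds.isH1Regular_of_isKoszulRegularSeq l hl))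
  let L' := Localization.AtPrime p'
  have hu : IsUnit (algebraMap P' L' (algebraMap P P' g)) :=
    IsLocalization.map_units L' (⟨_, hg⟩ : p'.primeCompl)
  let ν : C →+* L' := IsLocalization.Away.lift (algebraMap P P' g) hu
  letI := ν.toAlgebra
  haveI : IsScalarTower P' C L' :=
    IsScalarTower.of_algebraMap_eq fun x => (IsLocalization.Away.lift_eq _ hu x).symm
  have hν : ν.Flat := (Module.flat_iff_of_isLocalization _ (Submonoid.powers (algebraMap P P' g)) _).mpr
    (IsLocalization.flat L' p'.primeCompl)
  have hspan' : Ideal.span (Set.range fun i => ν (algebraMap B C (l.get i))) =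
      (I.map (algebraMap P P')).map (algebraMap P' L') := by
    have := congrArg (fun J => (J.map (algebraMap B C)).map ν) hspan
    simp only [Ideal.map_span, ← Set.range_comp] at this
    refine this.trans ?_
    rw [Ideal.map_map, Ideal.map_map, Ideal.map_map, RingHom.comp_assoc, ← IsScalarTower.algebraMap_eq P B C,
      IsScalarTower.algebraMap_eq P P' C, ← RingHom.comp_assoc, IsLocalization.Away.lift_comp]
  refine kRegAt_of_fibRegAt (R := R') (hfg.map _) p'
    (fibRegAt_of_quasiRegular p' _ (fun i => ?_) hspan' (GrothLib.SeqKinds.isQuasiRegular_map ν hν _ hq))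
  rw [← Localization.AtPrime.map_eq_maximalIdeal]
  exact Ideal.map_mono (Ideal.map_le_iff_le_comap.mpr hIp) (hspan' ▸ Ideal.subset_span ⟨i, rfl⟩)

/-- Koszul regularity with flat quotient descends from a base change. -/
theorem kRegAt_of_baseChange [Module.Flat R P] [Algebra.FinitePresentation R' P'] {I : Ideal P} (hfg : I.FG)
    [Module.Flat R (P ⧸ I)] [Module.Flat R' (P' ⧸ I.map (algebraMap P P'))] (p' : Ideal P') [p'.IsPrime]
    (hIp : I ≤ p'.comap (algebraMap P P')) (h : KRegAt (I.map (algebraMap P P')) p') :
    KRegAt I (p'.comap (algebraMap P P')) := by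
  classical
  obtain ⟨n', a', ha', hreg'⟩ := fibRegAt_of_kRegAt (R := R') p' (Ideal.map_le_iff_le_comap.mpr hIp) h
  set p := p'.comap (algebraMap P P') with hp
  set r := p.comap (algebraMap R P) with hr
  set r' := p'.comap (algebraMap R' P') with hr'
  have hrr : r'.comap (algebraMap R R') = r := by
    rw [hr, hp, hr', Ideal.comap_comap, Ideal.comap_comap, ← IsScalarTower.algebraMap_eq,
      ← IsScalarTower.algebraMap_eq]
  -- fibre rings
  let T := r'.Fiber P'
  letI algP'T : Algebra P' T := Algebra.TensorProduct.rightAlgebra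
  let k := r.ResidueField
  let k' := r'.ResidueField
  let κ : k →+* k' := Ideal.ResidueField.map r r' (algebraMap R R') hrr.symm
  letI := κ.toAlgebra
  haveI : IsScalarTower R k k' := IsScalarTower.of_algebraMap_eq fun x => by
    show _ = κ (algebraMap R k x)
    simp only [κ]
    rw [IsScalarTower.algebraMap_apply R R' k']
    exact (Ideal.ResidueField.map_algebraMap r r' (algebraMap R R') hrr.symm x).symm
  haveI : IsScalarTower R R' T := inferInstance
  letI : Algebra P T := ((algebraMap P' T).comp (algebraMap P P')).toAlgebra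
  haveI : IsScalarTower P P' T := IsScalarTower.of_algebraMap_eq fun _ => rfl
  haveI : IsScalarTower R' P' T := inferInstance
  haveI : IsScalarTower R P' T := IsScalarTower.to₁₃₄ R R' P' T
  haveI : IsScalarTower R P T := IsScalarTower.to₁₂₄ R P P' T
  let tA : r.Fiber P →ₐ[R] T := Algebra.TensorProduct.lift
    ((IsScalarTower.toAlgHom R k' T).comp (IsScalarTower.toAlgHom R k k')) (IsScalarTower.toAlgHom R P T)
    fun _ _ => Commute.all _ _
  have htA : ∀ (c : k) (x : P), tA (c ⊗ₜ x) = (κ c) ⊗ₜ (1 : P') * ((1 : k') ⊗ₜ algebraMap P P' x) := fun c x => by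
    simp only [tA, Algebra.TensorProduct.lift_tmul]
    rfl
  have htflat : tA.toRingHom.Flat := by
    letI := tA.toRingHom.toAlgebra
    haveI : IsScalarTower k k' T := inferInstance
    haveI : IsScalarTower k (r.Fiber P) T := IsScalarTower.of_algebraMap_eq fun c => by
      show (κ c) ⊗ₜ (1 : P') = tA (c ⊗ₜ 1)
      rw [htA, map_one, Algebra.TensorProduct.tmul_mul_tmul, mul_one, mul_one]
    letI algP : Algebra P (r.Fiber P) := Algebra.TensorProduct.rightAlgebra
    haveI : IsScalarTower P (r.Fiber P) T := IsScalarTower.of_algebraMap_eq fun x => by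
      show (1 : k') ⊗ₜ algebraMap P P' x = tA (1 ⊗ₜ x)
      rw [htA, map_one, Algebra.TensorProduct.tmul_mul_tmul, mul_one, one_mul]
    haveI : IsScalarTower R k T := IsScalarTower.to₁₂₄ R k k' T
    haveI hRPk'T : Algebra.IsPushout R P k' T :=
      haveI : Algebra.IsPushout R' P' k' T := Algebra.IsPushout.symm inferInstance
      haveI : Algebra.IsPushout R R' P P' := Algebra.IsPushout.symm inferInstance
      Algebra.IsPushout.symm ((Algebra.IsPushout.comp_iff (R := R) (S := R') (R' := P) (S' := P')).mpr
        (Algebra.IsPushout.symm inferInstance))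
    haveI : Algebra.IsPushout k k' (r.Fiber P) T := by
      haveI : Algebra.IsPushout R k P (r.Fiber P) := inferInstance
      exact (Algebra.IsPushout.comp_iff (R := R) (S := k) (R' := P) (S' := r.Fiber P)).mp
        (Algebra.IsPushout.symm hRPk'T)
    exact Module.Flat.isBaseChange k (r.Fiber P) k' T (Algebra.IsPushout.symm inferInstance).out
  -- primes of the fibres
  let q₁ : PrimeSpectrum T := PrimeSpectrum.preimageEquivFiber R' P' ⟨r', inferInstance⟩
    ⟨⟨p', inferInstance⟩, rfl⟩
  have hq₁ : q₁.asIdeal.comap Algebra.TensorProduct.includeRight.toRingHom = p' :=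
    congrArg (fun z => z.1.asIdeal) ((PrimeSpectrum.preimageEquivFiber R' P' ⟨r', inferInstance⟩).symm_apply_apply
      ⟨⟨p', inferInstance⟩, rfl⟩)
  let q₀ := q₁.asIdeal.comap tA.toRingHom
  have hq₀ : q₀.comap Algebra.TensorProduct.includeRight.toRingHom = p := by
    refine Eq.trans ?_ ((congrArg (Ideal.comap (algebraMap P P')) hq₁).trans hp.symm)
    rw [Ideal.comap_comap, Ideal.comap_comap]
    congr 1
    ext x
    show tA ((1 : k) ⊗ₜ x) = (1 : k') ⊗ₜ algebraMap P P' x
    rw [htA, map_one, Algebra.TensorProduct.tmul_mul_tmul, mul_one, one_mul]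
  obtain ⟨e₀, he₀⟩ := exists_fibre_equiv r q₀ p hq₀
  obtain ⟨e₁, he₁⟩ := exists_fibre_equiv r' q₁.asIdeal p' hq₁
  let t' := Localization.localRingHom q₀ q₁.asIdeal tA.toRingHom rfl
  have ht' : RingHom.Flat (R := Localization.AtPrime q₀) (S := Localization.AtPrime q₁.asIdeal) t' := by
    letI : Algebra (Localization.AtPrime q₀) (Localization.AtPrime q₁.asIdeal) := @RingHom.toAlgebra _ _ inferInstance inferInstance t'
    letI : Algebra (r.Fiber P) T := tA.toRingHom.toAlgebra
    haveI : Module.Flat (r.Fiber P) T := htflat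
    haveI : IsScalarTower (r.Fiber P) T (Localization.AtPrime q₁.asIdeal) := inferInstance
    haveI : IsScalarTower (r.Fiber P) (Localization.AtPrime q₀) (Localization.AtPrime q₁.asIdeal) :=
      IsScalarTower.of_algebraMap_eq fun z =>
        (IsScalarTower.algebraMap_apply (r.Fiber P) T (Localization.AtPrime q₁.asIdeal) z).trans
          (Localization.localRingHom_to_map q₀ q₁.asIdeal tA.toRingHom rfl z).symm
    haveI : Module.Flat T (Localization.AtPrime q₁.asIdeal) := IsLocalization.flat _ q₁.asIdeal.primeCompl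
    exact (Module.flat_iff_of_isLocalization _ q₀.primeCompl _).mpr
      (Module.Flat.trans (r.Fiber P) T (Localization.AtPrime q₁.asIdeal))
  let L := Localization.AtPrime p
  let L' := Localization.AtPrime p'
  let F := L ⧸ fibreMax R p
  let F' := L' ⧸ fibreMax R' p'
  let φ : F →+* F' := (e₁.toRingHom.comp t').comp e₀.symm.toRingHom
  have hφ : φ.Flat := ((RingHom.Flat.of_bijective e₀.symm.bijective).comp
    (ht'.comp (RingHom.Flat.of_bijective e₁.bijective)))
  have hφx : ∀ x : P, φ (Ideal.Quotient.mk _ (algebraMap P L x)) =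
      Ideal.Quotient.mk _ (algebraMap P' L' (algebraMap P P' x)) := fun x => by
    rw [← he₁ (algebraMap P P' x)]
    show e₁ (t' (e₀.symm _)) = _
    rw [← he₀ x, RingEquiv.symm_apply_apply, Localization.localRingHom_to_map]
    congr 2
    show tA ((1 : k) ⊗ₜ x) = _
    rw [htA, map_one, Algebra.TensorProduct.tmul_mul_tmul, mul_one, one_mul]
  haveI : Nontrivial F := Ideal.Quotient.nontrivial_iff.mpr
    (ne_top_of_le_ne_top (maximalIdeal.isMaximal L).ne_top (fibreMax_le p))
  haveI : Nontrivial F' := Ideal.Quotient.nontrivial_iff.mpr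
    (ne_top_of_le_ne_top (maximalIdeal.isMaximal L').ne_top (fibreMax_le p'))
  haveI : IsLocalRing F := .of_surjective' (Ideal.Quotient.mk _) Ideal.Quotient.mk_surjective
  haveI : IsLocalRing F' := .of_surjective' (Ideal.Quotient.mk _) Ideal.Quotient.mk_surjective
  letI := φ.toAlgebra
  haveI : Module.Flat F F' := hφ
  haveI : IsLocalHom (algebraMap F F') := by
    show IsLocalHom φ
    haveI : IsLocalHom t' := Localization.isLocalHom_localRingHom _ _ _ _
    exact ⟨fun z hz => by
      have hz' : IsUnit (e₁.toRingHom (t' (e₀.symm.toRingHom z))) := hz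
      have h1 : IsUnit (t' (e₀.symm.toRingHom z)) := (isUnit_map_iff e₁ _).mp hz'
      exact (isUnit_map_iff e₀.symm _).mp ((isUnit_map_iff t' _).mp h1)⟩
  haveI : Module.FaithfullyFlat F F' := Module.FaithfullyFlat.of_flat_of_isLocalHom
  let IF : Ideal F := (I.map (algebraMap P L)).map (Ideal.Quotient.mk _)
  have hIF' : IF.map (algebraMap F F') =
      ((I.map (algebraMap P P')).map (algebraMap P' L')).map (Ideal.Quotient.mk _) := by
    simp only [IF, Ideal.map_map]
    congr 1
    exact RingHom.ext hφx
  have hfgF : IF.FG := (hfg.map _).map _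
  obtain ⟨ybar, hybar⟩ := exists_span_range_eq hfgF
  have hlift : ∀ i, ∃ y ∈ I.map (algebraMap P L), Ideal.Quotient.mk (fibreMax R p) y = ybar i := fun i =>
    (Ideal.mem_map_iff_of_surjective _ Ideal.Quotient.mk_surjective).mp (hybar.le (Ideal.subset_span ⟨i, rfl⟩))
  choose y hy hyb using hlift
  -- regular generators on the new fibre
  let lF' : List F' := ((List.ofFn a').map (Ideal.Quotient.mk _)).reverse
  have hlF' : LCI.IsKoszulRegularSeq F' lF' :=
    GrothLib.KoszulColon.isKoszulRegularSeq_of_isWeaklyRegular _ (by rw [List.reverse_reverse]; exact hreg'.1)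
  have hlspan : Ideal.ofList lF' = IF.map (algebraMap F F') := by
    rw [hIF', ← ha', Ideal.map_span, ← Set.range_comp]
    simp [lF', Ideal.ofList, List.mem_ofFn, Set.range, Function.comp_def]
    try rfl
  have hmax : Ideal.ofList lF' ≤ maximalIdeal F' := by
    rw [hlspan]
    refine IsLocalRing.le_maximalIdeal fun htop => ?_
    rw [hIF'] at htop
    have := congrArg (Ideal.comap (Ideal.Quotient.mk (fibreMax R' p'))) htop
    rw [Ideal.comap_map_of_surjective' _ Ideal.Quotient.mk_surjective, Ideal.mk_ker, Ideal.comap_top] at this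
    refine (maximalIdeal.isMaximal L').ne_top (top_unique (this ▸ sup_le ?_ (fibreMax_le p')))
    rw [← Localization.AtPrime.map_eq_maximalIdeal]
    exact Ideal.map_mono (Ideal.map_le_iff_le_comap.mpr hIp)
  have hlen : IF.spanFinrank = lF'.length := by
    rw [← spanFinrank_map_eq (Q := F') hfgF, ← hlspan, spanFinrank_ofList _ lF' hlF' hmax]
  let yF' : Fin IF.spanFinrank → F' := fun i => algebraMap F F' (ybar i)
  have hyF' : Ideal.span (Set.range yF') = Ideal.ofList lF' := by
    rw [hlspan, show yF' = algebraMap F F' ∘ ybar from rfl, Set.range_comp, ← Ideal.map_span, hybar]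
  have hN : ∀ j, ∃ c : Fin IF.spanFinrank → F', ∑ i, c i * yF' i = lF'.get j := fun j =>
    Ideal.mem_span_range_iff_exists_fun.mp (hyF' ▸ Ideal.subset_span (List.get_mem lF' j))
  choose N hN using hN
  let e : Fin IF.spanFinrank ≃ Fin lF'.length := finCongr hlen
  have hdet := (length_le_of_isKoszulRegularSeq (maximalIdeal F') lF' hlF'
    (fun i => hmax (Ideal.subset_span (List.get_mem lF' i))) yF' hyF').2 e (Matrix.of N) (funext hN)
  let M : Matrix (Fin lF'.length) (Fin lF'.length) F' := (Matrix.of N).submatrix id e.symm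
  have hM : IsUnit M.det := notMem_maximalIdeal.mp hdet
  have hk' := isKoszulRegularSeq_mulVec M⁻¹ (Matrix.isUnit_nonsing_inv_det M hM) lF'.get (by rwa [List.ofFn_get])
  have hMy : M.mulVec (yF' ∘ e.symm) = lF'.get := by
    rw [show M = (Matrix.of N).submatrix id e.symm from rfl, Matrix.submatrix_mulVec_equiv]
    simp [Function.comp_assoc]
    exact funext hN
  rw [← hMy, Matrix.mulVec_mulVec, Matrix.nonsing_inv_mul M hM, Matrix.one_mulVec] at hk'
  have hkF : LCI.IsKoszulRegularSeq F (List.ofFn ybar) := by
    refine isKoszulRegularSeq_of_faithfullyFlat (Q := F') _ ?_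
    convert hk' using 1
    apply List.ext_getElem
    · simp [hlen]
    · intro i h1 h2
      simp [yF', e]
  haveI : IsNoetherianRing F := by
    let Rr := Localization.AtPrime r
    letI := (Localization.localRingHom r p (algebraMap R P) rfl).toAlgebra
    haveI : IsScalarTower R Rr L := IsScalarTower.of_algebraMap_eq fun x => by
      show _ = Localization.localRingHom r p (algebraMap R P) rfl (algebraMap R Rr x)
      rw [Localization.localRingHom_to_map, ← IsScalarTower.algebraMap_apply]
    have := GrothLib.RelReg.isNoetherianRing_fibre (R := Rr) (A := L)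
      (GrothLib.FibreFlat.isEssFinitePresentation_localization r.primeCompl p.primeCompl)
    have e' : (maximalIdeal Rr).map (algebraMap Rr L) = fibreMax R p := by
      rw [← Localization.AtPrime.map_eq_maximalIdeal (I := r), Ideal.map_map, ← IsScalarTower.algebraMap_eq,
        IsScalarTower.algebraMap_eq R P L, ← Ideal.map_map]
    exact isNoetherianRing_of_ringEquiv _ (Ideal.quotEquivOfEq e')
  have hyspan : Ideal.span (Set.range y) = I.map (algebraMap P L) := by
    let Rr := Localization.AtPrime r
    letI := (Localization.localRingHom r p (algebraMap R P) rfl).toAlgebra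
    haveI : IsLocalHom (algebraMap Rr L) := Localization.isLocalHom_localRingHom r p (algebraMap R P) rfl
    haveI : IsScalarTower R Rr L := IsScalarTower.of_algebraMap_eq fun x => by
      show _ = Localization.localRingHom r p (algebraMap R P) rfl (algebraMap R Rr x)
      rw [Localization.localRingHom_to_map, ← IsScalarTower.algebraMap_apply]
    haveI : Module.Flat (P ⧸ I) (L ⧸ I.map (algebraMap P L)) :=
      IsLocalization.flat _ (Algebra.algebraMapSubmonoid (P ⧸ I) p.primeCompl)
    haveI : IsScalarTower R (P ⧸ I) (L ⧸ I.map (algebraMap P L)) := IsScalarTower.to₁₃₄ R P (P ⧸ I) _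
    haveI : Module.Flat R (L ⧸ I.map (algebraMap P L)) := Module.Flat.trans R (P ⧸ I) _
    haveI : Module.Flat Rr (L ⧸ I.map (algebraMap P L)) :=
      (Module.flat_iff_of_isLocalization Rr r.primeCompl _).mpr inferInstance
    have e' : (maximalIdeal Rr).map (algebraMap Rr L) = fibreMax R p := by
      rw [← Localization.AtPrime.map_eq_maximalIdeal (I := r), Ideal.map_map, ← IsScalarTower.algebraMap_eq,
        IsScalarTower.algebraMap_eq R P L, ← Ideal.map_map]
    refine (GrothLib.RelReg.eq_span_of_fibre (R := Rr) _ (hfg.map _) y hy ?_).symm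
    rw [e']
    have hcm : Ideal.map (Ideal.Quotient.mk (fibreMax R p)) (Ideal.span (Set.range y)) = IF := by
      refine Eq.trans ?_ hybar
      rw [Ideal.map_span, ← Set.range_comp]
      congr 2
      exact funext hyb
    intro z hz
    have : Ideal.Quotient.mk (fibreMax R p) z ∈ Ideal.map (Ideal.Quotient.mk (fibreMax R p)) (Ideal.span (Set.range y)) :=
      hcm.ge (Ideal.mem_map_of_mem _ hz)
    have h' := Ideal.mem_comap.mpr this
    rwa [Ideal.comap_map_of_surjective' _ Ideal.Quotient.mk_surjective, Ideal.mk_ker] at h'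
  refine kRegAt_of_fibRegAt (R := R) hfg p ⟨IF.spanFinrank, y, hyspan, ?_⟩
  have hmy : ∀ i, ybar i ∈ maximalIdeal F := fun i => by
    have h1 : yF' i ∈ maximalIdeal F' := hmax (hyF' ▸ Ideal.subset_span ⟨i, rfl⟩)
    exact (map_mem_nonunits_iff (algebraMap F F') _).mp h1
  have hH1 : CAlgX.IsQuasiRegular ybar := by
    have := GrothLib.SeqKinds.isQuasiRegular_of_isH1Regular _
      (GrothLib.SeqKinds.isH1Regular_of_isKoszulRegularSeq _ hkF)
    have key : ∀ (m : ℕ) (f : Fin m → F) (hm : m = IF.spanFinrank),
        CAlgX.IsQuasiRegular f → (∀ i, f i = ybar (Fin.cast hm i)) → CAlgX.IsQuasiRegular ybar := by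
      intro m f hm hf hfy
      subst hm
      have : f = ybar := funext hfy
      exact this ▸ hf
    exact key _ _ (List.length_ofFn) this fun i => by simp; rfl
  have hr2 := GrothLib.SeqKinds.isRegular_of_isQuasiRegular ybar hmy hH1
  rw [List.map_ofFn, show (Ideal.Quotient.mk (fibreMax R p)) ∘ y = ybar from funext hyb]
  exact hr2

end GrothLib.LCI6
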