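import Groth.Agent.Lib.LCI6.Field
import Groth.Agent.Lib.LCI6.BaseChange

/-!
# Syntomic ring maps are the flat local complete intersections
-/

universe u

open TensorProduct

namespace GrothLib.LCI6

variable {R S : Type u} [CommRing R] [CommRing S] [Algebra R S]

/-- Regularity of a presentation of a flat algebra is fibrewise. -/
theorem kRegAt_fibre_iff [Module.Flat R S] {n : ℕ} (α : MvPolynomial (Fin n) R →ₐ[R] S)
    (hα : Function.Surjective α) (hfg : (RingHom.ker α.toRingHom).FG) (r : Ideal R) [r.IsPrime]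
    (q' : Ideal (r.Fiber S)) [q'.IsPrime] :
    ∃ β : MvPolynomial (Fin n) r.ResidueField →ₐ[r.ResidueField] r.Fiber S, Function.Surjective β ∧
      (KRegAt (RingHom.ker α.toRingHom)
          ((q'.comap Algebra.TensorProduct.includeRight.toRingHom).comap α.toRingHom) ↔
        KRegAt (RingHom.ker β.toRingHom) (q'.comap β.toRingHom)) := by
  letI : Algebra S (r.Fiber S) := Algebra.TensorProduct.rightAlgebra
  haveI : IsScalarTower R S (r.Fiber S) := Algebra.TensorProduct.right_isScalarTower
  haveI : Algebra.IsPushout R S r.ResidueField (r.Fiber S) := Algebra.IsPushout.symm inferInstance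
  obtain ⟨β, hβ, hker, hcomm⟩ := ker_aeval_baseChange (A' := r.ResidueField) (B' := r.Fiber S) α hα
  refine ⟨β, hβ, ?_⟩
  let P := MvPolynomial (Fin n) R
  let P' := MvPolynomial (Fin n) r.ResidueField
  letI : Algebra P P' := MvPolynomial.algebraMvPolynomial
  haveI : Algebra.IsPushout R P r.ResidueField P' := inferInstance
  haveI : IsScalarTower R P P' := inferInstance
  haveI : Module.Flat R (P ⧸ RingHom.ker α.toRingHom) :=
    Module.Flat.of_linearEquiv (Ideal.quotientKerAlgEquivOfSurjective hα).toLinearEquiv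
  haveI : Module.Flat r.ResidueField (P' ⧸ (RingHom.ker α.toRingHom).map (algebraMap P P')) := inferInstance
  have hcp : (q'.comap Algebra.TensorProduct.includeRight.toRingHom).comap α.toRingHom =
      (q'.comap β.toRingHom).comap (algebraMap P P') := by
    rw [Ideal.comap_comap, Ideal.comap_comap]
    congr 1
    exact RingHom.ext fun p => (hcomm p).symm
  have hle : RingHom.ker α.toRingHom ≤ (q'.comap β.toRingHom).comap (algebraMap P P') :=
    hcp ▸ ker_le_comap _ _
  rw [hcp, hker]
  exact ⟨fun h => kRegAt_baseChange (R := R) (R' := r.ResidueField) hfg _ hle h,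
    fun h => kRegAt_of_baseChange (R := R) (R' := r.ResidueField) hfg _ hle h⟩

/-- Syntomic means flat and LCI. -/
theorem isSyntomic_iff : Synt.IsSyntomic R S ↔ Module.Flat R S ∧ LCI.IsLCI R S := by
  constructor
  · rintro ⟨hflat, hfp, hfib⟩
    haveI := hflat
    haveI := hfp
    haveI : Algebra.FiniteType R S := inferInstance
    obtain ⟨n, α, hα⟩ := Algebra.FiniteType.iff_quotient_mvPolynomial''.mp (inferInstance : Algebra.FiniteType R S)
    refine ⟨hflat, inferInstance, n, α, hα, (isKoszulRegularIdeal_ker_iff _ hα).mpr fun 𝔮 _ => ?_⟩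
    let r := 𝔮.comap (algebraMap R S)
    let q₁ := PrimeSpectrum.preimageEquivFiber R S ⟨r, inferInstance⟩ ⟨⟨𝔮, inferInstance⟩, rfl⟩
    have hq₁ : q₁.asIdeal.comap Algebra.TensorProduct.includeRight.toRingHom = 𝔮 :=
      congrArg (fun z => z.1.asIdeal)
        ((PrimeSpectrum.preimageEquivFiber R S ⟨r, inferInstance⟩).symm_apply_apply ⟨⟨𝔮, inferInstance⟩, rfl⟩)
    obtain ⟨β, hβ, hiff⟩ := kRegAt_fibre_iff α hα
      (Algebra.FinitePresentation.ker_fG_of_surjective α hα) r q₁.asIdeal
    rw [hq₁] at hiff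
    exact hiff.mpr ((isKoszulRegularIdeal_ker_iff _ hβ).mp
      (isKoszulRegularIdeal_of_isLCI (isLCIOver_iff_isLCI.mp (hfib ⟨r, inferInstance⟩)) β hβ) _ inferInstance)
  · rintro ⟨hflat, -, n, α, hα, hI⟩
    haveI := hflat
    have hfg := fg_of_isKoszulRegularIdeal hI
    refine ⟨hflat, Algebra.FinitePresentation.of_surjective hα hfg, fun r => isLCIOver_iff_isLCI.mpr ?_⟩
    haveI : Algebra.FiniteType R S := Algebra.FiniteType.of_surjective α hα
    haveI : Algebra.FiniteType r.asIdeal.ResidueField (r.asIdeal.Fiber S) := inferInstance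
    obtain ⟨m, β', hβ'⟩ := Algebra.FiniteType.iff_quotient_mvPolynomial''.mp
      (inferInstance : Algebra.FiniteType r.asIdeal.ResidueField (r.asIdeal.Fiber S))
    refine ⟨inferInstance, m, β', hβ', (isKoszulRegularIdeal_ker_iff _ hβ').mpr fun Q _ => ?_⟩
    obtain ⟨β, hβ, hiff⟩ := kRegAt_fibre_iff α hα hfg r.asIdeal Q
    exact kRegAt_of_presentation β hβ β' hβ' Q
      (hiff.mp ((isKoszulRegularIdeal_ker_iff _ hα).mp hI _ inferInstance))

end GrothLib.LCI6
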