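import Groth.Agent.Lib.LCI6.UpDown
import Groth.Agent.Lib.SeqKinds.Basic
import Mathlib.Algebra.Module.SpanRank
import Mathlib.LinearAlgebra.Matrix.Rank
import Mathlib.RingTheory.Flat.EquationalCriterion
import Mathlib.RingTheory.Flat.FaithfullyFlat.Algebra
import Mathlib.RingTheory.Ideal.GoingDown
import Mathlib.RingTheory.Localization.LocalizationLocalization
import Mathlib.RingTheory.Localization.Finiteness

/-!
# Faithfully flat descent of Koszul regular ideals
-/

universe u

open IsLocalRing

namespace GrothLib.LCI6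

/-- Faithfully flat maps reflect Koszul regularity of sequences. -/
theorem isKoszulRegularSeq_of_faithfullyFlat {P Q : Type u} [CommRing P] [CommRing Q] [Algebra P Q]
    [Module.FaithfullyFlat P Q] (l : List P)
    (h : LCI.IsKoszulRegularSeq Q (l.map (algebraMap P Q))) : LCI.IsKoszulRegularSeq P l := by
  intro i hi
  rw [← HomologicalComplex.exactAt_iff_isZero_homology,
    HomologicalComplex.exactAt_iff' _ (i - 1) i (i + 1) (by simp) (by simp),
    CategoryTheory.ShortComplex.ShortExact.moduleCat_exact_iff_function_exact]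
  have hex := GrothLib.KoszulColon.exact_lTensor_of_koszul Q (algebraMap P Q) (fun _ => rfl) l i
    ((HomologicalComplex.exactAt_iff_isZero_homology _ i).2 (h i hi))
  exact (Module.FaithfullyFlat.lTensor_exact_iff_exact P Q _ _).mp hex

section Minimal

variable {Q : Type u} [CommRing Q]

/-- Comparing a Koszul regular sequence with other generators at a prime containing it. -/
theorem matrix_of_isKoszulRegularSeq (q : Ideal Q) [q.IsPrime] (l : List Q)
    (hl : LCI.IsKoszulRegularSeq Q l) (hlq : ∀ i, l.get i ∈ q) {s : ℕ}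
    (N : Matrix (Fin l.length) (Fin s) Q) (M : Matrix (Fin s) (Fin l.length) Q)
    (h : (N * M).mulVec l.get = l.get) (i j : Fin l.length) :
    (N * M) i j - (if i = j then 1 else 0) ∈ q := by
  classical
  have hrel : ∑ k, (N * M - 1 : Matrix (Fin l.length) (Fin l.length) Q) i k * l.get k = 0 := by
    have := congrFun (show (N * M - 1).mulVec l.get = 0 by
      rw [Matrix.sub_mulVec, h, Matrix.one_mulVec, sub_self]) i
    simpa [Matrix.mulVec, dotProduct] using this
  have hmem := GrothLib.SeqKinds.isH1Regular_of_isKoszulRegularSeq l hl _ hrel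
  have key : ∀ v ∈ Submodule.span Q {v : Fin l.length → Q | ∃ i j : Fin l.length,
      v = Pi.single i (l.get j) - Pi.single j (l.get i)}, ∀ k, v k ∈ q := by
    intro v hv
    induction hv using Submodule.span_induction with
    | mem v hv =>
      obtain ⟨a, b, rfl⟩ := hv
      intro k
      simp only [Pi.sub_apply, Pi.single_apply]
      split_ifs <;> first | exact sub_mem (hlq _) (hlq _) | exact sub_mem (hlq _) (zero_mem q) |
        exact sub_mem (zero_mem q) (hlq _) | exact sub_mem (zero_mem q) (zero_mem q)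
    | zero => exact fun _ => zero_mem q
    | add _ _ _ _ ha hb => exact fun k => add_mem (ha k) (hb k)
    | smul c _ _ ha => exact fun k => Ideal.mul_mem_left q c (ha k)
  simpa [Matrix.sub_apply, Matrix.one_apply] using key _ hmem j

/-- A Koszul regular sequence in a prime is no longer than any generating system. -/
theorem length_le_of_isKoszulRegularSeq (q : Ideal Q) [q.IsPrime] (l : List Q)
    (hl : LCI.IsKoszulRegularSeq Q l) (hlq : ∀ i, l.get i ∈ q) {s : ℕ} (y : Fin s → Q)
    (hy : Ideal.span (Set.range y) = Ideal.ofList l) :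
    l.length ≤ s ∧ (∀ (e : Fin s ≃ Fin l.length) (N : Matrix (Fin l.length) (Fin s) Q),
      N.mulVec y = l.get → (N.submatrix id e.symm).det ∉ q) := by
  classical
  have hM : ∀ i, ∃ c : Fin l.length → Q, ∑ k, c k * l.get k = y i := fun i => by
    refine Ideal.mem_span_range_iff_exists_fun.mp ?_
    rw [Set.range_list_get, show Ideal.span {x | x ∈ l} = Ideal.ofList l from rfl, ← hy]
    exact Ideal.subset_span ⟨i, rfl⟩
  choose M hM using hM
  have hN : ∀ k, ∃ c : Fin s → Q, ∑ i, c i * y i = l.get k := fun k => by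
    refine Ideal.mem_span_range_iff_exists_fun.mp ?_
    rw [hy]
    exact Ideal.subset_span (List.get_mem l k)
  choose N hN using hN
  have key : ∀ N : Matrix (Fin l.length) (Fin s) Q, N.mulVec y = l.get →
      (N.map (Ideal.Quotient.mk q)) * (Matrix.map (Matrix.of M) (Ideal.Quotient.mk q)) = 1 := by
    intro N hN
    ext i j
    have hh : (N * Matrix.of M).mulVec l.get = l.get := by
      rw [← Matrix.mulVec_mulVec, show (Matrix.of M).mulVec l.get = y from funext fun i => hM i, hN]
    have := matrix_of_isKoszulRegularSeq q l hl hlq N (Matrix.of M) hh i j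
    rw [← Matrix.map_mul, Matrix.map_apply, ← sub_eq_zero, Matrix.one_apply,
      show (if i = j then (1 : Q ⧸ q) else 0) = Ideal.Quotient.mk q (if i = j then 1 else 0) by
        split_ifs <;> simp, ← map_sub]
    exact Ideal.Quotient.eq_zero_iff_mem.mpr this
  refine ⟨?_, fun e N' hN' hdet => ?_⟩
  · let K := FractionRing (Q ⧸ q)
    let f : Q ⧸ q →+* K := algebraMap _ _
    have h1 := congrArg (fun T => Matrix.map T f) (key (Matrix.of N) (funext hN))
    simp only [Matrix.map_mul, map_zero, map_one, Matrix.map_one] at h1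
    have h2 := Matrix.rank_mul_le_left (((Matrix.of N).map (Ideal.Quotient.mk q)).map f)
      (((Matrix.of M).map (Ideal.Quotient.mk q)).map f)
    rw [h1, Matrix.rank_one, Fintype.card_fin] at h2
    exact h2.trans ((Matrix.rank_le_card_width _).trans (Fintype.card_fin s).le)
  · have h1 := key N' hN'
    have h2 : (N'.submatrix id e.symm).map (Ideal.Quotient.mk q) *
        (Matrix.map (Matrix.of M) (Ideal.Quotient.mk q)).submatrix e.symm id = 1 := by
      rw [← Matrix.submatrix_map, Matrix.submatrix_mul_equiv, h1]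
      rfl
    have h3 := congrArg Matrix.det h2
    rw [Matrix.det_mul, Matrix.det_one, ← RingHom.mapMatrix_apply, ← RingHom.map_det,
      Ideal.Quotient.eq_zero_iff_mem.mpr hdet, zero_mul] at h3
    exact zero_ne_one h3

end Minimal

theorem spanFinrank_le_of_span_range {P : Type u} [CommRing P] {n : ℕ} (y : Fin n → P) :
    (Ideal.span (Set.range y)).spanFinrank ≤ n :=
  (Submodule.spanFinrank_span_le_ncard_of_finite (Set.finite_range y)).trans <| by
    rw [← Set.image_univ]
    exact (Set.ncard_image_le Set.finite_univ).trans (by simp)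

theorem exists_span_range_eq {P : Type u} [CommRing P] {J : Ideal P} (hJ : J.FG) :
    ∃ y : Fin J.spanFinrank → P, Ideal.span (Set.range y) = J := by
  obtain ⟨s, hs, hspan⟩ := Submodule.FG.exists_span_finset_card_eq_spanFinrank hJ
  refine ⟨fun i => ((s.equivFinOfCardEq hs).symm i).1, ?_⟩
  rw [Set.range_comp', Equiv.range_eq_univ, Set.image_univ, Subtype.range_coe_subtype]
  exact hspan

/-- A Koszul regular sequence in a prime is a minimal generating system. -/
theorem spanFinrank_ofList {Q : Type u} [CommRing Q] (q : Ideal Q) [q.IsPrime] (l : List Q)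
    (hl : LCI.IsKoszulRegularSeq Q l) (hlq : Ideal.ofList l ≤ q) :
    (Ideal.ofList l).spanFinrank = l.length := by
  have hget : Ideal.span (Set.range l.get) = Ideal.ofList l := by
    rw [Set.range_list_get]
  refine le_antisymm (hget ▸ spanFinrank_le_of_span_range l.get) ?_
  obtain ⟨y, hy⟩ := exists_span_range_eq (J := Ideal.ofList l)
    (hget ▸ ⟨(Set.finite_range l.get).toFinset, by simp⟩)
  exact (length_le_of_isKoszulRegularSeq q l hl (fun i => hlq (Ideal.subset_span (List.get_mem l i))) y hy).1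

/-- The minimal number of generators is invariant under flat local homomorphisms. -/
theorem spanFinrank_map_eq {P Q : Type u} [CommRing P] [CommRing Q] [IsLocalRing P] [IsLocalRing Q]
    [Algebra P Q] [Module.Flat P Q] [IsLocalHom (algebraMap P Q)] {J : Ideal P} (hJ : J.FG) :
    (J.map (algebraMap P Q)).spanFinrank = J.spanFinrank := by
  classical
  refine le_antisymm (Ideal.spanFinrank_map_le_of_fg _ hJ) ?_
  obtain ⟨y, hy⟩ := exists_span_range_eq hJ
  obtain ⟨r, hr, x, hx⟩ : ∃ r, r = (J.map (algebraMap P Q)).spanFinrank ∧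
      ∃ x : Fin r → Q, Ideal.span (Set.range x) = J.map (algebraMap P Q) :=
    ⟨_, rfl, exists_span_range_eq (hJ.map (algebraMap P Q))⟩
  rw [← hr]
  have hyQ : Ideal.span (Set.range (algebraMap P Q ∘ y)) = J.map (algebraMap P Q) := by
    rw [Set.range_comp, ← Ideal.map_span, hy]
  have hM : ∀ i, ∃ c : Fin r → Q, ∑ k, c k * x k = algebraMap P Q (y i) := fun i => by
    refine Ideal.mem_span_range_iff_exists_fun.mp ?_
    rw [hx, ← hyQ]
    exact Ideal.subset_span ⟨i, rfl⟩
  choose M hM using hM
  have hN : ∀ k, ∃ c : Fin J.spanFinrank → Q, ∑ i, c i * algebraMap P Q (y i) = x k := fun k => by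
    refine Ideal.mem_span_range_iff_exists_fun.mp ?_
    rw [show (fun i => algebraMap P Q (y i)) = algebraMap P Q ∘ y from rfl, hyQ, ← hx]
    exact Ideal.subset_span ⟨k, rfl⟩
  choose N hN using hN
  have hrel : ∀ b : Fin J.spanFinrank → P, ∑ i, y i * b i = 0 → ∀ i, b i ∈ maximalIdeal P := by
    intro b hb i
    by_contra hu
    have hu' : IsUnit (b i) := notMem_maximalIdeal.mp hu
    have hi : y i ∈ Ideal.span (y '' {j | j ≠ i}) := by
      rw [← Finset.add_sum_erase _ _ (Finset.mem_univ i), add_eq_zero_iff_eq_neg] at hb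
      have : y i = (-(∑ j ∈ Finset.univ.erase i, y j * b j)) * ↑hu'.unit⁻¹ := by
        rw [← hb, mul_assoc, IsUnit.mul_val_inv, mul_one]
      rw [this]
      refine Ideal.mul_mem_right _ _ (neg_mem (sum_mem fun j hj => Ideal.mul_mem_right _ _
        (Ideal.subset_span ⟨j, (Finset.mem_erase.mp hj).1, rfl⟩)))
    have hJ' : Ideal.span (y '' {j | j ≠ i}) = J := by
      refine le_antisymm ((Ideal.span_mono (Set.image_subset_range y _)).trans hy.le) (hy.ge.trans ?_)
      refine Ideal.span_le.mpr ?_
      rintro _ ⟨j, rfl⟩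
      by_cases hj : j = i
      · exact hj ▸ hi
      · exact Ideal.subset_span ⟨j, hj, rfl⟩
    have h1 := Submodule.spanFinrank_span_le_ncard_of_finite (R := P)
      ((Set.toFinite {j : Fin J.spanFinrank | j ≠ i}).image y)
    rw [show Submodule.span P (y '' {j | j ≠ i}) = J from hJ'] at h1
    have h2 : {j : Fin J.spanFinrank | j ≠ i}.ncard < J.spanFinrank := by
      conv_rhs => rw [← Nat.card_fin J.spanFinrank, ← Set.ncard_univ]
      exact Set.ncard_lt_ncard (Set.ssubset_univ_iff.mpr fun h => (h.ge (Set.mem_univ i) : i ≠ i) rfl)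
        Set.finite_univ
    have h3 := Set.ncard_image_le (f := y) (Set.toFinite {j : Fin J.spanFinrank | j ≠ i})
    omega
  have hid : ∀ i j, (Matrix.of M * Matrix.of N) i j - (if i = j then 1 else 0) ∈ maximalIdeal Q := by
    intro i j
    have h0 : ∑ k, y k • ((Matrix.of M * Matrix.of N) i k - (if i = k then 1 else 0)) = 0 := by
      simp only [Algebra.smul_def, mul_sub, Finset.sum_sub_distrib, mul_ite, mul_one, mul_zero,
        Finset.sum_ite_eq, Finset.mem_univ, if_true, sub_eq_zero, Matrix.mul_apply, Matrix.of_apply,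
        Finset.mul_sum]
      rw [Finset.sum_comm, ← hM i]
      refine Finset.sum_congr rfl fun k _ => ?_
      rw [← hN k, Finset.mul_sum]
      exact Finset.sum_congr rfl fun l _ => by ring
    obtain ⟨k, a, z, ha, hb⟩ := Module.Flat.isTrivialRelation_of_sum_smul_eq_zero h0
    have haj := ha j
    simp only at haj
    rw [haj]
    refine sum_mem fun t _ => ?_
    rw [Algebra.smul_def]
    exact Ideal.mul_mem_right _ _ ((map_mem_nonunits_iff (algebraMap P Q) _).mpr (hrel _ (hb t) j))
  let f : Q →+* ResidueField Q := residue Q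
  have h1 : (Matrix.of M).map f * (Matrix.of N).map f = 1 := by
    rw [← Matrix.map_mul]
    ext i j
    rw [Matrix.map_apply, Matrix.one_apply, ← sub_eq_zero,
      show (if i = j then (1 : ResidueField Q) else 0) = f (if i = j then 1 else 0) by
        split_ifs <;> simp [f], ← map_sub]
    exact (residue_eq_zero_iff _).mpr (hid i j)
  have h2 := Matrix.rank_mul_le_left ((Matrix.of M).map f) ((Matrix.of N).map f)
  rw [h1, Matrix.rank_one, Fintype.card_fin] at h2
  exact h2.trans ((Matrix.rank_le_card_width _).trans (Fintype.card_fin r).le)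

/-- The minimal number of generators at a prime. -/
noncomputable def numGen {P : Type u} [CommRing P] (I p : Ideal P) [p.IsPrime] : ℕ :=
  (I.map (algebraMap P (Localization.AtPrime p))).spanFinrank

theorem numGen_map_eq {P Q : Type u} [CommRing P] [CommRing Q] [Algebra P Q] [Module.Flat P Q]
    {I : Ideal P} (hI : I.FG) (q : Ideal Q) [q.IsPrime] (p : Ideal P) [p.IsPrime]
    (hp : q.comap (algebraMap P Q) = p) :
    numGen (I.map (algebraMap P Q)) q = numGen I p := by
  let φ := Localization.localRingHom p q (algebraMap P Q) hp.symm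
  letI := φ.toAlgebra
  haveI : IsLocalHom (algebraMap (Localization.AtPrime p) (Localization.AtPrime q)) :=
    Localization.isLocalHom_localRingHom p q (algebraMap P Q) hp.symm
  haveI : IsScalarTower P (Localization.AtPrime p) (Localization.AtPrime q) :=
    IsScalarTower.of_algebraMap_eq fun x => by
      show _ = φ (algebraMap P _ x)
      rw [Localization.localRingHom_to_map, ← IsScalarTower.algebraMap_apply]
  haveI : Module.Flat P (Localization.AtPrime q) :=
    haveI := IsLocalization.flat (Localization.AtPrime q) q.primeCompl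
    Module.Flat.trans P Q _
  haveI : Module.Flat (Localization.AtPrime p) (Localization.AtPrime q) :=
    (Module.flat_iff_of_isLocalization _ p.primeCompl _).mpr inferInstance
  rw [numGen, Ideal.map_map, ← IsScalarTower.algebraMap_eq,
    IsScalarTower.algebraMap_eq P (Localization.AtPrime p) (Localization.AtPrime q), ← Ideal.map_map]
  exact spanFinrank_map_eq (hI.map _)

/-- Transporting regular generators to the local rings. -/
theorem exists_atPrime_list {Q : Type u} [CommRing Q] {I : Ideal Q} (g : Q) (l : List (Localization.Away g))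
    (hl : LCI.IsKoszulRegularSeq (Localization.Away g) l)
    (hI : I.map (algebraMap Q (Localization.Away g)) = Ideal.ofList l) (q : Ideal Q) [q.IsPrime] (hg : g ∉ q) :
    ∃ l' : List (Localization.AtPrime q), l'.length = l.length ∧
      LCI.IsKoszulRegularSeq (Localization.AtPrime q) l' ∧
      I.map (algebraMap Q (Localization.AtPrime q)) = Ideal.ofList l' := by
  have hu : IsUnit (algebraMap Q (Localization.AtPrime q) g) :=
    IsLocalization.map_units (Localization.AtPrime q) (⟨g, hg⟩ : q.primeCompl)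
  let ψ : Localization.Away g →+* Localization.AtPrime q := IsLocalization.Away.lift g hu
  letI := ψ.toAlgebra
  haveI : IsScalarTower Q (Localization.Away g) (Localization.AtPrime q) :=
    IsScalarTower.of_algebraMap_eq fun x => (IsLocalization.Away.lift_eq g hu x).symm
  have hflat : ψ.Flat := (Module.flat_iff_of_isLocalization _ (Submonoid.powers g) _).mpr
    (IsLocalization.flat (Localization.AtPrime q) q.primeCompl)
  refine ⟨l.map ψ, by simp, GrothLib.KoszulColon.isKoszulRegularSeq_map ψ hflat l hl, ?_⟩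
  rw [← Ideal.map_ofList, ← hI, Ideal.map_map, IsLocalization.Away.lift_comp]

theorem numGen_eq_length {Q : Type u} [CommRing Q] {I : Ideal Q} (g : Q) (l : List (Localization.Away g))
    (hl : LCI.IsKoszulRegularSeq (Localization.Away g) l)
    (hI : I.map (algebraMap Q (Localization.Away g)) = Ideal.ofList l) (q : Ideal Q) [q.IsPrime]
    (hg : g ∉ q) (hIq : I ≤ q) : numGen I q = l.length := by
  obtain ⟨l', h0, h1, h2⟩ := exists_atPrime_list g l hl hI q hg
  have hle : Ideal.ofList l' ≤ maximalIdeal (Localization.AtPrime q) := by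
    rw [← h2, ← Localization.AtPrime.map_eq_maximalIdeal]
    exact Ideal.map_mono hIq
  rw [numGen, h2, spanFinrank_ofList _ l' h1 hle, h0]

/-- Koszul regularity descends along flat maps which are surjective on spectra. -/
theorem kRegAt_descent {P Q : Type u} [CommRing P] [CommRing Q] [Algebra P Q] [Module.Flat P Q]
    (hsurj : ∀ p : Ideal P, ∀ _ : p.IsPrime, ∃ q : Ideal Q, q.IsPrime ∧ q.comap (algebraMap P Q) = p)
    {I : Ideal P} (hI : I.FG)
    (h : ∀ q : Ideal Q, ∀ _ : q.IsPrime, I.map (algebraMap P Q) ≤ q → KRegAt (I.map (algebraMap P Q)) q)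
    (p : Ideal P) [p.IsPrime] (hIp : I ≤ p) : KRegAt I p := by
  classical
  set r := numGen I p with hr
  set IQ := I.map (algebraMap P Q) with hIQ
  have hle : ∀ (q : Ideal Q) (p₁ : Ideal P), q.comap (algebraMap P Q) = p₁ → (IQ ≤ q ↔ I ≤ p₁) :=
    fun q p₁ hq => by rw [← hq]; exact Ideal.map_le_iff_le_comap
  have hloc : ∀ (q q' : Ideal Q) (_ : q.IsPrime) (_ : q'.IsPrime), q ≤ q' → IQ ≤ q →
      numGen IQ q = numGen IQ q' := by
    intro q q' _ _ hqq hq
    obtain ⟨g, hg, l, hl, hIl⟩ := h q' inferInstance (hq.trans hqq)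
    rw [numGen_eq_length g l hl hIl q (fun hgq => hg (hqq hgq)) hq,
      numGen_eq_length g l hl hIl q' hg (hq.trans hqq)]
  let Z : Set (PrimeSpectrum Q) := {q | IQ ≤ q.asIdeal ∧ numGen IQ q.asIdeal ≠ r}
  have hZ : IsClosed Z := by
    rw [← isOpen_compl_iff, isOpen_iff_forall_mem_open]
    intro q hq
    by_cases hq0 : IQ ≤ q.asIdeal
    · have hr' : numGen IQ q.asIdeal = r := by
        by_contra hne; exact hq ⟨hq0, hne⟩
      obtain ⟨g, hg, l, hl, hIl⟩ := h q.asIdeal inferInstance hq0
      refine ⟨PrimeSpectrum.basicOpen g, fun q₁ hq₁ hq₁Z => hq₁Z.2 ?_,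
        (PrimeSpectrum.basicOpen g).2, hg⟩
      rw [numGen_eq_length g l hl hIl q₁.asIdeal hq₁ hq₁Z.1, ← numGen_eq_length g l hl hIl q.asIdeal hg hq0, hr']
    · obtain ⟨a, ha, haq⟩ := Set.not_subset.mp hq0
      exact ⟨PrimeSpectrum.basicOpen a, fun q₁ hq₁ hq₁Z => hq₁ (hq₁Z.1 ha),
        (PrimeSpectrum.basicOpen a).2, haq⟩
  have hcl : IsClosed (PrimeSpectrum.comap (algebraMap P Q) '' Z) := by
    refine PrimeSpectrum.isClosed_image_of_stableUnderSpecialization _ _ hZ ?_
    rintro p₁ p₂ hspec ⟨q₁, ⟨hq₁, hne⟩, rfl⟩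
    obtain ⟨q₂, hq₂, hqp⟩ := hsurj p₂.asIdeal inferInstance
    haveI : q₂.LiesOver p₂.asIdeal := ⟨hqp.symm⟩
    have hle' : (PrimeSpectrum.comap (algebraMap P Q) q₁).asIdeal ≤ p₂.asIdeal :=
      (PrimeSpectrum.le_iff_specializes _ _).mpr hspec
    haveI := hq₂
    obtain ⟨q₁', hq₁le, hq₁p, hq₁o⟩ := Ideal.exists_ideal_le_liesOver_of_le q₂ hle'
    refine ⟨⟨q₂, hq₂⟩, ⟨?_, ?_⟩, PrimeSpectrum.ext hqp⟩
    · exact (hle q₂ _ hqp).mpr (((hle q₁.asIdeal _ rfl).mp hq₁).trans hle')
    · have h1 : IQ ≤ q₁' := (hle q₁' _ hq₁o.over.symm).mpr ((hle q₁.asIdeal _ rfl).mp hq₁)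
      show numGen IQ q₂ ≠ r
      rw [← hloc q₁' q₂ hq₁p hq₂ hq₁le h1, numGen_map_eq hI q₁' _ hq₁o.over.symm]
      exact fun h => hne ((numGen_map_eq hI q₁.asIdeal _ rfl).trans h)
  have hpZ : (⟨p, inferInstance⟩ : PrimeSpectrum P) ∉ PrimeSpectrum.comap (algebraMap P Q) '' Z := by
    rintro ⟨q, ⟨-, hne⟩, hqp⟩
    exact hne (numGen_map_eq hI q.asIdeal p (congrArg PrimeSpectrum.asIdeal hqp))
  obtain ⟨U, hU⟩ : ∃ g : P, g ∉ p ∧ ∀ p₁ : PrimeSpectrum P, g ∉ p₁.asIdeal →
      p₁ ∉ PrimeSpectrum.comap (algebraMap P Q) '' Z := by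
    obtain ⟨V, ⟨g, rfl⟩, hgp, hgV⟩ := PrimeSpectrum.isTopologicalBasis_basic_opens.exists_subset_of_mem_open
      (show (⟨p, inferInstance⟩ : PrimeSpectrum P) ∈ (PrimeSpectrum.comap (algebraMap P Q) '' Z)ᶜ from hpZ)
      hcl.isOpen_compl
    exact ⟨g, hgp, fun p₁ hp₁ => hgV hp₁⟩
  obtain ⟨y, hy⟩ := exists_span_range_eq (hI.map (algebraMap P (Localization.AtPrime p)))
  have hclear : ∀ i, ∃ (a : P) (s : P), a ∈ I ∧ s ∉ p ∧
      algebraMap P (Localization.AtPrime p) a = algebraMap P _ s * y i := by
    intro i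
    have hi : y i ∈ I.map (algebraMap P (Localization.AtPrime p)) := hy ▸ Ideal.subset_span ⟨i, rfl⟩
    obtain ⟨⟨⟨a, ha⟩, s⟩, hs⟩ := (IsLocalization.mem_map_algebraMap_iff p.primeCompl _).mp hi
    exact ⟨a, s, ha, s.2, by rw [← hs, mul_comm]⟩
  choose x s hx hs hxs using hclear
  have hgen : ∀ a ∈ I, ∃ t, t ∉ p ∧ t * a ∈ Ideal.span (Set.range x) := by
    intro a ha
    have : algebraMap P (Localization.AtPrime p) a ∈
        (Ideal.span (Set.range x)).map (algebraMap P (Localization.AtPrime p)) := by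
      refine (hy.symm.trans_le (Ideal.span_le.mpr ?_)) (Ideal.mem_map_of_mem _ ha)
      rintro _ ⟨i, rfl⟩
      have hu : IsUnit (algebraMap P (Localization.AtPrime p) (s i)) :=
        IsLocalization.map_units _ (⟨s i, hs i⟩ : p.primeCompl)
      rw [SetLike.mem_coe, show y i = ↑hu.unit⁻¹ * algebraMap P _ (x i) by
        rw [hxs, ← mul_assoc, IsUnit.val_inv_mul, one_mul]]
      exact Ideal.mul_mem_left _ _ (Ideal.mem_map_of_mem _ (Ideal.subset_span ⟨i, rfl⟩))
    obtain ⟨t, ht, ht'⟩ := (IsLocalization.algebraMap_mem_map_algebraMap_iff p.primeCompl _ _ _).mp this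
    exact ⟨t, ht, ht'⟩
  obtain ⟨F, hF⟩ := hI
  choose! t ht ht' using hgen
  let g := U * ∏ a ∈ F, t a
  have hgp : g ∉ p := fun hg => by
    rcases (Ideal.IsPrime.mem_or_mem inferInstance hg) with h1 | h1
    · exact hU.1 h1
    · obtain ⟨a, haF, ha⟩ := (Ideal.IsPrime.prod_mem_iff).mp h1
      exact ht a (hF ▸ Ideal.subset_span haF) ha
  let B := Localization.Away g
  have hIB : I.map (algebraMap P B) = Ideal.ofList (List.ofFn fun i => algebraMap P B (x i)) := by
    rw [ofList_ofFn]
    refine le_antisymm ?_ (Ideal.span_le.mpr ?_)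
    · refine Ideal.map_le_iff_le_comap.mpr (hF.ge.trans (Ideal.span_le.mpr fun a haF => ?_))
      show algebraMap P B a ∈ Ideal.span (Set.range fun i => algebraMap P B (x i))
      have hdiv : t a ∣ g := (Finset.dvd_prod_of_mem t haF).mul_left U
      have hu : IsUnit (algebraMap P B (t a)) :=
        isUnit_of_dvd_unit (map_dvd _ hdiv) (IsLocalization.Away.algebraMap_isUnit g)
      have hm := Ideal.mem_map_of_mem (algebraMap P B) (ht' a (hF ▸ Ideal.subset_span haF))
      rw [map_mul, Ideal.map_span, ← Set.range_comp] at hm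
      exact (Ideal.unit_mul_mem_iff_mem _ hu).mp hm
    · rintro _ ⟨i, rfl⟩
      exact Ideal.mem_map_of_mem _ (hx i)
  refine ⟨g, hgp, List.ofFn fun i => algebraMap P B (x i), ?_, hIB⟩
  refine GrothLib.KoszulColon.isKoszulRegularSeq_of_localized _ fun P₀ _ hP₀ => ?_
  set p₁ := P₀.comap (algebraMap P B) with hp₁
  have hIp₁ : I ≤ p₁ := Ideal.map_le_iff_le_comap.mp (hIB.trans_le hP₀)
  have hgp₁ : g ∉ p₁ := fun hg => (inferInstance : P₀.IsPrime).ne_top
    (Ideal.eq_top_of_isUnit_mem P₀ hg (IsLocalization.Away.algebraMap_isUnit g))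
  have hUp₁ : U ∉ p₁ := fun hU' => hgp₁ (Ideal.mul_mem_right _ _ hU')
  obtain ⟨q₁, hq₁, hqp₁⟩ := hsurj p₁ inferInstance
  haveI := hq₁
  have hIq₁ : IQ ≤ q₁ := (hle q₁ p₁ hqp₁).mpr hIp₁
  have hn : numGen IQ q₁ = r := by
    by_contra hne
    exact hU.2 ⟨p₁, inferInstance⟩ hUp₁ ⟨⟨q₁, hq₁⟩, ⟨hIq₁, hne⟩, PrimeSpectrum.ext hqp₁⟩
  obtain ⟨g', hg', l, hl, hIl⟩ := h q₁ hq₁ hIq₁
  obtain ⟨l', hlen, hl', hIl'⟩ := exists_atPrime_list g' l hl hIl q₁ hg'
  let Qq := Localization.AtPrime q₁
  have hlen' : l'.length = r := by rw [hlen, ← numGen_eq_length g' l hl hIl q₁ hg' hIq₁, hn]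
  have hmax : Ideal.ofList l' ≤ maximalIdeal Qq := by
    rw [← hIl', ← Localization.AtPrime.map_eq_maximalIdeal]
    exact Ideal.map_mono hIq₁
  let e₀ := IsLocalization.algEquiv p₁.primeCompl (Localization.AtPrime p₁) (Localization.AtPrime P₀)
  let xp : List (Localization.AtPrime p₁) := List.ofFn fun i => algebraMap P (Localization.AtPrime p₁) (x i)
  suffices H : LCI.IsKoszulRegularSeq (Localization.AtPrime p₁) xp by
    have := isKoszulRegularSeq_equiv e₀.toRingEquiv xp H
    simp only [xp, List.map_ofFn] at this ⊢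
    convert this using 2
    funext i
    show algebraMap B _ (algebraMap P B (x i)) = e₀ (algebraMap P _ (x i))
    rw [AlgEquiv.commutes, ← IsScalarTower.algebraMap_apply]
  let φ := Localization.localRingHom p₁ q₁ (algebraMap P Q) hqp₁.symm
  letI := φ.toAlgebra
  haveI : IsLocalHom (algebraMap (Localization.AtPrime p₁) Qq) :=
    Localization.isLocalHom_localRingHom p₁ q₁ (algebraMap P Q) hqp₁.symm
  haveI : IsScalarTower P (Localization.AtPrime p₁) Qq :=
    IsScalarTower.of_algebraMap_eq fun a => by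
      show _ = φ (algebraMap P _ a)
      rw [Localization.localRingHom_to_map, ← IsScalarTower.algebraMap_apply]
  haveI : Module.Flat P Qq :=
    haveI := IsLocalization.flat Qq q₁.primeCompl
    Module.Flat.trans P Q _
  haveI : Module.Flat (Localization.AtPrime p₁) Qq :=
    (Module.flat_iff_of_isLocalization _ p₁.primeCompl _).mpr inferInstance
  haveI : Module.FaithfullyFlat (Localization.AtPrime p₁) Qq := Module.FaithfullyFlat.of_flat_of_isLocalHom
  refine isKoszulRegularSeq_of_faithfullyFlat (Q := Qq) xp ?_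
  let y' : Fin r → Qq := fun i => algebraMap P Qq (x i)
  have hy' : Ideal.span (Set.range y') = Ideal.ofList l' := by
    rw [← hIl', hIQ, Ideal.map_map, ← IsScalarTower.algebraMap_eq]
    have hu : IsUnit (algebraMap P Qq g) := by
      rw [IsScalarTower.algebraMap_apply P (Localization.AtPrime p₁) Qq]
      exact (IsLocalization.map_units _ (⟨g, hgp₁⟩ : p₁.primeCompl)).map _
    have := congrArg (Ideal.map (IsLocalization.Away.lift (S := B) g hu)) hIB
    rw [Ideal.map_map, IsLocalization.Away.lift_comp, Ideal.map_ofList, List.map_ofFn, ofList_ofFn] at this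
    rw [this]
    congr 2
    funext i
    simp [y', IsLocalization.Away.lift_eq]
  have hN : ∀ k, ∃ c : Fin r → Qq, ∑ i, c i * y' i = l'.get k := fun k =>
    Ideal.mem_span_range_iff_exists_fun.mp (hy' ▸ Ideal.subset_span (List.get_mem l' k))
  choose N hN using hN
  let e : Fin r ≃ Fin l'.length := finCongr hlen'.symm
  have hdet := (length_le_of_isKoszulRegularSeq (maximalIdeal Qq) l' hl'
    (fun i => hmax (Ideal.subset_span (List.get_mem l' i))) y' hy').2 e (Matrix.of N) (funext hN)
  let T : Matrix (Fin l'.length) (Fin l'.length) Qq := (Matrix.of N).submatrix id e.symm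
  have hT : IsUnit T.det := notMem_maximalIdeal.mp hdet
  have hreg := isKoszulRegularSeq_mulVec T⁻¹ (Matrix.isUnit_nonsing_inv_det T hT) l'.get (by rwa [List.ofFn_get])
  have hTy : T⁻¹.mulVec l'.get = y' ∘ e.symm := by
    have : T.mulVec (y' ∘ e.symm) = l'.get := by
      rw [show T = (Matrix.of N).submatrix id e.symm from rfl, Matrix.submatrix_mulVec_equiv]
      simp [Function.comp_assoc]
      exact funext hN
    rw [← this, Matrix.mulVec_mulVec, Matrix.nonsing_inv_mul T hT, Matrix.one_mulVec]
  rw [hTy] at hreg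
  convert hreg using 1
  apply List.ext_getElem
  · simp only [xp, List.length_map, List.length_ofFn, hlen']; rfl
  · intro i h1 h2
    simp [xp, y', e, ← IsScalarTower.algebraMap_apply]
    rfl

/-- Koszul regular ideals are finitely generated. -/
theorem fg_of_isKoszulRegularIdeal {P : Type u} [CommRing P] {I : Ideal P}
    (h : LCI.IsKoszulRegularIdeal I) : I.FG := by
  refine Ideal.fg_of_localizationSpan {g : P | (I.map (algebraMap P (Localization.Away g))).FG} ?_
    fun g => g.2
  by_contra hne
  obtain ⟨m, hm, hle⟩ := Ideal.exists_le_maximal _ hne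
  haveI := hm.isPrime
  by_cases hIm : I ≤ m
  · obtain ⟨g, hg, l, -, hl⟩ := h ⟨m, inferInstance⟩ hIm
    classical
    exact hg (hle (Ideal.subset_span (show (I.map (algebraMap P (Localization.Away g))).FG by
      rw [hl]; exact ⟨l.toFinset, by simp [Ideal.ofList]⟩)))
  · obtain ⟨g, hgI, hgm⟩ := Set.not_subset.mp hIm
    refine hgm (hle (Ideal.subset_span (show (I.map (algebraMap P (Localization.Away g))).FG from ?_)))
    rw [Ideal.eq_top_of_isUnit_mem _ (Ideal.mem_map_of_mem _ hgI) (IsLocalization.Away.algebraMap_isUnit g)]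
    exact ⟨{1}, by simp⟩

/-- Faithfully flat descent of Koszul regular ideals. -/
theorem isKoszulRegularIdeal_of_faithfullyFlat {P Q : Type u} [CommRing P] [CommRing Q] [Algebra P Q]
    [Module.FaithfullyFlat P Q] {I : Ideal P} (h : LCI.IsKoszulRegularIdeal (I.map (algebraMap P Q))) :
    LCI.IsKoszulRegularIdeal I := by
  classical
  have hfg : I.FG := by
    obtain ⟨F, hF⟩ := fg_of_isKoszulRegularIdeal h
    obtain ⟨W, hW, hFW⟩ := Submodule.subset_span_finite_of_subset_span
      (show (F : Set Q) ⊆ Submodule.span Q (algebraMap P Q '' (I : Set P)) from fun a ha => hF.le (Ideal.subset_span ha))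
    obtain ⟨T, hTI, hTW⟩ := Finset.subset_set_image_iff.mp hW
    refine ⟨T, Ideal.map_injective_of_faithfullyFlat (B := Q) (le_antisymm
      (Ideal.map_mono (Ideal.span_le.mpr hTI)) ?_)⟩
    rw [Ideal.map_span, ← Finset.coe_image, hTW]
    exact hF.ge.trans (Submodule.span_le.mpr hFW)
  rw [isKoszulRegularIdeal_iff] at h ⊢
  intro p hp hIp
  refine kRegAt_descent (Q := Q) (fun p₀ hp₀ => ?_) hfg h p hIp
  obtain ⟨q, hq⟩ := PrimeSpectrum.comap_surjective_of_faithfullyFlat (B := Q) ⟨p₀, hp₀⟩
  exact ⟨q.asIdeal, q.isPrime, congrArg PrimeSpectrum.asIdeal hq⟩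

end GrothLib.LCI6
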