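import Groth.Agent.Lib.LCI6.LCI
import Groth.Agent.Lib.LCI6.Descent
import Mathlib.RingTheory.Localization.Away.Basic
import Mathlib.RingTheory.Spectrum.Prime.RingHom
import Mathlib.RingTheory.TensorProduct.MvPolynomial
import Mathlib.RingTheory.Flat.FaithfullyFlat.Algebra
import Mathlib.RingTheory.IsTensorProduct

/-!
# Flat descent of local complete intersection ring maps
-/

universe u

namespace GrothLib.LCI6

/-- The kernel of a base-changed presentation is the extended ideal. -/
theorem ker_aeval_baseChange {A B A' B' : Type u} [CommRing A] [CommRing B] [CommRing A'] [CommRing B']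
    [Algebra A B] [Algebra A A'] [Algebra A B'] [Algebra B B'] [Algebra A' B'] [IsScalarTower A B B']
    [IsScalarTower A A' B'] [Algebra.IsPushout A B A' B'] {n : ℕ} (α : MvPolynomial (Fin n) A →ₐ[A] B)
    (hα : Function.Surjective α) :
    ∃ β : MvPolynomial (Fin n) A' →ₐ[A'] B', Function.Surjective β ∧
      RingHom.ker β.toRingHom =
        (RingHom.ker α.toRingHom).map (MvPolynomial.map (algebraMap A A')) ∧
      ∀ p, β (MvPolynomial.map (algebraMap A A') p) = algebraMap B B' (α p) := by
  let ψ : MvPolynomial (Fin n) A →+* MvPolynomial (Fin n) A' := MvPolynomial.map (algebraMap A A')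
  let J := (RingHom.ker α.toRingHom).map ψ
  let β : MvPolynomial (Fin n) A' →ₐ[A'] B' :=
    MvPolynomial.aeval fun i => algebraMap B B' (α (MvPolynomial.X i))
  have hβψ : ∀ p, β (ψ p) = algebraMap B B' (α p) := by
    refine RingHom.congr_fun (f := β.toRingHom.comp ψ) (g := (algebraMap B B').comp α.toRingHom)
      (MvPolynomial.ringHom_ext (fun a => ?_) fun i => ?_)
    · simp [ψ, β, AlgHom.commutes, ← IsScalarTower.algebraMap_apply]
    · simp [ψ, β]
  let ψA : MvPolynomial (Fin n) A →ₐ[A] MvPolynomial (Fin n) A' ⧸ J :=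
    { (Ideal.Quotient.mk J).comp ψ with
      commutes' := fun a => by
        show Ideal.Quotient.mk J (ψ (MvPolynomial.C a)) = _
        simp [ψ]
        rfl }
  let f : B →ₐ[A] MvPolynomial (Fin n) A' ⧸ J :=
    (Ideal.Quotient.liftₐ (RingHom.ker α) ψA fun x hx =>
      Ideal.Quotient.eq_zero_iff_mem.mpr (Ideal.mem_map_of_mem ψ hx)).comp
      (Ideal.quotientKerAlgEquivOfSurjective hα).symm.toAlgHom
  have hf : ∀ p, f (α p) = Ideal.Quotient.mk J (ψ p) := fun p => by
    have : (Ideal.quotientKerAlgEquivOfSurjective hα).symm (α p) = Ideal.Quotient.mk _ p :=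
      (AlgEquiv.symm_apply_eq _).mpr rfl
    simp only [f, AlgHom.comp_apply, AlgEquiv.coe_toAlgHom, this]
    rfl
  let g : A' →ₐ[A] MvPolynomial (Fin n) A' ⧸ J :=
    IsScalarTower.toAlgHom A A' _
  let θ := Algebra.pushoutDesc (R := A) (S := B) (R' := A') B' f g (fun _ _ => mul_comm _ _)
  have hθ : ∀ p, θ (β p) = Ideal.Quotient.mk J p := by
    refine RingHom.congr_fun (f := θ.toRingHom.comp β.toRingHom) (g := Ideal.Quotient.mk J)
      (MvPolynomial.ringHom_ext (fun a => ?_) fun i => ?_)
    · simp only [AlgHom.toRingHom_eq_coe, RingHom.comp_apply, RingHom.coe_coe]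
      rw [show β (MvPolynomial.C a) = algebraMap A' B' a from β.commutes a, Algebra.pushoutDesc_right]
      rfl
    · simp only [AlgHom.toRingHom_eq_coe, RingHom.comp_apply, RingHom.coe_coe]
      rw [show β (MvPolynomial.X i) = algebraMap B B' (α (MvPolynomial.X i)) from
        MvPolynomial.aeval_X _ _, Algebra.pushoutDesc_left, hf]
      simp [ψ]
  refine ⟨β, fun z => ?_, le_antisymm (fun p hp => ?_) (Ideal.map_le_iff_le_comap.mpr fun p hp => ?_), hβψ⟩
  · have hbc : IsBaseChange B (IsScalarTower.toAlgHom A A' B').toLinearMap := Algebra.IsPushout.out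
    induction z using hbc.inductionOn with
    | zero => exact ⟨0, map_zero _⟩
    | tmul a => exact ⟨MvPolynomial.C a, β.commutes a⟩
    | smul b z hz =>
      obtain ⟨c, rfl⟩ := hα b
      obtain ⟨q, rfl⟩ := hz
      exact ⟨ψ c * q, by rw [map_mul, hβψ, Algebra.smul_def]⟩
    | add z₁ z₂ h₁ h₂ =>
      obtain ⟨q₁, rfl⟩ := h₁
      obtain ⟨q₂, rfl⟩ := h₂
      exact ⟨q₁ + q₂, map_add _ _ _⟩
  · rw [← Ideal.Quotient.eq_zero_iff_mem, ← hθ, show β p = 0 from hp, map_zero]
  · show β (ψ p) = 0
    rw [hβψ, show α p = 0 from hp, map_zero]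

/-- `LCI.IsLCI` descends along finitely many jointly surjective flat ring maps. -/
theorem isLCI_of_flat_cover {A B : Type u} [CommRing A] [CommRing B] [Algebra A B] [Algebra.FiniteType A B]
    {ι : Type u} [Finite ι] (A' B' : ι → Type u) [∀ i, CommRing (A' i)] [∀ i, CommRing (B' i)]
    [∀ i, Algebra A (A' i)] [∀ i, Algebra A (B' i)] [∀ i, Algebra B (B' i)] [∀ i, Algebra (A' i) (B' i)]
    [∀ i, IsScalarTower A B (B' i)] [∀ i, IsScalarTower A (A' i) (B' i)]
    [∀ i, Algebra.IsPushout A B (A' i) (B' i)] [∀ i, Module.Flat A (A' i)]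
    (hsurj : ∀ p : Ideal A, ∀ _ : p.IsPrime,
      ∃ (i : ι) (q : Ideal (A' i)), q.IsPrime ∧ q.comap (algebraMap A (A' i)) = p)
    (h : ∀ i, LCI.IsLCI (A' i) (B' i)) : LCI.IsLCI A B := by
  classical
  cases nonempty_fintype ι
  obtain ⟨n, α, hα⟩ := Algebra.FiniteType.iff_quotient_mvPolynomial''.mp ‹Algebra.FiniteType A B›
  let AA := Π i, A' i
  haveI : Module.Flat A AA :=
    Module.Flat.of_linearEquiv (DFinsupp.linearEquivFunOnFintype (R := A) (M := A')).symm
  haveI : Module.FaithfullyFlat A AA := by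
    refine Module.FaithfullyFlat.of_comap_surjective fun p => ?_
    obtain ⟨i, q, hq, hqp⟩ := hsurj p.asIdeal inferInstance
    refine ⟨PrimeSpectrum.comap (Pi.evalRingHom A' i) ⟨q, hq⟩, PrimeSpectrum.ext ?_⟩
    show (q.comap (Pi.evalRingHom A' i)).comap (algebraMap A AA) = _
    rw [Ideal.comap_comap]
    exact hqp
  let Q := MvPolynomial (Fin n) AA
  let ψ : MvPolynomial (Fin n) A →+* Q := MvPolynomial.map (algebraMap A AA)
  letI : Algebra (MvPolynomial (Fin n) A) Q := MvPolynomial.algebraMvPolynomial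
  haveI : Module.FaithfullyFlat (MvPolynomial (Fin n) A) Q :=
    Module.FaithfullyFlat.of_linearEquiv _ _
      ((inferInstance : Algebra.IsPushout A (MvPolynomial (Fin n) A) AA Q).out).equiv.symm
  let I := RingHom.ker α.toRingHom
  refine ⟨inferInstance, n, α, hα, isKoszulRegularIdeal_of_faithfullyFlat (Q := Q)
    ((isKoszulRegularIdeal_iff _).mpr fun q hq hle => ?_)⟩
  obtain ⟨i, q₁, hq₁⟩ := PrimeSpectrum.exists_comap_evalRingHom_eq
    ⟨q.comap MvPolynomial.C, Ideal.IsPrime.comap _⟩
  have hq₁' : q₁.asIdeal.comap (Pi.evalRingHom A' i) = q.comap MvPolynomial.C :=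
    congrArg PrimeSpectrum.asIdeal hq₁
  let φ : Q →+* MvPolynomial (Fin n) (A' i) := MvPolynomial.map (Pi.evalRingHom A' i)
  have hφ : Function.Surjective φ := MvPolynomial.map_surjective _ (Function.surjective_eval i)
  let e : Q := MvPolynomial.C (Pi.single i (1 : A' i) : AA)
  have hkφ : RingHom.ker φ = Ideal.span {1 - e} := by
    rw [MvPolynomial.ker_map, RingHom.ker_evalRingHom, Ideal.map_span, Set.image_singleton, map_sub, map_one]
  have hle1 : RingHom.ker φ ≤ q := by
    rw [hkφ, Ideal.span_le, Set.singleton_subset_iff]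
    show MvPolynomial.C (1 : AA) - e ∈ q
    rw [← map_sub]
    have : (1 - Pi.single i (1 : A' i) : AA) ∈ q.comap MvPolynomial.C := by
      rw [← hq₁', Ideal.mem_comap, map_sub, map_one, Pi.evalRingHom_apply, Pi.single_eq_same, sub_self]
      exact zero_mem _
    exact this
  letI := φ.toAlgebra
  haveI : IsLocalization.Away e (MvPolynomial (Fin n) (A' i)) := by
    refine IsLocalization.away_of_isIdempotentElem ?_ hkφ hφ
    show e * e = e
    rw [← map_mul, ← Pi.single_mul, one_mul]
  haveI : (q.map φ).IsPrime := Ideal.map_isPrime_of_surjective hφ hle1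
  have hcomap : (q.map φ).comap φ = q := by
    rw [Ideal.comap_map_of_surjective' φ hφ, sup_eq_left.mpr hle1]
  refine KRegAt.of_away e (MvPolynomial (Fin n) (A' i)) (q.map φ) hcomap ?_
  rw [Ideal.map_map, show (algebraMap Q (MvPolynomial (Fin n) (A' i))).comp (algebraMap _ Q) =
      MvPolynomial.map (algebraMap A (A' i)) from
    RingHom.ext fun p => MvPolynomial.map_map _ _ p]
  obtain ⟨β, hβ, hker, -⟩ := ker_aeval_baseChange (A' := A' i) (B' := B' i) α hα
  have h1 := (isKoszulRegularIdeal_iff _).mp (isKoszulRegularIdeal_of_isLCI (h i) β hβ)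
  rw [hker] at h1
  refine h1 _ inferInstance ?_
  refine le_trans (le_of_eq ?_) (Ideal.map_mono (f := φ) hle)
  rw [Ideal.map_map]
  congr 1
  exact RingHom.ext fun p => (MvPolynomial.map_map (algebraMap A AA) (Pi.evalRingHom A' i) p).symm

end GrothLib.LCI6
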