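import Groth.Agent.Lib.LCI6.InLocus
import Mathlib.AlgebraicGeometry.Morphisms.FiniteType
import Mathlib.AlgebraicGeometry.Morphisms.Flat

/-!
# The factorisation and ring-map forms of local complete intersection morphisms agree
-/

universe u

open AlgebraicGeometry CategoryTheory CategoryTheory.Limits

namespace GrothLib.LCI6

theorem inLocus_specMap {A B : CommRingCat.{u}} (φ : A ⟶ B) (h : LCIHom φ.hom) (p : ↥(Spec B)) :
    InLocus (Spec.map φ) p := by
  refine ⟨⊤, ⊤, isAffineOpen_top _, isAffineOpen_top _, le_rfl, trivial, ?_⟩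
  have hr := lciHom_localizationAwayPreserves.respectsIso
  have e : (Spec.map φ).appLE ⊤ ⊤ le_rfl = (Scheme.ΓSpecIso A).hom ≫ φ ≫ (Scheme.ΓSpecIso B).inv := by
    rw [← Category.assoc, ← Scheme.ΓSpecIso_naturality, Category.assoc, Iso.hom_inv_id, Category.comp_id]
    simp [Scheme.Hom.appLE]
  have h' : LCIHom ((Spec.map φ).appLE ⊤ ⊤ le_rfl).hom := by
    rw [e, CommRingCat.hom_comp, hr.cancel_left_isIso, CommRingCat.hom_comp, hr.cancel_right_isIso]
    exact h
  exact h'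

/-- The two forms agree. -/
theorem isKoszulAt_iff_inLocus {X S : Scheme.{u}} (f : X ⟶ S) (x : X) :
    Synt.IsKoszulAt f x ↔ InLocus f x := by
  constructor
  · rintro ⟨U, P, i, π, hx, -, hi, hπ, hfac⟩
    haveI := hi.1
    haveI := hπ
    have h : InLocus (i ≫ π) ⟨x, hx⟩ :=
      inLocus_comp ((isRegularImmersion_iff_inLocus i).mp hi _) (inLocus_of_smooth π _)
    rw [hfac] at h
    exact (inLocus_openImmersion_comp_iff U.ι f (z := ⟨x, hx⟩)).mp h
  · rintro ⟨U, V, hU, hV, hUV, hx, hl⟩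
    letI := (f.appLE V U hUV).hom.toAlgebra
    obtain ⟨-, n, α, hα, hI⟩ := hl
    let P := CommRingCat.of (MvPolynomial (Fin n) Γ(S, V))
    let a : P ⟶ Γ(X, U) := CommRingCat.ofHom α.toRingHom
    let c : Γ(S, V) ⟶ P := CommRingCat.ofHom MvPolynomial.C
    let i : (U : Scheme.{u}) ⟶ Spec P := hU.isoSpec.hom ≫ Spec.map a
    let π : Spec P ⟶ S := Spec.map c ≫ hV.fromSpec
    haveI : IsClosedImmersion (Spec.map a) := IsClosedImmersion.spec_of_surjective a hα
    haveI : Smooth (Spec.map c) := by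
      rw [HasRingHomProperty.Spec_iff (P := @Smooth)]
      show RingHom.Smooth (algebraMap Γ(S, V) (MvPolynomial (Fin n) Γ(S, V)))
      exact RingHom.smooth_algebraMap.mpr ⟨inferInstance, inferInstance⟩
    have hca : c ≫ a = f.appLE V U hUV := by
      ext r
      exact α.commutes r
    have hfac : i ≫ π = U.ι ≫ f := by
      simp only [i, π, Category.assoc]
      rw [← Spec.map_comp_assoc, hca, hV.SpecMap_appLE_fromSpec f hU hUV, IsAffineOpen.isoSpec_hom_fromSpec_assoc]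
    refine ⟨U, Spec P, i, π, hx, ?_, ?_, inferInstance, hfac⟩
    · rw [← hfac]
      infer_instance
    · refine (isRegularImmersion_iff_inLocus i).mpr fun z => ?_
      refine inLocus_comp (inLocus_of_smooth _ z) (inLocus_specMap a ?_ _)
      letI := a.hom.toAlgebra
      exact (isLCI_iff_of_surjective (D := P) (B := Γ(X, U)) hα).mpr hI

theorem inLocus_iff_of_isKoszul {X S : Scheme.{u}} (f : X ⟶ S) :
    (∀ x, Synt.IsKoszulAt f x) ↔ ∀ x, InLocus f x :=
  forall_congr' fun x => isKoszulAt_iff_inLocus f x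

/-- LCI near every point is LCI on all pairs of affine opens. -/
theorem isLCI_of_forall_inLocus {X S : Scheme.{u}} (f : X ⟶ S) (h : ∀ x, InLocus f x) (U : X.Opens) (V : S.Opens)
    (hU : IsAffineOpen U) (hV : IsAffineOpen V) (hUV : U ≤ f ⁻¹ᵁ V) :
    letI := (f.appLE V U hUV).hom.toAlgebra
    LCI.IsLCI Γ(S, V) Γ(X, U) := by
  letI := (f.appLE V U hUV).hom.toAlgebra
  refine isLCI_of_span_eq_top {r : Γ(X, U) | LCI.IsLCI Γ(S, V) (Localization.Away r)} ?_ fun r hr => hr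
  refine hU.iSup_basicOpen_eq_self_iff.mp (le_antisymm (iSup_le fun r => X.basicOpen_le _) fun x hx => ?_)
  obtain ⟨s, hxs, hl⟩ := inLocus_exists (h x) hU hV hUV hx
  refine TopologicalSpace.Opens.mem_iSup.mpr ⟨⟨s, ?_⟩, hxs⟩
  letI := (f.appLE V (X.basicOpen s) ((X.basicOpen_le s).trans hUV)).hom.toAlgebra
  haveI := hU.isLocalization_basicOpen s
  haveI : IsScalarTower Γ(S, V) Γ(X, U) Γ(X, X.basicOpen s) := IsScalarTower.of_algebraMap_eq' (by
    show _ = (X.presheaf.map (homOfLE (X.basicOpen_le s)).op).hom.comp (f.appLE V U hUV).hom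
    rw [← CommRingCat.hom_comp, Scheme.Hom.appLE_map]
    rfl)
  exact isLCI_of_algEquiv
    ((IsLocalization.algEquiv (Submonoid.powers s) Γ(X, X.basicOpen s) (Localization.Away s)).restrictScalars Γ(S, V)) hl

theorem forall_inLocus_of_isLCI {X S : Scheme.{u}} (f : X ⟶ S)
    (h : ∀ (U : X.Opens) (V : S.Opens) (_ : IsAffineOpen U) (_ : IsAffineOpen V) (hUV : U ≤ f ⁻¹ᵁ V),
      letI := (f.appLE V U hUV).hom.toAlgebra
      LCI.IsLCI Γ(S, V) Γ(X, U)) (x : X) : InLocus f x := by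
  obtain ⟨V, hV, hy, -⟩ := exists_affine_le (x := f x) (O := (⊤ : S.Opens)) trivial
  obtain ⟨U, hU, hx, hUV⟩ := exists_affine_le (x := x) (O := f ⁻¹ᵁ V) hy
  exact ⟨U, V, hU, hV, hUV, hx, h U V hU hV hUV⟩

/-- Flat base change. -/
theorem inLocus_baseChange_flat {X Y X' Y' : Scheme.{u}} {f : X ⟶ Y} {g : Y' ⟶ Y} [Flat g] {f' : X' ⟶ Y'}
    {g' : X' ⟶ X} (hsq : IsPullback g' f' f g) {x' : X'} (h : InLocus f (g' x')) : InLocus f' x' := by
  obtain ⟨U, V, hU, hV, hUV, hx, hl⟩ := h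
  obtain ⟨W, hW, hxW, hWV⟩ := exists_affine_le (x := f' x') (O := g ⁻¹ᵁ V) (by
    show g (f' x') ∈ V
    rw [← Scheme.Hom.comp_apply, ← hsq.w, Scheme.Hom.comp_apply]
    exact hUV hx)
  let U' : X'.Opens := g' ⁻¹ᵁ U ⊓ f' ⁻¹ᵁ W
  haveI : IsAffine (V : Scheme) := hV
  haveI : IsAffine (U : Scheme) := hU
  haveI : IsAffine (W : Scheme) := hW
  have hU' : IsAffineOpen U' := .of_isIso (Scheme.Hom.isPullback_resLE hsq hWV hUV rfl).isoPullback.hom
  have hpo := (isIso_pushoutSection_iff hsq hWV hUV rfl).1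
    (isIso_pushoutSection_of_isAffineOpen hsq hWV hUV rfl hV hW hU)
  refine ⟨U', W, hU', hW, inf_le_right, ⟨hx, hxW⟩, ?_⟩
  letI := (f.appLE V U hUV).hom.toAlgebra
  letI := (g.appLE V W hWV).hom.toAlgebra
  letI := (g'.appLE U U' inf_le_left).hom.toAlgebra
  letI := (f'.appLE W U' inf_le_right).hom.toAlgebra
  letI : Algebra Γ(Y, V) Γ(X', U') := (f.appLE V U hUV ≫ g'.appLE U U' inf_le_left).hom.toAlgebra
  haveI : IsScalarTower Γ(Y, V) Γ(X, U) Γ(X', U') := IsScalarTower.of_algebraMap_eq' rfl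
  haveI : IsScalarTower Γ(Y, V) Γ(Y', W) Γ(X', U') := IsScalarTower.of_algebraMap_eq' (by
    show (f.appLE V U hUV ≫ g'.appLE U U' inf_le_left).hom = _
    rw [hpo.w]
    rfl)
  haveI : Algebra.IsPushout Γ(Y, V) Γ(X, U) Γ(Y', W) Γ(X', U') := CommRingCat.isPushout_iff_isPushout.1 hpo
  haveI : Module.Flat Γ(Y, V) Γ(Y', W) := HasRingHomProperty.appLE @Flat g inferInstance ⟨V, hV⟩ ⟨W, hW⟩ hWV
  exact isLCI_baseChange (A := Γ(Y, V)) (B := Γ(X, U)) Γ(Y', W) Γ(X', U') hl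

end GrothLib.LCI6
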