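import Groth.Agent.Lib.LCI6.At
import Mathlib.LinearAlgebra.Basis.VectorSpace
import Mathlib.LinearAlgebra.Matrix.ToLinearEquiv
import Mathlib.RingTheory.Localization.Algebra
import Mathlib.RingTheory.Localization.FractionRing
import Mathlib.LinearAlgebra.FreeModule.Finite.Basic

/-!
# Koszul regularity along quotients by Koszul regular sequences
-/

universe u

namespace GrothLib.LCI6

variable {R S : Type u} [CommRing R] [CommRing S]

theorem awayMap_surjective (π : R →+* S) (hπ : Function.Surjective π) (g : R) :
    Function.Surjective (Localization.awayMap π g) := by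
  haveI : IsLocalization ((Submonoid.powers g).map π) (Localization.Away (π g)) := by
    rw [Submonoid.map_powers]; infer_instance
  exact IsLocalization.map_surjective_of_surjective (M := Submonoid.powers g) _ _ hπ

theorem ker_awayMap (π : R →+* S) (g : R) :
    RingHom.ker (Localization.awayMap π g) =
      (RingHom.ker π).map (algebraMap R (Localization.Away g)) :=
  IsLocalization.ker_map (Localization.Away (π g)) π (Submonoid.map_powers π g)

theorem awayMap_comp (π : R →+* S) (g : R) :
    (Localization.awayMap π g).comp (algebraMap R (Localization.Away g)) =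
      (algebraMap S (Localization.Away (π g))).comp π :=
  IsLocalization.map_comp _

theorem ofList_append {A : Type u} [CommRing A] (m l : List A) :
    Ideal.ofList (m ++ l) = Ideal.ofList m ⊔ Ideal.ofList l :=
  Ideal.ofList_append m l

theorem ofList_ofFn {A : Type u} [CommRing A] {n : ℕ} (f : Fin n → A) :
    Ideal.ofList (List.ofFn f) = Ideal.span (Set.range f) := by
  simp only [Ideal.ofList]
  congr 1
  ext a
  simp [List.mem_ofFn]

/-- Ascending along a surjection with Koszul regular kernel. -/
theorem KRegAt.up (π : R →+* S) (hπ : Function.Surjective π) {J p : Ideal R} [p.IsPrime]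
    (p' : Ideal S) (hp' : p'.comap π = p) (hker : RingHom.ker π ≤ J)
    (h1 : KRegAt (RingHom.ker π) p) (h2 : KRegAt (J.map π) p') : KRegAt J p := by
  obtain ⟨g₁, hg₁, l₁, hl₁, hI₁⟩ := h1
  obtain ⟨g₂', hg₂', l₂, hl₂, hI₂⟩ := h2
  obtain ⟨g₂, rfl⟩ := hπ g₂'
  let g := g₁ * g₂
  have hg : g ∉ p := fun h => (Ideal.IsPrime.mem_or_mem inferInstance h).elim hg₁ fun h' =>
    hg₂' (by rw [← hp'] at h'; exact h')
  obtain ⟨l, hl, hI⟩ := exists_list_of_dvd g₁ g (Dvd.intro _ rfl) _ l₁ hl₁ hI₁ (Localization.Away g)
  obtain ⟨m', hm', hIm⟩ := exists_list_of_dvd (π g₂) (π g) (map_dvd π (dvd_mul_left g₂ g₁)) _ l₂ hl₂ hI₂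
    (Localization.Away (π g))
  let φ := Localization.awayMap π g
  have hφ : Function.Surjective φ := awayMap_surjective π hπ g
  have hkφ : RingHom.ker φ = Ideal.ofList l := (ker_awayMap π g).trans hI
  let m := m'.map (Function.surjInv hφ)
  have hm : m.map φ = m' := by
    simp [m, List.map_map, (Function.rightInverse_surjInv hφ).comp_eq_id]
  refine ⟨g, hg, m ++ l, (isKoszulRegularSeq_append_iff φ hφ l m hl hkφ).mpr (hm ▸ hm'), ?_⟩
  have hle : RingHom.ker φ ≤ J.map (algebraMap R (Localization.Away g)) :=
    (ker_awayMap π g).trans_le (Ideal.map_mono hker)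
  have key : Ideal.map φ (J.map (algebraMap R (Localization.Away g))) = Ideal.map φ (Ideal.ofList m) := by
    rw [Ideal.map_map, awayMap_comp, ← Ideal.map_map, hIm, Ideal.map_ofList, hm]
  have := congrArg (Ideal.comap φ) key
  rw [Ideal.comap_map_of_surjective' φ hφ, Ideal.comap_map_of_surjective' φ hφ, sup_eq_left.mpr hle,
    hkφ] at this
  rw [this, ofList_append]

/-- Generators coming from the ideal. -/
theorem KRegAt.exists_fin {J p : Ideal R} (h : KRegAt J p) :
    ∃ (g : R) (r : ℕ) (x : Fin r → R), g ∉ p ∧ (∀ i, x i ∈ J) ∧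
      LCI.IsKoszulRegularSeq (Localization.Away g)
        (List.ofFn fun i => algebraMap R (Localization.Away g) (x i)) ∧
      J.map (algebraMap R (Localization.Away g)) =
        Ideal.span (Set.range fun i => algebraMap R (Localization.Away g) (x i)) := by
  obtain ⟨g, hg, l, hl, hI⟩ := h
  have hmem : ∀ i : Fin l.length, ∃ (a : R) (c : Localization.Away g), a ∈ J ∧ IsUnit c ∧
      algebraMap R (Localization.Away g) a = c * l.get i := by
    intro i
    have hi : l.get i ∈ J.map (algebraMap R (Localization.Away g)) := by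
      rw [hI]; exact Ideal.subset_span (List.get_mem l i)
    obtain ⟨⟨⟨a, ha⟩, s⟩, hs⟩ := (IsLocalization.mem_map_algebraMap_iff (Submonoid.powers g) _).mp hi
    exact ⟨a, algebraMap R _ s, ha, IsLocalization.map_units _ s, by rw [← hs]; exact mul_comm _ _⟩
  choose x c hx hc hxc using hmem
  refine ⟨g, l.length, x, hg, hx, ?_, ?_⟩
  · rw [funext hxc]
    exact isKoszulRegularSeq_smul c hc l.get (by rwa [List.ofFn_get])
  · rw [hI, funext hxc]
    refine le_antisymm (Ideal.span_le.mpr fun a ha => ?_) (Ideal.span_le.mpr ?_)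
    · obtain ⟨i, rfl⟩ := List.get_of_mem ha
      have : l.get i = ↑(hc i).unit⁻¹ * (c i * l.get i) := by
        rw [← mul_assoc, IsUnit.val_inv_mul, one_mul]
      rw [SetLike.mem_coe, this]
      exact Ideal.mul_mem_left _ _ (Ideal.subset_span ⟨i, rfl⟩)
    · rintro _ ⟨i, rfl⟩
      exact Ideal.mul_mem_left _ _ (Ideal.subset_span (List.get_mem l i))

/-- Expanding elements of `J` in terms of the generators, without denominators. -/
theorem exists_coeff {J : Ideal R} {g : R} {r m : ℕ} (x : Fin r → R)
    (hJ : J.map (algebraMap R (Localization.Away g)) =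
      Ideal.span (Set.range fun i => algebraMap R (Localization.Away g) (x i)))
    (w : Fin m → R) (hw : ∀ i, w i ∈ J) :
    ∃ (s : R) (c : Fin m → Fin r → R), s ∈ Submonoid.powers g ∧ ∀ i, s * w i = ∑ j, c i j * x j := by
  have h1 : ∀ i, ∃ C : Fin r → Localization.Away g,
      ∑ j, C j * algebraMap R _ (x j) = algebraMap R _ (w i) := fun i =>
    Ideal.mem_span_range_iff_exists_fun.mp (hJ ▸ Ideal.mem_map_of_mem _ (hw i))
  choose C hC using h1
  obtain ⟨b, hb⟩ := IsLocalization.exist_integer_multiples_of_finite (Submonoid.powers g)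
    (fun q : Fin m × Fin r => C q.1 q.2)
  choose c hc using fun i j => hb (i, j)
  have h2 : ∀ i, ∃ t : Submonoid.powers g, (t : R) * (b * w i) = t * ∑ j, c i j * x j := fun i => by
    refine (IsLocalization.eq_iff_exists (Submonoid.powers g) (Localization.Away g)).mp ?_
    rw [map_mul, map_sum, ← hC i, Finset.mul_sum]
    refine Finset.sum_congr rfl fun j _ => ?_
    rw [map_mul, hc i j, Algebra.smul_def, mul_assoc]
  choose t ht using h2
  refine ⟨(∏ i, t i : Submonoid.powers g) * b, fun i j => (∏ i, t i : Submonoid.powers g) * c i j,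
    mul_mem (SetLike.coe_mem _) b.2, fun i => ?_⟩
  obtain ⟨d, hd⟩ : (t i : R) ∣ ((∏ i, t i : Submonoid.powers g) : R) := by
    rw [SubmonoidClass.coe_finsetProd]
    exact Finset.dvd_prod_of_mem _ (Finset.mem_univ i)
  simp only [hd, mul_assoc]
  rw [← Finset.mul_sum, mul_left_comm (t i : R) d, ht i, mul_left_comm d (t i : R)]
  congr 1
  rw [Finset.mul_sum]

/-- Completing a matrix of full rank modulo a prime. -/
theorem exists_complete (p : Ideal R) [p.IsPrime] {m r : ℕ} (c : Fin m → Fin r → R)
    (hli : LinearIndependent (FractionRing (R ⧸ p))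
      fun i j => algebraMap (R ⧸ p) (FractionRing (R ⧸ p)) (Ideal.Quotient.mk p (c i j))) :
    ∃ (k : ℕ) (hk : k + m = r) (e : Fin k → Fin r → R),
      Matrix.det (Matrix.of fun a b => Fin.append e c (Fin.cast hk.symm a) b) ∉ p := by
  classical
  let K := FractionRing (R ⧸ p)
  let f : R →+* K := (algebraMap (R ⧸ p) K).comp (Ideal.Quotient.mk p)
  let B := Module.Basis.sumExtend hli
  haveI : Finite (Fin m ⊕ Module.Basis.sumExtendIndex hli) := Module.Finite.finite_basis B
  haveI : Finite (Module.Basis.sumExtendIndex hli) := Finite.of_injective _ (Sum.inr_injective (α := Fin m))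
  haveI := Fintype.ofFinite (Module.Basis.sumExtendIndex hli)
  let k := Fintype.card (Module.Basis.sumExtendIndex hli)
  have hk : k + m = r := by
    have := Module.finrank_eq_card_basis B
    simp [k] at this ⊢
    omega
  let e0 : Fin k ≃ Module.Basis.sumExtendIndex hli := (Fintype.equivFin _).symm
  let U : Fin k → Fin r → K := fun t => B (Sum.inr (e0 t))
  obtain ⟨d, hd⟩ := IsLocalization.exist_integer_multiples_of_finite (nonZeroDivisors (R ⧸ p))
    (fun q : Fin k × Fin r => U q.1 q.2)
  choose e' he' using fun t j => hd (t, j)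
  choose e he using fun t j => Ideal.Quotient.mk_surjective (e' t j)
  refine ⟨k, hk, e, fun hdet => ?_⟩
  let T : Matrix (Fin r) (Fin r) R := Matrix.of fun a b => Fin.append e c (Fin.cast hk.symm a) b
  have h0 : (T.map f).det = 0 := by
    rw [← RingHom.mapMatrix_apply, ← RingHom.map_det]
    simp [f, T, Ideal.Quotient.eq_zero_iff_mem.mpr hdet]
  have hd0 : algebraMap (R ⧸ p) K d ≠ 0 := (IsLocalization.map_units K d).ne_zero
  let σ : Fin r ≃ Fin m ⊕ Module.Basis.sumExtendIndex hli :=
    (finCongr hk.symm).trans (finSumFinEquiv.symm.trans ((Equiv.sumComm _ _).trans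
      (Equiv.sumCongr (Equiv.refl _) e0)))
  have hLI : LinearIndependent K (T.map f).row := by
    have := (B.linearIndependent.comp σ σ.injective).units_smul
      fun a => Sum.elim (fun _ => (1 : Kˣ)) (fun _ => Units.mk0 _ hd0) (σ a)
    have key : ∀ {F G : Fin r → Fin r → K}, LinearIndependent K F → F = G → LinearIndependent K G :=
      fun h e => e ▸ h
    refine key this ?_
    funext a
    obtain ⟨a', rfl⟩ := (finCongr hk).surjective a
    induction a' using Fin.addCases with
    | left t =>
      have hσ : σ (finCongr hk (Fin.castAdd m t)) = Sum.inr (e0 t) := by simp [σ]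
      funext j
      simp only [Pi.smul_apply', Function.comp_apply, hσ]
      refine Eq.symm ?_
      show f (T _ j) = _
      simp [T, f, he, he', U, Units.smul_def, Algebra.smul_def]
    | right i =>
      have hσ : σ (finCongr hk (Fin.natAdd k i)) = Sum.inl i := by simp [σ]
      funext j
      simp only [Pi.smul_apply', Function.comp_apply, hσ]
      refine Eq.symm ?_
      show f (T _ j) = _
      have hB : B (Sum.inl i) = fun j => f (c i j) := by simp [B, Module.Basis.sumExtend]; rfl
      simp [T, hB]
  exact ((Matrix.isUnit_iff_isUnit_det _).mp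
    (Matrix.linearIndependent_rows_iff_isUnit.mp hLI)).ne_zero h0

/-- Descending to the quotient by a sequence which is independent in the conormal fibre. -/
theorem KRegAt.down' (π : R →+* S) (hπ : Function.Surjective π) {m : ℕ} (w : Fin m → R)
    (hw : LCI.IsKoszulRegularSeq R (List.ofFn w)) (hker : RingHom.ker π = Ideal.span (Set.range w))
    {J p : Ideal R} [p.IsPrime] (hwJ : ∀ i, w i ∈ J)
    (hind : ∀ a : Fin m → R, ∑ i, a i * w i ∈ p * J → ∀ i, a i ∈ p)
    (p' : Ideal S) (hp' : p'.comap π = p) (h : KRegAt J p) : KRegAt (J.map π) p' := by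
  obtain ⟨g, r, x, hg, hxJ, hx, hJ⟩ := h.exists_fin
  obtain ⟨s, c, hs, hc⟩ := exists_coeff x hJ w hwJ
  have hsp : s ∉ p := fun h => hg (by
    obtain ⟨n, rfl⟩ := hs
    exact Ideal.IsPrime.mem_of_pow_mem inferInstance n h)
  have hli : LinearIndependent (FractionRing (R ⧸ p))
      fun i j => algebraMap (R ⧸ p) (FractionRing (R ⧸ p)) (Ideal.Quotient.mk p (c i j)) := by
    refine Fintype.linearIndependent_iff.mpr fun a ha i₀ => ?_
    obtain ⟨d, hd⟩ := IsLocalization.exist_integer_multiples_of_finite (nonZeroDivisors (R ⧸ p)) a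
    choose b' hb' using hd
    choose b hb using fun i => Ideal.Quotient.mk_surjective (b' i)
    have hbK : ∀ i, algebraMap (R ⧸ p) (FractionRing (R ⧸ p)) (Ideal.Quotient.mk p (b i)) =
        algebraMap (R ⧸ p) (FractionRing (R ⧸ p)) d * a i := fun i => by
      rw [hb, hb', Algebra.smul_def]
    have hmem : ∀ l, ∑ i, b i * c i l ∈ p := fun l => by
      refine Ideal.Quotient.eq_zero_iff_mem.mp
        (IsFractionRing.injective (R ⧸ p) (FractionRing (R ⧸ p)) ?_)
      rw [map_zero, map_sum, map_sum]
      have hl := congrFun ha l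
      simp only [Finset.sum_apply, Pi.smul_apply, smul_eq_mul, Pi.zero_apply] at hl
      simp only [map_mul, hbK, mul_assoc, ← Finset.mul_sum, hl, mul_zero]
    have hsum : ∑ i, (s * b i) * w i ∈ p * J := by
      have : ∑ i, (s * b i) * w i = ∑ l, (∑ i, b i * c i l) * x l := by
        simp only [Finset.sum_mul]
        rw [Finset.sum_comm]
        refine Finset.sum_congr rfl fun i _ => ?_
        rw [mul_comm s, mul_assoc, hc i, Finset.mul_sum]
        exact Finset.sum_congr rfl fun l _ => (mul_assoc _ _ _).symm
      rw [this]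
      exact sum_mem fun l _ => Ideal.mul_mem_mul (hmem l) (hxJ l)
    have hb0 : b i₀ ∈ p :=
      ((Ideal.IsPrime.mem_or_mem inferInstance (hind _ hsum i₀))).resolve_left hsp
    have := hbK i₀
    rw [Ideal.Quotient.eq_zero_iff_mem.mpr hb0, map_zero, zero_eq_mul] at this
    exact this.resolve_left (IsLocalization.map_units (FractionRing (R ⧸ p)) d).ne_zero
  obtain ⟨k, hk, e, hdet⟩ := exists_complete p c hli
  subst hk
  let T : Matrix (Fin (k + m)) (Fin (k + m)) R := Matrix.of fun a b => Fin.append e c a b
  have hdet' : T.det ∉ p := by simpa using hdet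
  let g' := g * T.det
  have hg' : g' ∉ p := fun h => (Ideal.IsPrime.mem_or_mem inferInstance h).elim hg hdet'
  let B := Localization.Away g'
  let α := algebraMap R B
  have hαg' : IsUnit (α g') := IsLocalization.Away.algebraMap_isUnit g'
  have hαg : IsUnit (α g) := isUnit_of_dvd_unit (map_dvd α (Dvd.intro _ rfl)) hαg'
  have hαs : IsUnit (α s) := by
    obtain ⟨n, rfl⟩ := hs
    rw [map_pow]; exact hαg.pow n
  let ψ : Localization.Away g →+* B := IsLocalization.Away.lift g (g := α) hαg
  have hψ : ∀ a, ψ (algebraMap R _ a) = α a := IsLocalization.Away.lift_eq g hαg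
  have hψf : ψ.Flat := flat_awayMap (RingHom.id R) (RingHom.Flat.id R) g _ B g' ψ (RingHom.ext hψ)
  have hxB : LCI.IsKoszulRegularSeq B (List.ofFn fun i => α (x i)) := by
    have := GrothLib.KoszulColon.isKoszulRegularSeq_map ψ hψf _ hx
    rw [List.map_ofFn] at this
    simpa [Function.comp_def, hψ] using this
  have hJB : J.map α = Ideal.span (Set.range fun i => α (x i)) := by
    have := congrArg (Ideal.map ψ) hJ
    rw [Ideal.map_map, Ideal.map_span, ← Set.range_comp, RingHom.ext (f := ψ.comp _) (g := α) hψ] at this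
    simpa [Function.comp_def, hψ] using this
  let TB : Matrix (Fin (k + m)) (Fin (k + m)) B := T.map α
  have hTB : IsUnit TB.det := by
    rw [show TB.det = α T.det from (RingHom.map_det α T).symm]
    exact isUnit_of_dvd_unit (map_dvd α (dvd_mul_left _ _)) hαg'
  let kB : Fin k → B := fun t => α (∑ j, e t j * x j)
  let wB : Fin m → B := fun i => α (w i)
  let y : Fin (k + m) → B := Fin.append kB fun i => α s * wB i
  have hy : TB.mulVec (fun i => α (x i)) = y := by
    funext a
    induction a using Fin.addCases with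
    | left t => simp [TB, T, y, kB, Matrix.mulVec, dotProduct]
    | right i =>
      have := congrArg α (hc i)
      simp only [map_mul, map_sum] at this
      simp [TB, T, y, wB, Matrix.mulVec, dotProduct, this]
  have hyreg : LCI.IsKoszulRegularSeq B (List.ofFn y) := by
    rw [← hy]; exact isKoszulRegularSeq_mulVec TB hTB _ hxB
  have hzreg : LCI.IsKoszulRegularSeq B (List.ofFn kB ++ List.ofFn wB) := by
    let u : Fin (k + m) → B := Fin.append (fun _ => 1) fun _ => ↑hαs.unit⁻¹
    have := isKoszulRegularSeq_smul u (fun a => by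
      induction a using Fin.addCases with
      | left t => simp [u]
      | right i => simp only [u, Fin.append_right]; exact Units.isUnit _) y hyreg
    rw [← List.ofFn_fin_append]
    convert this using 2
    funext a
    induction a using Fin.addCases with
    | left t => simp [u, y]
    | right i =>
      simp only [u, y, Fin.append_right]
      rw [← mul_assoc, IsUnit.val_inv_mul, one_mul]
  have hkw : Ideal.ofList (List.ofFn kB ++ List.ofFn wB) = J.map α := by
    refine le_antisymm ?_ ?_
    · rw [ofList_append, ofList_ofFn, ofList_ofFn, sup_le_iff, Ideal.span_le, Ideal.span_le]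
      constructor
      · rintro _ ⟨t, rfl⟩
        exact Ideal.mem_map_of_mem α (sum_mem fun j _ => Ideal.mul_mem_left _ _ (hxJ j))
      · rintro _ ⟨i, rfl⟩
        exact Ideal.mem_map_of_mem α (hwJ i)
    · rw [hJB, Ideal.span_le]
      rintro _ ⟨j, rfl⟩
      have hxy : (fun i => α (x i)) = TB⁻¹.mulVec y := by
        rw [← hy, Matrix.mulVec_mulVec, Matrix.nonsing_inv_mul TB hTB, Matrix.one_mulVec]
      show α (x j) ∈ _
      rw [congrFun hxy j]
      simp only [Matrix.mulVec, dotProduct]
      refine sum_mem fun a _ => Ideal.mul_mem_left _ _ ?_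
      rw [ofList_append, ofList_ofFn, ofList_ofFn]
      induction a using Fin.addCases with
      | left t =>
        simp only [y, Fin.append_left]
        exact Ideal.mem_sup_left (Ideal.subset_span ⟨t, rfl⟩)
      | right i =>
        simp only [y, Fin.append_right]
        exact Ideal.mem_sup_right (Ideal.mul_mem_left _ _ (Ideal.subset_span ⟨i, rfl⟩))
  let φ := Localization.awayMap π g'
  have hφ : Function.Surjective φ := awayMap_surjective π hπ g'
  have hwB : LCI.IsKoszulRegularSeq B (List.ofFn wB) := by
    have := GrothLib.KoszulColon.isKoszulRegularSeq_map α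
      (RingHom.flat_algebraMap_iff.mpr (IsLocalization.flat B (Submonoid.powers g'))) _ hw
    rw [List.map_ofFn] at this
    exact this
  have hkφ : RingHom.ker φ = Ideal.ofList (List.ofFn wB) := by
    rw [ker_awayMap π g', hker, Ideal.map_span, ← Set.range_comp, ofList_ofFn]
    rfl
  refine ⟨π g', fun h' => hg' (by rw [← hp']; exact h'), (List.ofFn kB).map φ,
    (isKoszulRegularSeq_append_iff φ hφ _ _ hwB hkφ).mp hzreg, ?_⟩
  rw [Ideal.map_map, ← awayMap_comp, ← Ideal.map_map, ← hkw, Ideal.map_ofList, List.map_append,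
    ofList_append, sup_eq_left.mpr]
  rw [← Ideal.map_ofList, ← hkφ]
  exact Ideal.map_le_iff_le_comap.mpr fun a ha => by
    rw [Ideal.mem_comap, RingHom.mem_ker.mp ha]; exact zero_mem _

/-- Descending to the quotient by a sequence which is part of a minimal generating system. -/
theorem KRegAt.down (π : R →+* S) (hπ : Function.Surjective π) {m : ℕ} (w : Fin m → R)
    (hw : LCI.IsKoszulRegularSeq R (List.ofFn w)) (hker : RingHom.ker π = Ideal.span (Set.range w))
    {J p : Ideal R} [p.IsPrime] (hwJ : ∀ i, w i ∈ J)
    (δ : Fin m → (R →+ R ⧸ p)) (hδ : ∀ j (a : R), ∀ x ∈ J, δ j (a * x) = Ideal.Quotient.mk p a * δ j x)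
    (hδw : ∀ i j, δ j (w i) = if i = j then 1 else 0)
    (p' : Ideal S) (hp' : p'.comap π = p) (h : KRegAt J p) : KRegAt (J.map π) p' := by
  refine KRegAt.down' π hπ w hw hker hwJ (fun a ha i => Ideal.Quotient.eq_zero_iff_mem.mp ?_) p' hp' h
  have h0 : ∀ z ∈ p * J, δ i z = 0 := fun z hz => by
    refine Submodule.mul_induction_on hz (fun u hu v hv => ?_) fun u v hu hv => by rw [map_add, hu, hv, add_zero]
    rw [hδ i u v hv, Ideal.Quotient.eq_zero_iff_mem.mpr hu, zero_mul]
  rw [← h0 _ ha, map_sum]
  simp [fun j => hδ i (a j) _ (hwJ j), hδw]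

end GrothLib.LCI6
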