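import Groth.Agent.Lib.LCI6.SliceDescent
import Groth.Agent.Lib.LCI6.Syntomic
import Groth.Agent.Lib.LCI6.UpDown
import Groth.Agent.Lib.FppfSource.Ring

/-!
# Cancelling a faithfully flat LCI map on the source
-/

universe u

open IsLocalRing RingTheory.Sequence MvPolynomial

namespace GrothLib.LCI6

theorem isH1Regular_ofFn {L : Type u} [CommRing L] {r : ℕ} (f : Fin r → L)
    (h : LCI.IsKoszulRegularSeq L (List.ofFn f)) : CAlgX.IsH1Regular f := by
  have key : ∀ (k : ℕ) (hk : k = r) (f' : Fin k → L), f' = f ∘ Fin.cast hk →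
      CAlgX.IsH1Regular f' → CAlgX.IsH1Regular f := by
    rintro k rfl f' rfl hh; exact hh
  exact key _ (List.length_ofFn) (List.ofFn f).get (funext fun i => List.get_ofFn f i)
    (GrothLib.SeqKinds.isH1Regular_of_isKoszulRegularSeq _ h)

/-- In a local ring, a relation among H1-regular elements of the maximal ideal with value in the maximal ideal
times their span has coefficients in the maximal ideal. -/
theorem mem_maximalIdeal_of_relation {L : Type u} [CommRing L] [IsLocalRing L] {r : ℕ} (x : Fin r → L)
    (hx : CAlgX.IsH1Regular x) (hm : ∀ i, x i ∈ maximalIdeal L) (a : Fin r → L)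
    (ha : ∑ i, a i * x i ∈ maximalIdeal L * Ideal.span (Set.range x)) (i : Fin r) : a i ∈ maximalIdeal L := by
  classical
  obtain ⟨b, hb, hsum⟩ : ∃ b : Fin r → L, (∀ j, b j ∈ maximalIdeal L) ∧ ∑ j, b j * x j = ∑ j, a j * x j := by
    refine Submodule.mul_induction_on ha (fun u hu v hv => ?_) ?_
    · obtain ⟨c, rfl⟩ := Ideal.mem_span_range_iff_exists_fun.mp hv
      refine ⟨fun j => u * c j, fun j => Ideal.mul_mem_right _ _ hu, ?_⟩
      rw [Finset.mul_sum]
      exact Finset.sum_congr rfl fun j _ => mul_assoc _ _ _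
    · rintro u v ⟨b, hb, rfl⟩ ⟨c, hc, rfl⟩
      exact ⟨b + c, fun j => add_mem (hb j) (hc j), by simp [add_mul, Finset.sum_add_distrib]⟩
  have h0 : a - b ∈ Submodule.span L {v : Fin r → L | ∃ i j : Fin r, v = Pi.single i (x j) - Pi.single j (x i)} :=
    hx _ (by simp [sub_mul, hsum])
  have key : ∀ v ∈ Submodule.span L
      {v : Fin r → L | ∃ i j : Fin r, v = Pi.single i (x j) - Pi.single j (x i)}, v i ∈ maximalIdeal L := by
    intro v hv
    induction hv using Submodule.span_induction with
    | mem v hv =>
      obtain ⟨j, k, rfl⟩ := hv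
      have h : ∀ (j k : Fin r), (Pi.single j (x k) : Fin r → L) i ∈ maximalIdeal L := fun j k => by
        rw [Pi.single_apply]; split_ifs <;> simp [hm k]
      exact sub_mem (h j k) (h k j)
    | zero => exact zero_mem _
    | add u v _ _ hu hv => exact add_mem hu hv
    | smul c u _ hu => exact Ideal.mul_mem_left _ c hu
  have := add_mem (key _ h0) (hb i)
  simpa using this

/-- Flatness of an evaluation persists on a smaller principal open. -/
theorem flat_aeval_away_mul {P E : Type u} [CommRing P] [CommRing E] [Algebra P E] {r : ℕ} (xt : Fin r → E)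
    (g0 g : E) (hdvd : g0 ∣ g) (h : (MvPolynomial.aeval (R := P) fun i => algebraMap E (Localization.Away g0) (xt i)).toRingHom.Flat) :
    (MvPolynomial.aeval (R := P) fun i => algebraMap E (Localization.Away g) (xt i)).toRingHom.Flat := by
  have hu0 : IsUnit (algebraMap E (Localization.Away g) g0) :=
    isUnit_of_dvd_unit (map_dvd _ hdvd) (IsLocalization.Away.algebraMap_isUnit g)
  let ψ : Localization.Away g0 →+* Localization.Away g := IsLocalization.Away.lift g0 hu0
  have hψ : ψ.Flat := by
    letI := ψ.toAlgebra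
    haveI : IsScalarTower E (Localization.Away g0) (Localization.Away g) :=
      IsScalarTower.of_algebraMap_eq fun z => (IsLocalization.Away.lift_eq g0 hu0 z).symm
    exact (Module.flat_iff_of_isLocalization _ (Submonoid.powers g0) _).mpr
      (IsLocalization.flat (Localization.Away g) (Submonoid.powers g))
  have := h.comp hψ
  have e : (MvPolynomial.aeval (R := P) fun i => algebraMap E (Localization.Away g) (xt i)).toRingHom =
      ψ.comp (MvPolynomial.aeval (R := P) fun i => algebraMap E (Localization.Away g0) (xt i)).toRingHom := by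
    apply MvPolynomial.ringHom_ext
    on_goal 1 => intro z
    on_goal 2 => intro i
    · simp only [RingHom.comp_apply, AlgHom.toRingHom_eq_coe, RingHom.coe_coe, MvPolynomial.aeval_C]
      rw [IsScalarTower.algebraMap_apply P E (Localization.Away g),
        IsScalarTower.algebraMap_apply P E (Localization.Away g0)]
      exact (IsLocalization.Away.lift_eq g0 hu0 _).symm
    · simp only [RingHom.comp_apply, AlgHom.toRingHom_eq_coe, RingHom.coe_coe, MvPolynomial.aeval_X]
      exact (IsLocalization.Away.lift_eq g0 hu0 _).symm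
  rw [e]
  exact this

/-- The pulled back ideal on a principal open of the slice. -/
theorem map_comap_away_eq {E P' : Type u} [CommRing E] [CommRing P'] (φ : E →+* P') (hφ : Function.Surjective φ)
    (J : Ideal P') {r : ℕ} (x : Fin r → P') (xt : Fin r → E) (hxt : ∀ i, φ (xt i) = x i) (hx : ∀ i, x i ∈ J)
    (g' : P') (g : E) (hg : g' ∣ φ g)
    (hJ : J.map (algebraMap P' (Localization.Away g')) =
      Ideal.span (Set.range fun i => algebraMap P' (Localization.Away g') (x i))) :
    (J.comap φ).map (algebraMap E (Localization.Away g)) = (RingHom.ker φ).map (algebraMap E (Localization.Away g))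
      ⊔ Ideal.span (Set.range fun i => algebraMap E (Localization.Away g) (xt i)) := by
  refine le_antisymm ?_ (sup_le (Ideal.map_mono fun z hz => ?_) ?_)
  · let φg := Localization.awayMap φ g
    have hu : IsUnit (algebraMap P' (Localization.Away (φ g)) g') :=
      isUnit_of_dvd_unit (map_dvd _ hg) (IsLocalization.Away.algebraMap_isUnit (φ g))
    let ψ' : Localization.Away g' →+* Localization.Away (φ g) := IsLocalization.Away.lift g' hu
    have e : ∀ z, φg (algebraMap E _ z) = algebraMap P' _ (φ z) := fun z => IsLocalization.map_eq _ _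
    have h1 : ((J.comap φ).map (algebraMap E (Localization.Away g))).map φg ≤
        (Ideal.span (Set.range fun i => algebraMap E (Localization.Away g) (xt i))).map φg := by
      rw [Ideal.map_map, awayMap_comp, ← Ideal.map_map, Ideal.map_comap_of_surjective φ hφ]
      have := congrArg (Ideal.map ψ') hJ
      rw [Ideal.map_map, IsLocalization.Away.lift_comp] at this
      rw [this, Ideal.map_span, Ideal.map_span, ← Set.range_comp, ← Set.range_comp]
      refine le_of_eq (congrArg Ideal.span (congrArg Set.range (funext fun i => ?_)))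
      show ψ' (algebraMap P' _ (x i)) = φg (algebraMap E _ (xt i))
      rw [IsLocalization.Away.lift_eq, e, hxt]
    have := Ideal.map_le_iff_le_comap.mp h1
    rwa [Ideal.comap_map_of_surjective' φg (awayMap_surjective φ hφ g), ker_awayMap, sup_comm] at this
  · rw [Ideal.mem_comap, RingHom.mem_ker.mp hz]; exact zero_mem _
  · rw [Ideal.span_le]
    rintro _ ⟨i, rfl⟩
    exact Ideal.mem_map_of_mem _ (Ideal.mem_comap.mpr ((hxt i).symm ▸ hx i))

/-- Lifted generators are independent in the conormal fibre of the pulled back ideal. -/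
theorem mem_of_relation {E P' : Type u} [CommRing E] [CommRing P'] (φ : E →+* P') (hφ : Function.Surjective φ)
    (J Q1 : Ideal P') [Q1.IsPrime] {r : ℕ} (xL : Fin r → Localization.AtPrime Q1) (hH1 : CAlgX.IsH1Regular xL)
    (hxm : ∀ i, xL i ∈ maximalIdeal (Localization.AtPrime Q1))
    (hJL : Ideal.span (Set.range xL) = J.map (algebraMap P' (Localization.AtPrime Q1)))
    (g : E) (hg : φ g ∉ Q1) (xt : Fin r → E) (hxt : ∀ i, algebraMap P' _ (φ (xt i)) = xL i)
    (a : Fin r → Localization.Away g)
    (ha : ∑ i, a i * algebraMap E (Localization.Away g) (xt i) ∈ (Q1.comap φ).map (algebraMap E (Localization.Away g))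
      * (J.comap φ).map (algebraMap E (Localization.Away g))) (i : Fin r) :
    a i ∈ (Q1.comap φ).map (algebraMap E (Localization.Away g)) := by
  let L1 := Localization.AtPrime Q1
  have huE : IsUnit (((algebraMap P' L1).comp φ) g) :=
    IsLocalization.map_units L1 (⟨φ g, hg⟩ : Q1.primeCompl)
  let Θ : Localization.Away g →+* L1 := IsLocalization.Away.lift g huE
  have hΘ : (maximalIdeal L1).comap Θ = (Q1.comap φ).map (algebraMap E (Localization.Away g)) := by
    have h := IsLocalization.map_comap (Submonoid.powers g) (Localization.Away g) ((maximalIdeal L1).comap Θ)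
    refine h.symm.trans (congrArg (Ideal.map _) ?_)
    show ((maximalIdeal L1).comap Θ).comap (algebraMap E _) = _
    rw [Ideal.comap_comap, IsLocalization.Away.lift_comp, ← Ideal.comap_comap]
    exact congrArg (Ideal.comap φ) (Localization.AtPrime.comap_maximalIdeal (I := Q1))
  rw [← hΘ]
  refine mem_maximalIdeal_of_relation xL hH1 hxm (Θ ∘ a) ?_ i
  have h2 := Ideal.mem_map_of_mem Θ ha
  rw [map_sum, Ideal.map_mul] at h2
  have hΘw : ∀ j, Θ (algebraMap E (Localization.Away g) (xt j)) = xL j := fun j => by
    rw [IsLocalization.Away.lift_eq, RingHom.comp_apply]; exact hxt j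
  simp only [map_mul, hΘw] at h2
  refine Ideal.mul_mono ?_ ?_ h2
  · exact Ideal.map_le_iff_le_comap.mpr hΘ.ge
  · rw [Ideal.map_map, IsLocalization.Away.lift_comp, ← Ideal.map_map, Ideal.map_comap_of_surjective φ hφ, hJL]

/-- Koszul regularity of `ker (P → B)` from regularity upstairs, through a slice. -/
theorem kRegAt_of_slice {P B E P' : Type u} [CommRing P] [CommRing B] [CommRing E] [CommRing P'] [Algebra P B]
    [Algebra P E] [Algebra B P'] [Algebra P P'] [Algebra E P'] [IsScalarTower P B P'] [IsScalarTower P E P']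
    [Algebra.FinitePresentation P E] [Module.Flat P E] [Algebra.FinitePresentation B P']
    (hB : Function.Surjective (algebraMap P B)) (hφs : Function.Surjective (algebraMap E P'))
    (hker : RingHom.ker (algebraMap E P') = (RingHom.ker (algebraMap P B)).map (algebraMap P E))
    (hfg : (RingHom.ker (algebraMap P B)).FG) (J : Ideal P') [Module.Flat B (P' ⧸ J)] (Q1 : Ideal P') [Q1.IsPrime]
    (hJQ : J ≤ Q1) (hJ : KRegAt J Q1) (hK : KRegAt (J.comap (algebraMap E P')) (Q1.comap (algebraMap E P'))) :
    KRegAt (RingHom.ker (algebraMap P B)) ((Q1.comap (algebraMap E P')).comap (algebraMap P E)) := by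
  let φ := algebraMap E P'
  let I := RingHom.ker (algebraMap P B)
  let K := J.comap φ
  obtain ⟨g', r, x, hg', hxJ, hx, hJg⟩ := hJ.exists_fin
  choose xt hxt using fun i => hφs (x i)
  obtain ⟨gt, hgt⟩ := hφs g'
  let L1 := Localization.AtPrime Q1
  let xL : Fin r → L1 := fun i => algebraMap P' L1 (x i)
  have hu : IsUnit (algebraMap P' L1 g') := IsLocalization.map_units L1 (⟨g', hg'⟩ : Q1.primeCompl)
  let ψ1 : Localization.Away g' →+* L1 := IsLocalization.Away.lift g' hu
  have hψ1 : ψ1.Flat := by
    letI := ψ1.toAlgebra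
    haveI : IsScalarTower P' (Localization.Away g') L1 :=
      IsScalarTower.of_algebraMap_eq fun z => (IsLocalization.Away.lift_eq g' hu z).symm
    exact (Module.flat_iff_of_isLocalization _ (Submonoid.powers g') _).mpr
      (IsLocalization.flat L1 Q1.primeCompl)
  have hxL : LCI.IsKoszulRegularSeq L1 (List.ofFn xL) := by
    have := GrothLib.KoszulColon.isKoszulRegularSeq_map ψ1 hψ1 _ hx
    rw [List.map_ofFn] at this
    convert this using 2
    funext i
    exact (IsLocalization.Away.lift_eq g' hu _).symm
  have hxm : ∀ i, xL i ∈ maximalIdeal L1 := fun i => by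
    rw [← Localization.AtPrime.map_eq_maximalIdeal]
    exact Ideal.mem_map_of_mem _ (hJQ (hxJ i))
  have hJL : Ideal.span (Set.range xL) = J.map (algebraMap P' L1) := by
    have := congrArg (Ideal.map ψ1) hJg
    rw [Ideal.map_map, IsLocalization.Away.lift_comp, Ideal.map_span, ← Set.range_comp] at this
    rw [this]
    congr 2
    funext i
    exact (IsLocalization.Away.lift_eq g' hu _).symm
  have hH1 := isH1Regular_ofFn xL hxL
  -- the slice
  have hfib := isRegular_fibre_of_surjective (R := P) (P := E) (R' := B) (P' := P') hB hφs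
    hker.le Q1 xt (by
      have := isRegular_of_quasiRegular (R := B) Q1 xL hxm hJL
        (GrothLib.SeqKinds.isQuasiRegular_of_isH1Regular _ hH1)
      rw [show (fun i => algebraMap P' (Localization.AtPrime Q1) (algebraMap E P' (xt i))) = xL from
        funext fun i => congrArg (algebraMap P' L1) (hxt i)]
      exact this)
  let p1 := Q1.comap φ
  obtain ⟨g0, hg0, hflat0⟩ := exists_away_flat_slice (R := P) p1 xt hfib
  have hgtp : gt ∉ p1 := fun h => hg' (hgt ▸ h : _)
  let g := g0 * gt
  have hg : g ∉ p1 := fun h => (Ideal.IsPrime.mem_or_mem inferInstance h).elim hg0 hgtp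
  let Eg := Localization.Away g
  let w : Fin r → Eg := fun i => algebraMap E Eg (xt i)
  have hflat : (MvPolynomial.aeval (R := P) w).toRingHom.Flat := flat_aeval_away_mul xt g0 g (Dvd.intro gt rfl) hflat0
  have hw : LCI.IsKoszulRegularSeq Eg (List.ofFn w) := by
    have := GrothLib.KoszulColon.isKoszulRegularSeq_map (MvPolynomial.aeval (R := P) w).toRingHom hflat _
      (isKoszulRegularSeq_X P r)
    rw [List.map_ofFn] at this
    convert this using 2
    funext i
    exact (aeval_X w i).symm
  let Isl : Ideal Eg := Ideal.ofList (List.ofFn w)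
  have hIsl : Isl = Ideal.span (Set.range w) := ofList_ofFn w
  let D := Eg ⧸ Isl
  haveI : Module.Flat P D := RingHom.flat_algebraMap_iff.mp
    (GrothLib.FibreFlat.flat_quotient_of_flat_aeval (R := P) hflat)
  haveI : Algebra.FinitePresentation E Eg := IsLocalization.Away.finitePresentation g
  haveI : Algebra.FinitePresentation P Eg := Algebra.FinitePresentation.trans P E Eg
  haveI : Algebra.FinitePresentation P D :=
    Algebra.FinitePresentation.quotient (hIsl ▸ Submodule.fg_span (Set.finite_range w))
  -- the ideal in the slice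
  let KE := K.map (algebraMap E Eg)
  have hxK : ∀ i, xt i ∈ K := fun i => Ideal.mem_comap.mpr ((hxt i).symm ▸ hxJ i)
  have hIK : I.map (algebraMap P E) ≤ K := hker.ge.trans fun z hz => Ideal.mem_comap.mpr (by
    rw [RingHom.mem_ker.mp hz]; exact zero_mem _)
  have hKE : KE = (I.map (algebraMap P E)).map (algebraMap E Eg) ⊔ Isl := by
    rw [hIsl]
    refine (map_comap_away_eq φ hφs J x xt hxt hxJ g' g (hgt ▸ map_dvd φ (Dvd.intro_left g0 rfl)) hJg).trans ?_
    rw [hker]
  -- descend to the slice
  have hd : Disjoint (Submonoid.powers g : Set E) (p1 : Set E) := by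
    rw [Set.disjoint_left]
    rintro _ ⟨k, rfl⟩ hk
    exact hg (Ideal.IsPrime.mem_of_pow_mem inferInstance k hk)
  let pg : Ideal Eg := p1.map (algebraMap E Eg)
  haveI : pg.IsPrime :=
    IsLocalization.isPrime_of_isPrime_disjoint (Submonoid.powers g) Eg p1 inferInstance hd
  have hpg : pg.comap (algebraMap E Eg) = p1 :=
    IsLocalization.comap_map_of_isPrime_disjoint (Submonoid.powers g) Eg inferInstance hd
  have hKp : K ≤ p1 := Ideal.comap_mono hJQ
  have hKg : KRegAt KE pg := KRegAt.map (algebraMap E Eg)
    (RingHom.flat_algebraMap_iff.mpr (IsLocalization.flat Eg (Submonoid.powers g))) pg (hpg.symm ▸ hK)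
  have hwK : ∀ i, w i ∈ KE := fun i => Ideal.mem_map_of_mem _ (hxK i)
  have hsp : Isl ≤ pg := (le_sup_right.trans hKE.ge).trans (Ideal.map_mono hKp)
  have hind : ∀ a : Fin r → Eg, ∑ i, a i * w i ∈ pg * KE → ∀ i, a i ∈ pg := fun a ha i =>
    mem_of_relation φ hφs J Q1 xL hH1 hxm hJL g hg xt (fun j => congrArg (algebraMap P' L1) (hxt j)) a ha i
  let π : Eg →+* D := Ideal.Quotient.mk Isl
  have hπ : Function.Surjective π := Ideal.Quotient.mk_surjective
  haveI : (pg.map π).IsPrime := Ideal.map_isPrime_of_surjective hπ (by rwa [Ideal.mk_ker])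
  have hπp : (pg.map π).comap π = pg := by
    rw [Ideal.comap_map_of_surjective' π hπ, Ideal.mk_ker, sup_eq_left.mpr hsp]
  have hdown := KRegAt.down' π hπ w hw (Ideal.mk_ker.trans hIsl) hwK hind (pg.map π) hπp hKg
  have hID : KE.map π = I.map (algebraMap P D) := by
    rw [hKE, Ideal.map_sup, Ideal.map_quotient_self, sup_bot_eq, Ideal.map_map, Ideal.map_map]
    rfl
  rw [hID] at hdown
  have hcomap : (pg.map π).comap (algebraMap P D) = (Q1.comap φ).comap (algebraMap P E) := by
    rw [show algebraMap P D = π.comp ((algebraMap E Eg).comp (algebraMap P E)) from rfl,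
      ← Ideal.comap_comap, ← Ideal.comap_comap, hπp, hpg]
  have := kRegAt_descent_open (P := P) (D := D) hfg (pg.map π) (hcomap.symm ▸ fun z hz =>
    hKp (hIK (Ideal.mem_map_of_mem _ hz))) hdown
  simpa only [hcomap] using this

theorem kRegAt_of_faithfullyFlat_comp {A B C : Type u} [CommRing A] [CommRing B] [CommRing C] [Algebra A B]
    [Algebra B C] [Algebra A C] [IsScalarTower A B C] [Module.Flat B C] (hBC : LCI.IsLCI B C)
    (hAC : LCI.IsLCI A C) {n : ℕ} (α : MvPolynomial (Fin n) A →ₐ[A] B) (hα : Function.Surjective α)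
    (hfg : (RingHom.ker α.toRingHom).FG) (𝔔 : Ideal C) [𝔔.IsPrime] :
    KRegAt (RingHom.ker α.toRingHom) ((𝔔.comap (algebraMap B C)).comap α.toRingHom) := by
  obtain ⟨hft, m, β, hβ, hJ⟩ := id hBC
  let P := MvPolynomial (Fin n) A
  let E := MvPolynomial (Fin m) P
  let P' := MvPolynomial (Fin m) B
  let I := RingHom.ker α.toRingHom
  let J := RingHom.ker β.toRingHom
  let φA : E →ₐ[A] P' := MvPolynomial.mapAlgHom α
  let φ : E →+* P' := MvPolynomial.map α.toRingHom
  have hφs : Function.Surjective φ := MvPolynomial.map_surjective α.toRingHom hα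
  let γ : E →+* C := β.toRingHom.comp φ
  let K := RingHom.ker γ
  -- regularity of the two presentations
  let e : MvPolynomial (Fin (m + n)) A ≃ₐ[A] E :=
    (MvPolynomial.renameEquiv A finSumFinEquiv.symm).trans (MvPolynomial.sumAlgEquiv A (Fin m) (Fin n))
  let γA : E →ₐ[A] C := (β.restrictScalars A).comp φA
  have hγA : Function.Surjective γA := hβ.comp (MvPolynomial.map_surjective α.toRingHom hα)
  have hγe : Function.Surjective (γA.comp e.toAlgHom).toRingHom := hγA.comp e.surjective
  have hK : KRegAt K (𝔔.comap γ) := (kRegAt_equiv_iff e.toRingEquiv γ 𝔔).mp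
    ((isKoszulRegularIdeal_ker_iff _ hγe).mp
      (isKoszulRegularIdeal_of_isLCI hAC (γA.comp e.toAlgHom) hγe) 𝔔 inferInstance)
  letI : Algebra P B := α.toRingHom.toAlgebra
  letI : Algebra E P' := φ.toAlgebra
  haveI : IsScalarTower P E P' := IsScalarTower.of_algebraMap_eq fun z => (MvPolynomial.map_C _ z).symm
  haveI : Module.Flat B (P' ⧸ J) :=
    Module.Flat.of_linearEquiv (Ideal.quotientKerAlgEquivOfSurjective hβ).toLinearEquiv
  have h := kRegAt_of_slice (P := P) (B := B) (E := E) (P' := P') hα hφs (MvPolynomial.ker_map _) hfg J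
    (𝔔.comap β.toRingHom) (ker_le_comap _ _) ((isKoszulRegularIdeal_ker_iff _ hβ).mp hJ 𝔔 inferInstance) hK
  have e1 : ((𝔔.comap β.toRingHom).comap φ).comap (algebraMap P E) =
      (𝔔.comap (algebraMap B C)).comap α.toRingHom := by
    rw [Ideal.comap_comap, Ideal.comap_comap, Ideal.comap_comap]
    congr 1
    refine RingHom.ext fun z => ?_
    show β (MvPolynomial.map α.toRingHom (MvPolynomial.C z)) = algebraMap B C (α z)
    rw [MvPolynomial.map_C]
    exact β.commutes _
  rw [← e1]
  exact h

/-- An algebra is LCI when a faithfully flat LCI algebra over it is. -/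
theorem isLCI_of_faithfullyFlat_comp {A B C : Type u} [CommRing A] [CommRing B] [CommRing C] [Algebra A B]
    [Algebra B C] [Algebra A C] [IsScalarTower A B C] [Module.FaithfullyFlat B C] (hBC : LCI.IsLCI B C)
    (hAC : LCI.IsLCI A C) : LCI.IsLCI A B := by
  haveI : Algebra.FinitePresentation B C := by
    obtain ⟨-, m, β, hβ, hJ⟩ := hBC
    exact Algebra.FinitePresentation.of_surjective hβ (fg_of_isKoszulRegularIdeal hJ)
  haveI : Algebra.FinitePresentation A C := by
    obtain ⟨-, m, β, hβ, hJ⟩ := hAC
    exact Algebra.FinitePresentation.of_surjective hβ (fg_of_isKoszulRegularIdeal hJ)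
  haveI : Algebra.FinitePresentation A B := GrothLib.FppfSource.finitePresentation (C := C)
  obtain ⟨n, α, hα⟩ := Algebra.FiniteType.iff_quotient_mvPolynomial''.mp
    (inferInstance : Algebra.FiniteType A B)
  refine ⟨inferInstance, n, α, hα, (isKoszulRegularIdeal_ker_iff _ hα).mpr fun 𝔮 _ => ?_⟩
  obtain ⟨⟨Q, hQ⟩, hQe⟩ := PrimeSpectrum.comap_surjective_of_faithfullyFlat (B := C) ⟨𝔮, inferInstance⟩
  have hq : Q.comap (algebraMap B C) = 𝔮 := congrArg PrimeSpectrum.asIdeal hQe
  subst hq
  exact kRegAt_of_faithfullyFlat_comp hBC hAC α hα (Algebra.FinitePresentation.ker_fG_of_surjective α hα) Q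

end GrothLib.LCI6
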