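import Groth.Agent.Lib.LCI6.DescentLCI
import Mathlib.RingTheory.Localization.Away.AdjoinRoot
import Mathlib.RingTheory.LocalProperties.Basic
import Mathlib.RingTheory.TensorProduct.MvPolynomial

/-!
# The local complete intersection locus
-/

universe u

namespace GrothLib.LCI6

theorem isKoszulRegularSeq_singleton {P : Type u} [CommRing P] (w : P) (hw : ∀ x, w * x = 0 → x = 0) :
    LCI.IsKoszulRegularSeq P (List.ofFn fun _ : Fin 1 => w) := by
  refine GrothLib.KoszulColon.isKoszulRegularSeq_of_isWeaklyRegular _ ?_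
  simp only [List.ofFn_succ, List.ofFn_zero, List.reverse_singleton]
  rw [RingTheory.Sequence.isWeaklyRegular_cons_iff]
  refine ⟨fun x y hxy => ?_, RingTheory.Sequence.IsWeaklyRegular.nil _ _⟩
  exact sub_eq_zero.mp (hw _ (by simpa [mul_sub, sub_eq_zero, smul_eq_mul] using hxy))

theorem kRegAt_polynomial_away {P : Type u} [CommRing P] (g : P) (P' : Type u) [CommRing P'] [Algebra P P']
    [IsLocalization.Away g P'] (π : Polynomial P →+* P') (hC : ∀ x, π (Polynomial.C x) = algebraMap P P' x)
    (hX : π Polynomial.X = IsLocalization.Away.invSelf g) (p : Ideal (Polynomial P)) [p.IsPrime] :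
    KRegAt (RingHom.ker π) p := by
  have hk : RingHom.ker π = Ideal.span {Polynomial.C g * Polynomial.X - 1} := by
    let e := (Localization.awayEquivAdjoin g).symm.trans (IsLocalization.algEquiv (Submonoid.powers g) _ P')
    have : π = (e.toRingEquiv : _ →+* P').comp (AdjoinRoot.mk (Polynomial.C g * Polynomial.X - 1)) := by
      refine Polynomial.ringHom_ext (fun x => ?_) ?_
      · rw [hC, RingHom.comp_apply, AdjoinRoot.mk_C]
        exact (e.commutes x).symm
      · refine (IsLocalization.Away.algebraMap_isUnit (S := P') g).mul_left_cancel ?_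
        rw [hX, IsLocalization.Away.mul_invSelf, RingHom.comp_apply]
        have : algebraMap P P' g = (e.toRingEquiv : _ →+* P')
            (AdjoinRoot.mk (Polynomial.C g * Polynomial.X - 1) (Polynomial.C g)) := by
          rw [AdjoinRoot.mk_C]; exact (e.commutes g).symm
        have h1 : AdjoinRoot.mk (Polynomial.C g * Polynomial.X - 1) (Polynomial.C g * Polynomial.X) = 1 := by
          have h0 : AdjoinRoot.mk (Polynomial.C g * Polynomial.X - 1) (Polynomial.C g * Polynomial.X - 1) = 0 :=
            AdjoinRoot.mk_self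
          rwa [map_sub, map_one, sub_eq_zero] at h0
        rw [this, ← map_mul, ← map_mul, h1, map_one]
    ext f
    rw [RingHom.mem_ker, Ideal.mem_span_singleton, ← AdjoinRoot.mk_eq_zero, this]
    exact map_eq_zero_iff _ e.injective
  refine kRegAt_of_seq _ (isKoszulRegularSeq_singleton _ (sub_mul_X_nonZeroDivisor g)) ?_
  rw [hk, ofList_ofFn, Set.range_const]

variable {A B : Type u} [CommRing A] [CommRing B] [Algebra A B]

/-- Regularity at a prime gives an LCI neighbourhood. -/
theorem exists_isLCI_away_of_kRegAt {n : ℕ} (α : MvPolynomial (Fin n) A →ₐ[A] B) (hα : Function.Surjective α)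
    (𝔮 : Ideal B) [𝔮.IsPrime] (hk : KRegAt (RingHom.ker α.toRingHom) (𝔮.comap α.toRingHom)) :
    ∃ h, h ∉ 𝔮 ∧ LCI.IsLCI A (Localization.Away h) := by
  obtain ⟨g, hg, l, hl, hI⟩ := hk
  refine ⟨α g, hg, ?_⟩
  let Bh := Localization.Away (α g)
  let φ : Localization.Away g →+* Bh := Localization.awayMap α.toRingHom g
  have hφker : RingHom.ker φ = Ideal.ofList l := (ker_awayMap α.toRingHom g).trans hI
  have hφC : ∀ x, φ (algebraMap _ _ x) = algebraMap B Bh (α x) := fun x =>
    RingHom.congr_fun (awayMap_comp α.toRingHom g) x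
  let π : Polynomial (MvPolynomial (Fin n) A) →+* Localization.Away g :=
    Polynomial.eval₂RingHom (algebraMap _ _) (IsLocalization.Away.invSelf g)
  have hπC : ∀ x, π (Polynomial.C x) = algebraMap _ _ x := fun x => Polynomial.eval₂_C _ _
  have hπX : π Polynomial.X = IsLocalization.Away.invSelf g := Polynomial.eval₂_X _ _
  have hπ : Function.Surjective π := fun z => by
    obtain ⟨⟨b, ⟨_, k, rfl⟩⟩, hz⟩ := IsLocalization.surj (Submonoid.powers g) z
    refine ⟨Polynomial.C b * Polynomial.X ^ k, ?_⟩
    rw [map_mul, map_pow, hπC, hπX, ← hz, map_pow, mul_assoc, ← mul_pow, IsLocalization.Away.mul_invSelf,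
      one_pow, mul_one]
  have hφ : Function.Surjective φ := awayMap_surjective α.toRingHom hα g
  let γ : Polynomial (MvPolynomial (Fin n) A) →ₐ[A] Bh :=
    { φ.comp π with
      commutes' := fun r => by
        show φ (π (algebraMap A (Polynomial (MvPolynomial (Fin n) A)) r)) = _
        rw [IsScalarTower.algebraMap_apply A (MvPolynomial (Fin n) A), Polynomial.algebraMap_eq, hπC, hφC,
          AlgHom.commutes, ← IsScalarTower.algebraMap_apply] }
  have hγ : Function.Surjective γ := hφ.comp hπ
  let e := MvPolynomial.finSuccEquiv A n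
  haveI : Algebra.FiniteType A Bh :=
    Algebra.FiniteType.of_surjective (γ.comp e.toAlgHom) (hγ.comp e.surjective)
  refine ⟨inferInstance, n + 1, γ.comp e.toAlgHom, hγ.comp e.surjective,
    (isKoszulRegularIdeal_ker_iff (γ.comp e.toAlgHom).toRingHom (hγ.comp e.surjective)).mpr fun Q _ => ?_⟩
  refine (kRegAt_equiv_iff e.toRingEquiv γ.toRingHom Q).mpr ?_
  refine KRegAt.up π hπ (Q.comap φ) (Ideal.comap_comap _ _)
    (fun x hx => show φ (π x) = 0 by rw [RingHom.mem_ker.mp hx, map_zero])
    (kRegAt_polynomial_away g _ π hπC hπX _) ?_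
  rw [show RingHom.ker γ.toRingHom = RingHom.ker (φ.comp π) from rfl, map_ker_comp φ π hπ]
  exact kRegAt_of_seq l hl hφker

/-- Principal localisations are LCI. -/
theorem isLCI_away (a : A) (A' : Type u) [CommRing A'] [Algebra A A'] [IsLocalization.Away a A'] :
    LCI.IsLCI A A' := by
  let π : Polynomial A →ₐ[A] A' := Polynomial.aeval (IsLocalization.Away.invSelf a)
  have hπ : Function.Surjective π := fun z => by
    obtain ⟨⟨b, ⟨_, k, rfl⟩⟩, hz⟩ := IsLocalization.surj (Submonoid.powers a) z
    refine ⟨Polynomial.C b * Polynomial.X ^ k, ?_⟩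
    simp only [π, map_mul, map_pow, Polynomial.aeval_C, Polynomial.aeval_X]
    rw [← hz, map_pow, mul_assoc, ← mul_pow, IsLocalization.Away.mul_invSelf, one_pow, mul_one]
  let e : MvPolynomial (Fin 1) A ≃ₐ[A] Polynomial A :=
    (MvPolynomial.finSuccEquiv A 0).trans (Polynomial.mapAlgEquiv (MvPolynomial.isEmptyAlgEquiv A (Fin 0)))
  haveI : Algebra.FiniteType A A' := IsLocalization.finiteType_of_monoid_fg (Submonoid.powers a) A'
  refine ⟨inferInstance, 1, π.comp e.toAlgHom, hπ.comp e.surjective,
    (isKoszulRegularIdeal_ker_iff (π.comp e.toAlgHom).toRingHom (hπ.comp e.surjective)).mpr fun Q _ => ?_⟩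
  exact (kRegAt_equiv_iff e.toRingEquiv π.toRingHom Q).mpr
    (kRegAt_polynomial_away a A' π.toRingHom (fun x => Polynomial.aeval_C _ _) (Polynomial.aeval_X _) _)

/-- Flat base change. -/
theorem isLCI_baseChange (A' B' : Type u) [CommRing A'] [CommRing B'] [Algebra A A'] [Algebra A B']
    [Algebra B B'] [Algebra A' B'] [IsScalarTower A B B'] [IsScalarTower A A' B']
    [Algebra.IsPushout A B A' B'] [Module.Flat A A'] (h : LCI.IsLCI A B) : LCI.IsLCI A' B' := by
  obtain ⟨-, n, α, hα, hI⟩ := h
  obtain ⟨β, hβ, hker, hcomm⟩ := ker_aeval_baseChange (A' := A') (B' := B') α hα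
  rw [isKoszulRegularIdeal_ker_iff _ hα] at hI
  refine ⟨Algebra.FiniteType.of_surjective β hβ, n, β, hβ,
    (isKoszulRegularIdeal_ker_iff _ hβ).mpr fun Q _ => ?_⟩
  rw [hker]
  refine KRegAt.map _ ?_ _ ?_
  · letI := MvPolynomial.algebraMvPolynomial (σ := Fin n) (R := A) (S := A')
    exact Module.Flat.isBaseChange A (MvPolynomial (Fin n) A) A' (MvPolynomial (Fin n) A')
      (inferInstance : Algebra.IsPushout A (MvPolynomial (Fin n) A) A' (MvPolynomial (Fin n) A')).out
  · convert hI (Q.comap (algebraMap B B')) inferInstance using 1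
    rw [Ideal.comap_comap, Ideal.comap_comap]
    congr 1
    exact RingHom.ext hcomm

/-- `LCI.IsLCI` as a property of ring maps. -/
def LCIHom {A B : Type u} [CommRing A] [CommRing B] (f : A →+* B) : Prop :=
  letI := f.toAlgebra
  LCI.IsLCI A B

theorem lciHom_stableUnderCompositionWithLocalizationAwayTarget :
    RingHom.StableUnderCompositionWithLocalizationAwayTarget @LCIHom := by
  intro R S T _ _ _ _ s _ f hf
  letI := f.toAlgebra
  letI := ((algebraMap S T).comp f).toAlgebra
  haveI : IsScalarTower R S T := IsScalarTower.of_algebraMap_eq' rfl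
  exact isLCI_comp (Cc := S) hf (isLCI_away s T)

theorem lciHom_localizationAwayPreserves : RingHom.LocalizationAwayPreserves @LCIHom := by
  intro R S _ _ f r R' S' _ _ _ _ _ _ hf
  letI := f.toAlgebra
  let μ : R' →+* S' := IsLocalization.Away.map R' S' f r
  letI := μ.toAlgebra
  letI := ((algebraMap S S').comp f).toAlgebra
  haveI : IsScalarTower R S S' := IsScalarTower.of_algebraMap_eq' rfl
  haveI : IsScalarTower R R' S' := IsScalarTower.of_algebraMap_eq' (by
    show _ = μ.comp (algebraMap R R')
    exact (IsLocalization.map_comp _).symm)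
  haveI : IsLocalization (Algebra.algebraMapSubmonoid S (Submonoid.powers r)) S' := by
    rw [Algebra.algebraMapSubmonoid, Submonoid.map_powers]; exact ‹IsLocalization.Away (f r) S'›
  haveI : Algebra.IsPushout R S R' S' :=
    Algebra.isPushout_of_isLocalization (Submonoid.powers r) R' S S'
  haveI : Module.Flat R R' := IsLocalization.flat R' (Submonoid.powers r)
  exact isLCI_baseChange (A := R) (B := S) R' S' hf

end GrothLib.LCI6
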