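import Groth.Agent.Lib.LCI6.LCI
import Groth.Agent.Lib.RegLoc.Basic
import Groth.Agent.Lib.RegSeqLoc.Basic
import Groth.Agent.Lib.RelReg.Chart
import Mathlib.RingTheory.RegularLocalRing.Polynomial

/-!
# Regular quotients of regular rings are cut out by Koszul regular ideals
-/

universe u

open IsLocalRing RingTheory.Sequence

namespace GrothLib.LCI6

/-- Near a prime where the quotient is regular, the ideal is Koszul regular. -/
theorem kRegAt_of_regular {P : Type u} [CommRing P] [IsNoetherianRing P] (I p : Ideal P) [p.IsPrime]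
    [IsRegularLocalRing (Localization.AtPrime p)]
    (hI : IsRegularLocalRing (Localization.AtPrime p ⧸ I.map (algebraMap P (Localization.AtPrime p)))) :
    KRegAt I p := by
  classical
  let L := Localization.AtPrime p
  obtain ⟨x, c, hc, hx, hIx, -⟩ :=
    GrothLib.RegLoc.exists_generators_quotient _ L rfl (I.map (algebraMap P L))
  have hw0 := GrothLib.RegLoc.isWeaklyRegular_ofFn _ L rfl x hx
  have hw : IsWeaklyRegular L (List.ofFn fun i : Fin c => x (Fin.castLE hc i)) := by
    have h : List.ofFn x = (List.ofFn x).take c ++ (List.ofFn x).drop c := (List.take_append_drop c _).symm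
    rw [h, isWeaklyRegular_append_iff] at hw0
    have e : (List.ofFn x).take c = List.ofFn fun i : Fin c => x (Fin.castLE hc i) := by
      apply List.ext_getElem
      · simpa using hc
      · intro i h1 h2
        simp
    exact e ▸ hw0.1
  have hclear : ∀ i : Fin c, ∃ (a : P) (u : L), IsUnit u ∧ algebraMap P L a = u * x (Fin.castLE hc i) := fun i => by
    obtain ⟨⟨a, s⟩, hs⟩ := IsLocalization.surj p.primeCompl (x (Fin.castLE hc i))
    exact ⟨a, algebraMap P L s, IsLocalization.map_units L s, by rw [← hs, mul_comm]⟩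
  choose a u hu hau using hclear
  have hwa : IsWeaklyRegular L ((List.ofFn a).map (algebraMap P L)) := by
    rw [List.map_ofFn, show algebraMap P L ∘ a = fun i => u i * x (Fin.castLE hc i) from funext hau]
    exact GrothLib.RegSeqLoc.isWeaklyRegular_ofFn_mul u hu hw
  obtain ⟨g₁, hg₁, hreg⟩ := GrothLib.RegSeqLoc.exists_away_isWeaklyRegular p.primeCompl L _ hwa
  obtain ⟨g₂, hg₂, heq⟩ := GrothLib.RelReg.exists_away_eq_of_fg p.primeCompl L I (Ideal.span (Set.range a))
    (IsNoetherian.noetherian _) (IsNoetherian.noetherian _) (by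
      rw [hIx, Ideal.map_span, ← Set.range_comp]
      refine le_antisymm (Ideal.span_le.mpr ?_) (Ideal.span_le.mpr ?_)
      · rintro _ ⟨i, rfl⟩
        show x (Fin.castLE hc i) ∈ _
        rw [show x (Fin.castLE hc i) = ↑(hu i).unit⁻¹ * algebraMap P L (a i) by
          simp [hau, ← mul_assoc]]
        exact Ideal.mul_mem_left _ _ (Ideal.subset_span ⟨i, rfl⟩)
      · rintro _ ⟨i, rfl⟩
        show algebraMap P L (a i) ∈ _
        rw [hau]
        exact Ideal.mul_mem_left _ _ (Ideal.subset_span ⟨i, rfl⟩))
  let B := Localization.Away (g₁ * g₂)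
  have hu₁ : IsUnit (algebraMap P B g₁) :=
    isUnit_of_dvd_unit (map_dvd _ (dvd_mul_right g₁ g₂)) (IsLocalization.Away.algebraMap_isUnit (g₁ * g₂))
  have hu₂ : IsUnit (algebraMap P B g₂) :=
    isUnit_of_dvd_unit (map_dvd _ (dvd_mul_left g₂ g₁)) (IsLocalization.Away.algebraMap_isUnit (g₁ * g₂))
  refine ⟨g₁ * g₂, fun h => (Ideal.IsPrime.mem_or_mem inferInstance h).elim hg₁ hg₂,
    ((List.ofFn a).map (algebraMap P B)).reverse,
    GrothLib.KoszulColon.isKoszulRegularSeq_of_isWeaklyRegular _
      (by rw [List.reverse_reverse]; exact hreg (Submonoid.powers (g₁ * g₂)) B hu₁), ?_⟩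
  rw [heq B (algebraMap P B) hu₂, Ideal.map_span, ← Set.range_comp]
  simp [Ideal.ofList, List.mem_ofFn, Set.range, Function.comp_def, B]

/-- A presentation of a regular ring over a regular ring is Koszul regular. -/
theorem isKoszulRegularIdeal_of_regular {P : Type u} [CommRing P] [IsRegularRing P] (I : Ideal P)
    [IsRegularRing (P ⧸ I)] : LCI.IsKoszulRegularIdeal I := by
  refine (isKoszulRegularIdeal_iff I).mpr fun p hp hIp => ?_
  let L := Localization.AtPrime p
  let p' : Ideal (P ⧸ I) := p.map (Ideal.Quotient.mk I)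
  haveI : p'.IsPrime := Ideal.map_isPrime_of_surjective Ideal.Quotient.mk_surjective (by rwa [Ideal.mk_ker])
  have hM : Algebra.algebraMapSubmonoid (P ⧸ I) p.primeCompl = p'.primeCompl := by
    ext z
    obtain ⟨y, rfl⟩ := Ideal.Quotient.mk_surjective z
    constructor
    · rintro ⟨w, hw, hwy⟩
      intro hy
      apply hw
      have hwmem : Ideal.Quotient.mk I w ∈ p' := by rw [show Ideal.Quotient.mk I w = _ from hwy]; exact hy
      have := Ideal.mem_comap.mpr hwmem
      rwa [Ideal.comap_map_of_surjective' _ Ideal.Quotient.mk_surjective, Ideal.mk_ker,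
        sup_eq_left.mpr hIp] at this
    · intro hy
      exact ⟨y, fun hyp => hy (Ideal.mem_map_of_mem _ hyp), rfl⟩
  haveI : IsLocalization.AtPrime (L ⧸ I.map (algebraMap P L)) p' := by
    have : IsLocalization (Algebra.algebraMapSubmonoid (P ⧸ I) p.primeCompl) (L ⧸ I.map (algebraMap P L)) :=
      inferInstance
    rwa [hM] at this
  exact kRegAt_of_regular I p (IsRegularLocalRing.of_ringEquiv
    (IsLocalization.algEquiv p'.primeCompl (Localization.AtPrime p') (L ⧸ I.map (algebraMap P L))).toRingEquiv)

/-- A finite type map of regular rings is LCI. -/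
theorem isLCI_of_isRegularRing {A B : Type u} [CommRing A] [CommRing B] [Algebra A B] [IsRegularRing A]
    [IsRegularRing B] [Algebra.FiniteType A B] : LCI.IsLCI A B := by
  obtain ⟨n, α, hα⟩ := Algebra.FiniteType.iff_quotient_mvPolynomial''.mp ‹Algebra.FiniteType A B›
  haveI : IsRegularRing (MvPolynomial (Fin n) A ⧸ RingHom.ker α.toRingHom) :=
    IsRegularRing.of_ringEquiv (RingHom.quotientKerEquivOfSurjective (f := α.toRingHom) hα).symm
  exact ⟨inferInstance, n, α, hα, isKoszulRegularIdeal_of_regular _⟩

end GrothLib.LCI6
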