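import Groth.Agent.Lib.LCI6.BaseChange
import Groth.Agent.Lib.LCI6.Regular
import Groth.Agent.Lib.LCI6.Locus
import Groth.Agent.Lib.GeomReg.Basic
import Mathlib.RingTheory.TensorProduct.Quotient
import Mathlib.RingTheory.Smooth.Flat

/-!
# Smooth maps are LCI; cancellation
-/

universe u

open IsLocalRing TensorProduct

namespace GrothLib.LCI6

/-- With everything flat and regular fibres, a presentation ideal is Koszul regular. -/
theorem kRegAt_of_flat_regular_fibres {R P : Type u} [CommRing R] [CommRing P] [Algebra R P]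
    [Algebra.FinitePresentation R P] [Module.Flat R P] {I : Ideal P} (hfg : I.FG) [Module.Flat R (P ⧸ I)]
    (hP : ∀ (r : Ideal R) [r.IsPrime], IsRegularRing (r.Fiber P))
    (hB : ∀ (r : Ideal R) [r.IsPrime], IsRegularRing (r.Fiber (P ⧸ I)))
    (p : Ideal P) [p.IsPrime] (hIp : I ≤ p) : KRegAt I p := by
  let r := p.comap (algebraMap R P)
  letI : Algebra P (r.Fiber P) := Algebra.TensorProduct.rightAlgebra
  haveI := hP r
  haveI := hB r
  let q₁ := PrimeSpectrum.preimageEquivFiber R P ⟨r, inferInstance⟩ ⟨⟨p, inferInstance⟩, rfl⟩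
  have hq₁ : q₁.asIdeal.comap Algebra.TensorProduct.includeRight.toRingHom = p :=
    congrArg (fun z => z.1.asIdeal)
      ((PrimeSpectrum.preimageEquivFiber R P ⟨r, inferInstance⟩).symm_apply_apply ⟨⟨p, inferInstance⟩, rfl⟩)
  have hmap : I.map (algebraMap P (r.Fiber P)) =
      I.map (Algebra.TensorProduct.includeRight (R := R) (A := r.ResidueField) (B := P)) := rfl
  haveI : IsRegularRing (r.Fiber P ⧸ I.map (algebraMap P (r.Fiber P))) :=
    IsRegularRing.of_ringEquiv (R := r.Fiber (P ⧸ I))
      ((Algebra.TensorProduct.tensorQuotientEquiv (R := R) r.ResidueField P r.ResidueField I).toRingEquiv.trans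
        (Ideal.quotEquivOfEq hmap.symm))
  haveI : Algebra.FinitePresentation r.ResidueField (r.Fiber P) := inferInstance
  have hk := (isKoszulRegularIdeal_iff _).mp
    (isKoszulRegularIdeal_of_regular (I.map (algebraMap P (r.Fiber P)))) q₁.asIdeal inferInstance
    (Ideal.map_le_iff_le_comap.mpr (hIp.trans hq₁.ge))
  have h := kRegAt_of_baseChange (R := R) (R' := r.ResidueField) (P' := r.Fiber P) hfg q₁.asIdeal
    (hIp.trans hq₁.ge) hk
  exact hq₁ ▸ h

/-- Smooth algebras are LCI. -/
theorem isLCI_of_smooth (A B : Type u) [CommRing A] [CommRing B] [Algebra A B] [Algebra.Smooth A B] :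
    LCI.IsLCI A B := by
  obtain ⟨n, α, hα⟩ := Algebra.FiniteType.iff_quotient_mvPolynomial''.mp (inferInstance : Algebra.FiniteType A B)
  haveI : Module.Flat A (MvPolynomial (Fin n) A ⧸ RingHom.ker α.toRingHom) :=
    Module.Flat.of_linearEquiv (Ideal.quotientKerAlgEquivOfSurjective hα).toLinearEquiv
  haveI : Algebra.Smooth A (MvPolynomial (Fin n) A ⧸ RingHom.ker α.toRingHom) :=
    Algebra.Smooth.of_equiv (Ideal.quotientKerAlgEquivOfSurjective hα).symm
  haveI : Algebra.Smooth A (MvPolynomial (Fin n) A) := ⟨inferInstance, inferInstance⟩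
  refine ⟨inferInstance, n, α, hα, (isKoszulRegularIdeal_iff _).mpr fun p hp hle => ?_⟩
  exact kRegAt_of_flat_regular_fibres (R := A) (Algebra.FinitePresentation.ker_fG_of_surjective α hα)
    (fun r _ => GrothLib.GeomReg.isRegularRing_of_smooth r.ResidueField _)
    (fun r _ => GrothLib.GeomReg.isRegularRing_of_smooth r.ResidueField _) p hle

/-- A surjection is LCI exactly when its kernel is Koszul regular. -/
theorem isLCI_iff_of_surjective {D B : Type u} [CommRing D] [CommRing B] [Algebra D B]
    (h : Function.Surjective (algebraMap D B)) :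
    LCI.IsLCI D B ↔ LCI.IsKoszulRegularIdeal (RingHom.ker (algebraMap D B)) := by
  let α : MvPolynomial (Fin 0) D →ₐ[D] B := MvPolynomial.aeval Fin.elim0
  let e : MvPolynomial (Fin 0) D ≃ₐ[D] D := MvPolynomial.isEmptyAlgEquiv D (Fin 0)
  have hα : Function.Surjective α := fun b => by
    obtain ⟨d, rfl⟩ := h b
    exact ⟨MvPolynomial.C d, α.commutes d⟩
  have he : α.toRingHom = (algebraMap D B).comp (e.toRingEquiv : _ →+* D) := by
    refine MvPolynomial.ringHom_ext (fun d => ?_) fun i => i.elim0
    show α (MvPolynomial.C d) = algebraMap D B (e (MvPolynomial.C d))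
    rw [show α (MvPolynomial.C d) = algebraMap D B d from α.commutes d,
      show e (MvPolynomial.C d) = d from e.commutes d]
  haveI : Algebra.FiniteType D B := Algebra.FiniteType.of_surjective α hα
  constructor
  · intro hl
    have h1 := isKoszulRegularIdeal_of_isLCI hl α hα
    rw [isKoszulRegularIdeal_ker_iff _ hα, he] at h1
    exact (isKoszulRegularIdeal_ker_iff _ h).mpr fun 𝔮 _ =>
      (kRegAt_equiv_iff e.toRingEquiv (algebraMap D B) 𝔮).mp (h1 𝔮 inferInstance)
  · intro hk
    rw [isKoszulRegularIdeal_ker_iff _ h] at hk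
    refine ⟨inferInstance, 0, α, hα, ?_⟩
    rw [isKoszulRegularIdeal_ker_iff _ hα, he]
    exact fun 𝔮 _ => (kRegAt_equiv_iff e.toRingEquiv (algebraMap D B) 𝔮).mpr (hk 𝔮 inferInstance)

/-- A section of a smooth algebra is LCI. -/
theorem isLCI_section (B D : Type u) [CommRing B] [CommRing D] [Algebra B D] [Algebra.Smooth B D] [Algebra D B]
    [IsScalarTower B D B] : LCI.IsLCI D B := by
  have h : Function.Surjective (algebraMap D B) := fun b =>
    ⟨algebraMap B D b, (IsScalarTower.algebraMap_apply B D B b).symm⟩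
  let s : D →ₐ[B] B := IsScalarTower.toAlgHom B D B
  rw [isLCI_iff_of_surjective h]
  show LCI.IsKoszulRegularIdeal (RingHom.ker s.toRingHom)
  haveI : Module.Flat B (D ⧸ RingHom.ker s.toRingHom) :=
    Module.Flat.of_linearEquiv (Ideal.quotientKerAlgEquivOfSurjective (f := s) h).toLinearEquiv
  haveI : Algebra.Smooth B (D ⧸ RingHom.ker s.toRingHom) :=
    Algebra.Smooth.of_equiv (Ideal.quotientKerAlgEquivOfSurjective (f := s) h).symm
  refine (isKoszulRegularIdeal_iff _).mpr fun p hp hle => ?_
  exact kRegAt_of_flat_regular_fibres (R := B) (Algebra.FinitePresentation.ker_fG_of_surjective s h)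
    (fun r _ => GrothLib.GeomReg.isRegularRing_of_smooth r.ResidueField _)
    (fun r _ => GrothLib.GeomReg.isRegularRing_of_smooth r.ResidueField _) p hle

/-- Cancellation of a smooth map. -/
theorem isLCI_cancel_smooth {A C B : Type u} [CommRing A] [CommRing C] [CommRing B] [Algebra A C] [Algebra A B]
    [Algebra C B] [IsScalarTower A C B] [Algebra.Smooth A C] (h : LCI.IsLCI A B) : LCI.IsLCI C B := by
  letI : Algebra B (C ⊗[A] B) := Algebra.TensorProduct.rightAlgebra
  haveI : Algebra.IsPushout A B C (C ⊗[A] B) := Algebra.IsPushout.symm inferInstance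
  haveI : IsScalarTower A B (C ⊗[A] B) := Algebra.TensorProduct.right_isScalarTower
  have h1 : LCI.IsLCI C (C ⊗[A] B) := isLCI_baseChange (A := A) (B := B) C (C ⊗[A] B) h
  haveI : Algebra.Smooth B (C ⊗[A] B) := Algebra.Smooth.of_equiv (Algebra.TensorProduct.commRight A B C)
  let s : C ⊗[A] B →ₐ[A] B := Algebra.TensorProduct.lift (IsScalarTower.toAlgHom A C B) (AlgHom.id A B)
    fun _ _ => Commute.all _ _
  letI := s.toRingHom.toAlgebra
  haveI : IsScalarTower B (C ⊗[A] B) B := IsScalarTower.of_algebraMap_eq fun b => by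
    show _ = s ((1 : C) ⊗ₜ b)
    simp [s]
  haveI : IsScalarTower C (C ⊗[A] B) B := IsScalarTower.of_algebraMap_eq fun c => by
    show _ = s (c ⊗ₜ (1 : B))
    simp [s]
  exact isLCI_comp (Cc := C ⊗[A] B) h1 (isLCI_section B (C ⊗[A] B))

end GrothLib.LCI6
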