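import Groth.Agent.Lib.LCI6.LocusScheme
import Groth.Agent.Lib.LCI6.Smooth
import Groth.Agent.Lib.RegSeqLoc.Immersion
import Groth.Agent.Lib.RegSeqLoc.AnyBaseChange
import Groth.Prelude.Def_RegImm
import Mathlib.AlgebraicGeometry.Morphisms.Smooth

/-!
# Local complete intersection at a point: composition, cancellation, immersions
-/

universe u

open AlgebraicGeometry CategoryTheory CategoryTheory.Limits

namespace GrothLib.LCI6

theorem exists_affine_le {X : Scheme.{u}} {x : X} {O : X.Opens} (hx : x ∈ O) :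
    ∃ W : X.Opens, IsAffineOpen W ∧ x ∈ W ∧ W ≤ O :=
  TopologicalSpace.Opens.isBasis_iff_nbhd.mp X.isBasis_affineOpens hx

theorem inLocus_exists {X Y : Scheme.{u}} {f : X ⟶ Y} {x : X} (h : InLocus f x) {U : X.Opens} {V : Y.Opens}
    (hU : IsAffineOpen U) (hV : IsAffineOpen V) (hUV : U ≤ f ⁻¹ᵁ V) (hx : x ∈ U) :
    ∃ s : Γ(X, U), x ∈ X.basicOpen s ∧
      letI := (f.appLE V (X.basicOpen s) ((X.basicOpen_le s).trans hUV)).hom.toAlgebra
      LCI.IsLCI Γ(Y, V) Γ(X, X.basicOpen s) := by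
  obtain ⟨U₀, V₀, hU₀, hV₀, hUV₀, hx₀, hl⟩ := h
  obtain ⟨r, s, hxs, e, hP⟩ := exists_basicOpen_le_appLE_of_appLE_of_isAffine
    lciHom_stableUnderCompositionWithLocalizationAwayTarget lciHom_localizationAwayPreserves x
    ⟨V, hV⟩ ⟨V₀, hV₀⟩ ⟨U, hU⟩ ⟨U₀, hU₀⟩ hx hx₀ hUV₀ hl (hUV hx)
  haveI := hV.isLocalization_basicOpen r
  refine ⟨s, hxs, ?_⟩
  letI := (f.appLE (Y.basicOpen r) (X.basicOpen s) e).hom.toAlgebra
  letI : Algebra Γ(Y, V) Γ(X, X.basicOpen s) :=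
    (f.appLE V (X.basicOpen s) ((X.basicOpen_le s).trans hUV)).hom.toAlgebra
  haveI : IsScalarTower Γ(Y, V) Γ(Y, Y.basicOpen r) Γ(X, X.basicOpen s) := IsScalarTower.of_algebraMap_eq' (by
    show _ = (f.appLE (Y.basicOpen r) (X.basicOpen s) e).hom.comp
      (Y.presheaf.map (homOfLE (Y.basicOpen_le r)).op).hom
    rw [← CommRingCat.hom_comp, Scheme.Hom.map_appLE]
    rfl)
  exact isLCI_comp (Cc := Γ(Y, Y.basicOpen r)) (isLCI_away r _) hP

theorem inLocus_comp {X Y Z : Scheme.{u}} {f : X ⟶ Y} {g : Y ⟶ Z} {x : X} (hf : InLocus f x)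
    (hg : InLocus g (f x)) : InLocus (f ≫ g) x := by
  obtain ⟨V, W, hV, hW, hVW, hy, hl⟩ := hg
  obtain ⟨U, hU, hx, hUV⟩ := exists_affine_le (x := x) (O := f ⁻¹ᵁ V) hy
  obtain ⟨s, hxs, hl'⟩ := inLocus_exists hf hU hV hUV hx
  have e : X.basicOpen s ≤ (f ≫ g) ⁻¹ᵁ W := fun z hz => hVW (hUV (X.basicOpen_le s hz))
  refine ⟨X.basicOpen s, W, hU.basicOpen s, hW, e, hxs, ?_⟩
  letI := (g.appLE W V hVW).hom.toAlgebra
  letI := (f.appLE V (X.basicOpen s) ((X.basicOpen_le s).trans hUV)).hom.toAlgebra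
  letI := ((f ≫ g).appLE W (X.basicOpen s) e).hom.toAlgebra
  haveI : IsScalarTower Γ(Z, W) Γ(Y, V) Γ(X, X.basicOpen s) := IsScalarTower.of_algebraMap_eq' (by
    show _ = (f.appLE V (X.basicOpen s) _).hom.comp (g.appLE W V hVW).hom
    rw [← CommRingCat.hom_comp, Scheme.Hom.appLE_comp_appLE]
    rfl)
  exact isLCI_comp (Cc := Γ(Y, V)) hl hl'

theorem inLocus_of_smooth {X Y : Scheme.{u}} (f : X ⟶ Y) [Smooth f] (x : X) : InLocus f x := by
  obtain ⟨V, hV, hy, -⟩ := exists_affine_le (x := f x) (O := (⊤ : Y.Opens)) trivial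
  obtain ⟨U, hU, hx, hUV⟩ := exists_affine_le (x := x) (O := f ⁻¹ᵁ V) hy
  refine ⟨U, V, hU, hV, hUV, hx, ?_⟩
  letI := (f.appLE V U hUV).hom.toAlgebra
  haveI : Algebra.Smooth Γ(Y, V) Γ(X, U) := f.smooth_appLE hV hU hUV
  exact isLCI_of_smooth _ _

theorem inLocus_cancel_smooth {X Y Z : Scheme.{u}} (f : X ⟶ Y) (g : Y ⟶ Z) [Smooth g] {x : X}
    (h : InLocus (f ≫ g) x) : InLocus f x := by
  obtain ⟨W, hW, hz, -⟩ := exists_affine_le (x := g (f x)) (O := (⊤ : Z.Opens)) trivial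
  obtain ⟨V, hV, hy, hVW⟩ := exists_affine_le (x := f x) (O := g ⁻¹ᵁ W) hz
  obtain ⟨U, hU, hx, hUV⟩ := exists_affine_le (x := x) (O := f ⁻¹ᵁ V) hy
  obtain ⟨s, hxs, hl⟩ := inLocus_exists h hU hW (fun z hz => hVW (hUV hz)) hx
  refine ⟨X.basicOpen s, V, hU.basicOpen s, hV, (X.basicOpen_le s).trans hUV, hxs, ?_⟩
  letI := (g.appLE W V hVW).hom.toAlgebra
  letI := (f.appLE V (X.basicOpen s) ((X.basicOpen_le s).trans hUV)).hom.toAlgebra
  letI := ((f ≫ g).appLE W (X.basicOpen s) fun z hz => hVW (hUV (X.basicOpen_le s hz))).hom.toAlgebra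
  haveI : IsScalarTower Γ(Z, W) Γ(Y, V) Γ(X, X.basicOpen s) := IsScalarTower.of_algebraMap_eq' (by
    show _ = (f.appLE V (X.basicOpen s) _).hom.comp (g.appLE W V hVW).hom
    rw [← CommRingCat.hom_comp, Scheme.Hom.appLE_comp_appLE]
    rfl)
  haveI : Algebra.Smooth Γ(Z, W) Γ(Y, V) := g.smooth_appLE hW hV hVW
  exact isLCI_cancel_smooth (A := Γ(Z, W)) hl

theorem inLocus_smooth_comp_iff {X Y Z : Scheme.{u}} (f : X ⟶ Y) (g : Y ⟶ Z) [Smooth g] {x : X} :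
    InLocus (f ≫ g) x ↔ InLocus f x :=
  ⟨inLocus_cancel_smooth f g, fun h => inLocus_comp h (inLocus_of_smooth g _)⟩

theorem inLocus_openImmersion_comp_iff {W X Y : Scheme.{u}} (j : W ⟶ X) [IsOpenImmersion j] (f : X ⟶ Y) {z : W} :
    InLocus (j ≫ f) z ↔ InLocus f (j z) := by
  refine ⟨fun ⟨U, V, hU, hV, hUV, hz, hl⟩ => ?_, fun h => inLocus_comp (inLocus_of_smooth j z) h⟩
  have e1 : j ''ᵁ U ≤ f ⁻¹ᵁ V := by
    rintro _ ⟨w, hw, rfl⟩
    exact hUV hw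
  refine ⟨j ''ᵁ U, V, hU.image_of_isOpenImmersion j, hV, e1, ⟨z, hz, rfl⟩, ?_⟩
  letI := (f.appLE V (j ''ᵁ U) e1).hom.toAlgebra
  letI := ((j ≫ f).appLE V U hUV).hom.toAlgebra
  haveI hiso : IsIso (j.appLE (j ''ᵁ U) U (j.preimage_image_eq U).ge) :=
    inferInstanceAs (IsIso (j.app _ ≫ W.presheaf.map (eqToHom (j.preimage_image_eq U).symm).op))
  let e := (asIso (j.appLE (j ''ᵁ U) U (j.preimage_image_eq U).ge)).commRingCatIsoToRingEquiv
  let eA : Γ(X, j ''ᵁ U) ≃ₐ[Γ(Y, V)] Γ(W, U) := AlgEquiv.ofRingEquiv (f := e) fun a => by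
    show ((f.appLE V (j ''ᵁ U) e1) ≫ (j.appLE (j ''ᵁ U) U _)).hom a = _
    rw [Scheme.Hom.appLE_comp_appLE]
    rfl
  exact isLCI_of_algEquiv eA.symm hl

/-- For immersions the locus is where the immersion is Koszul regular. -/
theorem isRegularImmersionAt_iff_inLocus {Z X : Scheme.{u}} (i : Z ⟶ X) [IsImmersion i] (z : Z) :
    RegImm.IsRegularImmersionAt RegImm.Kind.koszul i z ↔ InLocus i z := by
  constructor
  · rintro ⟨U, hzU, hci, rs, hrs, hker⟩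
    haveI : IsAffine (U.1 : Scheme) := U.2
    haveI : IsAffine (i ⁻¹ᵁ U.1 : Scheme) := isAffine_of_isAffineHom (i ∣_ U.1)
    refine ⟨i ⁻¹ᵁ U.1, U.1, ‹IsAffine (i ⁻¹ᵁ U.1 : Scheme)›, U.2, le_rfl, hzU, ?_⟩
    rw [← Scheme.Hom.app_eq_appLE]
    letI := (i.app U.1).hom.toAlgebra
    have hsurj : Function.Surjective (algebraMap Γ(X, U.1) Γ(Z, i ⁻¹ᵁ U.1)) :=
      (GrothLib.RegSeqLoc.app_surjective_of_restrict i U.2 hci).1
    refine (isLCI_iff_of_surjective hsurj).mpr ((isKoszulRegularIdeal_iff _).mpr fun p hp _ => ?_)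
    exact kRegAt_of_seq rs hrs hker
  · intro h
    obtain ⟨U, hzU, hci⟩ := GrothLib.RegSeqLoc.exists_affine_isClosedImmersion i z
    haveI : IsAffine (U.1 : Scheme) := U.2
    haveI : IsAffine (i ⁻¹ᵁ U.1 : Scheme) := isAffine_of_isAffineHom (i ∣_ U.1)
    have hU' : IsAffineOpen (i ⁻¹ᵁ U.1) := ‹IsAffine (i ⁻¹ᵁ U.1 : Scheme)›
    letI := (i.app U.1).hom.toAlgebra
    have hsurj : Function.Surjective (algebraMap Γ(X, U.1) Γ(Z, i ⁻¹ᵁ U.1)) :=
      (GrothLib.RegSeqLoc.app_surjective_of_restrict i U.2 hci).1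
    let α : MvPolynomial (Fin 0) Γ(X, U.1) →ₐ[Γ(X, U.1)] Γ(Z, i ⁻¹ᵁ U.1) := MvPolynomial.aeval Fin.elim0
    let e : MvPolynomial (Fin 0) Γ(X, U.1) ≃ₐ[Γ(X, U.1)] Γ(X, U.1) := MvPolynomial.isEmptyAlgEquiv _ (Fin 0)
    have hα : Function.Surjective α := fun b => by
      obtain ⟨d, rfl⟩ := hsurj b
      exact ⟨MvPolynomial.C d, α.commutes d⟩
    have he : α.toRingHom = (algebraMap Γ(X, U.1) Γ(Z, i ⁻¹ᵁ U.1)).comp (e.toRingEquiv : _ →+* Γ(X, U.1)) := by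
      refine MvPolynomial.ringHom_ext (fun d => ?_) fun j => j.elim0
      show α (MvPolynomial.C d) = algebraMap _ _ (e (MvPolynomial.C d))
      rw [show α (MvPolynomial.C d) = algebraMap _ _ d from α.commutes d,
        show e (MvPolynomial.C d) = d from e.commutes d]
    have hk := (inLocus_iff i hU' U.2 le_rfl hzU (by rw [← Scheme.Hom.app_eq_appLE]; rfl) α hα).mp h
    rw [he, kRegAt_equiv_iff] at hk
    obtain ⟨g, hg, l, hl, hI⟩ := hk
    haveI := U.2.isLocalization_basicOpen g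
    obtain ⟨l', hl', hI'⟩ := exists_list_of_dvd g g dvd_rfl _ l hl hI Γ(X, X.basicOpen g)
    have hmem : i z ∈ X.basicOpen g := by
      have h1 : z ∈ Z.basicOpen (i.app U.1 g) := (mem_basicOpen_iff_notMem hU' hzU _).mpr hg
      rw [← Scheme.preimage_basicOpen] at h1
      exact h1
    refine ⟨⟨X.basicOpen g, U.2.basicOpen g⟩, hmem, ?_, l', hl', ?_⟩
    · have h2 : IsClosedImmersion ((i ∣_ U.1) ∣_ (U.1.ι ⁻¹ᵁ X.basicOpen g)) :=
        IsZariskiLocalAtTarget.restrict hci _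
      rw [MorphismProperty.arrow_mk_iso_iff @IsClosedImmersion (morphismRestrictRestrict i U.1 _)] at h2
      have e2 : U.1.ι ''ᵁ (U.1.ι ⁻¹ᵁ X.basicOpen g) = X.basicOpen g := by
        rw [Scheme.Hom.image_preimage_eq_opensRange_inf, Scheme.Opens.opensRange_ι]
        exact inf_eq_right.2 (X.basicOpen_le g)
      rwa [MorphismProperty.arrow_mk_iso_iff @IsClosedImmersion (morphismRestrictEq i e2)] at h2
    · rw [← hI']
      letI : Algebra Γ(Z, i ⁻¹ᵁ U.1) Γ(Z, i ⁻¹ᵁ X.basicOpen g) :=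
        (Z.presheaf.map (homOfLE (i.preimage_mono (X.basicOpen_le g))).op).hom.toAlgebra
      haveI : IsLocalization.Away ((i.app U.1).hom g) Γ(Z, i ⁻¹ᵁ X.basicOpen g) :=
        hU'.isLocalization_of_eq_basicOpen (V := i ⁻¹ᵁ X.basicOpen g) (i.app U.1 g)
          (homOfLE (i.preimage_mono (X.basicOpen_le g))) (Scheme.preimage_basicOpen i g)
      have key : (i.app (X.basicOpen g)).hom = IsLocalization.map (M := Submonoid.powers g)
          (T := Submonoid.powers ((i.app U.1).hom g)) Γ(Z, i ⁻¹ᵁ X.basicOpen g) (i.app U.1).hom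
          (Submonoid.powers_le.mpr (Submonoid.mem_powers _)) := by
        refine IsLocalization.ringHom_ext (Submonoid.powers g) ?_
        rw [IsLocalization.map_comp]
        show (X.presheaf.map (homOfLE (X.basicOpen_le g)).op ≫ i.app (X.basicOpen g)).hom = _
        rw [i.naturality]
        rfl
      rw [key]
      exact IsLocalization.ker_map _ _ (Submonoid.map_powers _ g)

theorem isRegularImmersion_iff_inLocus {Z X : Scheme.{u}} (i : Z ⟶ X) [IsImmersion i] :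
    RegImm.IsRegularImmersion RegImm.Kind.koszul i ↔ ∀ z, InLocus i z :=
  ⟨fun h z => (isRegularImmersionAt_iff_inLocus i z).mp (h.2 z),
    fun h => ⟨‹_›, fun z => (isRegularImmersionAt_iff_inLocus i z).mpr (h z)⟩⟩

end GrothLib.LCI6
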