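import Groth.Agent.Lib.LCI6.Smooth
import Groth.Agent.Lib.AffDom.Formula
import Groth.Agent.Lib.CMFree.Params
import Groth.Agent.Lib.KoszulH1
import Groth.Prelude.Def_RegImm

/-!
# Local complete intersections over a field
-/

universe u

open IsLocalRing RingTheory.Sequence

namespace GrothLib.LCI6

/-- The local ring of the quotient. -/
theorem ringKrullDim_localization_quotient {P : Type u} [CommRing P] (I p : Ideal P) [p.IsPrime] (hIp : I ≤ p) :
    ringKrullDim (Localization.AtPrime p ⧸ I.map (algebraMap P (Localization.AtPrime p))) =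
      ((p.map (Ideal.Quotient.mk I)).height : WithBot ℕ∞) := by
  let L := Localization.AtPrime p
  let p' : Ideal (P ⧸ I) := p.map (Ideal.Quotient.mk I)
  haveI : p'.IsPrime := Ideal.map_isPrime_of_surjective Ideal.Quotient.mk_surjective (by rwa [Ideal.mk_ker])
  have hM : Algebra.algebraMapSubmonoid (P ⧸ I) p.primeCompl = p'.primeCompl := by
    ext z
    obtain ⟨y, rfl⟩ := Ideal.Quotient.mk_surjective z
    constructor
    · rintro ⟨w, hw, hwy⟩
      intro hy
      apply hw
      have hwmem : Ideal.Quotient.mk I w ∈ p' := by rw [show Ideal.Quotient.mk I w = _ from hwy]; exact hy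
      have := Ideal.mem_comap.mpr hwmem
      rwa [Ideal.comap_map_of_surjective' _ Ideal.Quotient.mk_surjective, Ideal.mk_ker,
        sup_eq_left.mpr hIp] at this
    · intro hy
      exact ⟨y, fun hyp => hy (Ideal.mem_map_of_mem _ hyp), rfl⟩
  haveI : IsLocalization.AtPrime (L ⧸ I.map (algebraMap P L)) p' := by
    have : IsLocalization (Algebra.algebraMapSubmonoid (P ⧸ I) p.primeCompl) (L ⧸ I.map (algebraMap P L)) :=
      inferInstance
    rwa [hM] at this
  exact IsLocalization.AtPrime.ringKrullDim_eq_height p' _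

theorem height_ne_top {P : Type u} [CommRing P] [IsNoetherianRing P] (p : Ideal P) [p.IsPrime] :
    ∃ n : ℕ, p.height = (n : ℕ∞) := by
  obtain ⟨n, hn⟩ := WithTop.ne_top_iff_exists.mp (Ideal.height_ne_top (I := p) Ideal.IsPrime.ne_top')
  exact ⟨n, hn.symm⟩

/-- A Koszul regular generating sequence drops the height by its length. -/
theorem height_add_length_eq {P : Type u} [CommRing P] [IsNoetherianRing P] {I : Ideal P} (g : P)
    (l : List (Localization.Away g)) (hl : LCI.IsKoszulRegularSeq (Localization.Away g) l)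
    (hI : I.map (algebraMap P (Localization.Away g)) = Ideal.ofList l) (p : Ideal P) [p.IsPrime]
    [IsRegularLocalRing (Localization.AtPrime p)] (hg : g ∉ p) (hIp : I ≤ p) :
    (p.map (Ideal.Quotient.mk I)).height + l.length = p.height := by
  obtain ⟨l', hlen, hl', hI'⟩ := exists_atPrime_list g l hl hI p hg
  let L := Localization.AtPrime p
  have hmem : ∀ i, l'.get i ∈ maximalIdeal L := fun i => by
    rw [← Localization.AtPrime.map_eq_maximalIdeal]
    exact Ideal.map_mono hIp (hI' ▸ Ideal.subset_span (List.get_mem l' i))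
  have hH1 := GrothLib.SeqKinds.isH1Regular_of_isKoszulRegularSeq l' hl'
  have hw : IsWeaklyRegular L l' := by
    rw [← List.ofFn_get l']
    refine GrothLib.KoszulH1.isWeaklyRegular_of_separates _
      (fun i => GrothLib.KoszulH1.separates_of_mem_jacobson (IsLocalRing.maximalIdeal_le_jacobson ⊥ (hmem i))) ?_
    intro m hm
    refine Submodule.span_le.2 ?_ (hH1 m (by rw [← hm]; exact Finset.sum_congr rfl fun i _ => mul_comm _ _))
    rintro _ ⟨i, j, rfl⟩
    exact Submodule.subset_span ⟨i, j, 1, by simp [← Pi.single_smul']⟩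
  have hreg : IsRegular L l' := by
    refine ⟨hw, fun htop => ?_⟩
    rw [smul_eq_mul, Ideal.mul_top] at htop
    refine (maximalIdeal.isMaximal L).ne_top (top_unique (htop.le.trans (Ideal.span_le.mpr ?_)))
    intro a ha
    obtain ⟨i, rfl⟩ := List.get_of_mem ha
    exact hmem i
  have h := ringKrullDim_add_length_eq_ringKrullDim_of_isRegular l' hreg
  rw [← hI', ringKrullDim_localization_quotient I p hIp, IsLocalization.AtPrime.ringKrullDim_eq_height p L,
    hlen] at h
  exact WithBot.coe_injective (by push_cast; exact h)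

variable {k : Type u} [Field k]

/-- The comap of a maximal ideal along a map of finite type algebras over a field is maximal. -/
theorem isMaximal_comap {B B' : Type u} [CommRing B] [CommRing B'] [Algebra k B] [Algebra k B']
    [Algebra.FiniteType k B'] (f : B →ₐ[k] B') (M : Ideal B') [M.IsMaximal] : (M.comap f).IsMaximal := by
  letI := Ideal.Quotient.field M
  haveI : Module.Finite k (B' ⧸ M) := finite_of_finite_type_of_isJacobsonRing k (B' ⧸ M)
  haveI : Algebra.IsIntegral k (B' ⧸ M) := Algebra.IsIntegral.of_finite k (B' ⧸ M)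
  let q : B →ₐ[k] B' ⧸ M := (Ideal.Quotient.mkₐ k M).comp f
  have hq : RingHom.ker q.toRingHom = M.comap f := by
    ext x
    simp [q, RingHom.mem_ker, Ideal.Quotient.eq_zero_iff_mem]
  rw [← hq]
  have hint : q.toRingHom.IsIntegral := fun z => by
    have : (algebraMap k (B' ⧸ M)).IsIntegralElem z := Algebra.IsIntegral.isIntegral (R := k) z
    rw [← q.comp_algebraMap] at this
    exact RingHom.IsIntegralElem.of_comp this
  have : ((⊥ : Ideal (B' ⧸ M)).comap q.toRingHom).IsMaximal :=
    Ideal.isMaximal_comap_of_isIntegral_of_isMaximal' q.toRingHom hint ⊥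
  rwa [← RingHom.ker_eq_comap_bot] at this

theorem height_eq_of_isMaximal {n : ℕ} (p : Ideal (MvPolynomial (Fin n) k)) [p.IsMaximal] :
    p.height = (n : ℕ∞) := by
  haveI := (inferInstance : p.IsMaximal).isPrime
  have h := GrothLib.AffDom.height_add_ringKrullDim_quotient k (MvPolynomial (Fin n) k) p
  letI := Ideal.Quotient.field p
  rw [ringKrullDim_eq_zero_of_field, add_zero, MvPolynomial.ringKrullDim_of_isNoetherianRing,
    ringKrullDim_eq_zero_of_field] at h
  simp only [Nat.card_fin, zero_add] at h
  exact WithBot.coe_injective h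

variable {S : Type u} [CommRing S] [Algebra k S]

/-- The dimension of an open piece cut out by a Koszul regular sequence. -/
theorem dim_away_eq {n : ℕ} (φ : MvPolynomial (Fin n) k →ₐ[k] S) (hφ : Function.Surjective φ)
    (g : MvPolynomial (Fin n) k) (l : List (Localization.Away g))
    (hl : LCI.IsKoszulRegularSeq (Localization.Away g) l)
    (hI : (RingHom.ker φ.toRingHom).map (algebraMap _ (Localization.Away g)) = Ideal.ofList l)
    (Sh : Type u) [CommRing Sh] [Algebra S Sh] [Algebra k Sh] [IsScalarTower k S Sh] [IsLocalization.Away (φ g) Sh]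
    [Nontrivial Sh] :
    l.length ≤ n ∧ ringKrullDim Sh = ((n - l.length : ℕ) : WithBot ℕ∞) := by
  haveI : Algebra.FiniteType k S := Algebra.FiniteType.of_surjective φ hφ
  haveI : Algebra.FiniteType k Sh :=
    Algebra.FiniteType.trans (inferInstance : Algebra.FiniteType k S)
      (IsLocalization.finiteType_of_monoid_fg (Submonoid.powers (φ g)) Sh)
  have key : ∀ M : Ideal Sh, M.IsMaximal → M.height + l.length = (n : ℕ∞) := by
    intro M hM
    haveI := hM.isPrime
    let q : Ideal S := M.comap (algebraMap S Sh)
    let p : Ideal (MvPolynomial (Fin n) k) := q.comap φ.toRingHom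
    haveI : p.IsMaximal := by
      have := isMaximal_comap ((IsScalarTower.toAlgHom k S Sh).comp φ) M
      exact this
    haveI : IsRegularLocalRing (Localization.AtPrime p) := inferInstance
    have hg : g ∉ p := fun hg => hM.ne_top
      (M.eq_top_of_isUnit_mem hg (IsLocalization.Away.algebraMap_isUnit (φ g)))
    have h := height_add_length_eq g l hl hI p hg (ker_le_comap φ.toRingHom q)
    rw [height_eq_of_isMaximal p] at h
    rw [← h]
    congr 1
    let e := RingHom.quotientKerEquivOfSurjective (f := φ.toRingHom) hφ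
    have he : (p.map (Ideal.Quotient.mk (RingHom.ker φ.toRingHom))).map (e : _ →+* S) = q := by
      rw [Ideal.map_map]
      have : (e : _ →+* S).comp (Ideal.Quotient.mk (RingHom.ker φ.toRingHom)) = φ.toRingHom :=
        RingHom.ext fun x => rfl
      rw [this]
      exact Ideal.map_comap_of_surjective _ hφ q
    rw [← IsLocalization.height_under (Submonoid.powers (φ g)) M]
    show q.height = _
    rw [← he]
    exact RingEquiv.height_map e _
  obtain ⟨M, hM⟩ := Ideal.exists_maximal Sh
  have hle : l.length ≤ n := by exact_mod_cast (key M hM) ▸ le_add_self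
  have hht : ∀ M : Ideal Sh, M.IsMaximal → M.height = ((n - l.length : ℕ) : ℕ∞) := fun M hM => by
    haveI := hM.isPrime
    haveI : IsNoetherianRing Sh := Algebra.FiniteType.isNoetherianRing k Sh
    obtain ⟨a, ha⟩ := height_ne_top M
    have := key M hM
    rw [ha] at this ⊢
    have h2 : a + l.length = n := by exact_mod_cast this
    exact_mod_cast (show a = n - l.length by omega)
  refine ⟨hle, le_antisymm ((ringKrullDim_le_iff_isMaximal_height_le _).mpr fun M hM => by rw [hht M hM]; rfl) ?_⟩
  haveI := hM.isPrime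
  exact le_trans (by rw [hht M hM]; rfl) (Ideal.height_le_ringKrullDim_of_ne_top hM.ne_top)

/-- An open piece cut out by a Koszul regular sequence is a global complete intersection. -/
theorem isGlobalCI_away_of_koszul {n c : ℕ} (φ : MvPolynomial (Fin n) k →ₐ[k] S) (hφ : Function.Surjective φ)
    (g : MvPolynomial (Fin n) k) (x : Fin c → MvPolynomial (Fin n) k)
    (hl : LCI.IsKoszulRegularSeq (Localization.Away g)
      (List.ofFn fun i => algebraMap _ (Localization.Away g) (x i)))
    (hI : (RingHom.ker φ.toRingHom).map (algebraMap _ (Localization.Away g)) =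
      Ideal.span (Set.range fun i => algebraMap _ (Localization.Away g) (x i))) :
    Synt.IsGlobalCI k (Localization.Away (φ g)) := by
  rcases subsingleton_or_nontrivial (Localization.Away (φ g)) with hS | hS
  · exact Or.inl hS
  right
  obtain ⟨hle, hdim⟩ := dim_away_eq φ hφ g _ hl (by rw [hI, ofList_ofFn]) (Localization.Away (φ g))
  rw [List.length_ofFn] at hle hdim
  let P := MvPolynomial (Fin n) k
  let Sh := Localization.Away (φ g)
  let ψ : Localization.Away g →+* Sh := Localization.awayMap φ.toRingHom g
  have hψC : ∀ a, ψ (algebraMap _ _ a) = algebraMap S Sh (φ a) := fun a =>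
    RingHom.congr_fun (awayMap_comp φ.toRingHom g) a
  let π : Polynomial P →+* Localization.Away g :=
    Polynomial.eval₂RingHom (algebraMap _ _) (IsLocalization.Away.invSelf g)
  have hπC : ∀ a, π (Polynomial.C a) = algebraMap _ _ a := fun a => Polynomial.eval₂_C _ _
  have hπX : π Polynomial.X = IsLocalization.Away.invSelf g := Polynomial.eval₂_X _ _
  have hπ : Function.Surjective π := fun z => by
    obtain ⟨⟨b, ⟨_, j, rfl⟩⟩, hz⟩ := IsLocalization.surj (Submonoid.powers g) z
    refine ⟨Polynomial.C b * Polynomial.X ^ j, ?_⟩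
    rw [map_mul, map_pow, hπC, hπX, ← hz, map_pow, mul_assoc, ← mul_pow, IsLocalization.Away.mul_invSelf,
      one_pow, mul_one]
  let γ : Polynomial P →ₐ[k] Sh :=
    { ψ.comp π with
      commutes' := fun a => by
        show ψ (π (algebraMap k (Polynomial P) a)) = _
        rw [IsScalarTower.algebraMap_apply k P (Polynomial P), Polynomial.algebraMap_eq, hπC, hψC,
          AlgHom.commutes, ← IsScalarTower.algebraMap_apply] }
  have hγ : Function.Surjective γ := (awayMap_surjective φ.toRingHom hφ g).comp hπ
  have hkπ : RingHom.ker π = Ideal.span {Polynomial.C g * Polynomial.X - 1} := by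
    let e := (Localization.awayEquivAdjoin g).symm
    have : π = (e.toRingEquiv : _ →+* Localization.Away g).comp
        (AdjoinRoot.mk (Polynomial.C g * Polynomial.X - 1)) := by
      refine Polynomial.ringHom_ext (fun a => ?_) ?_
      · rw [hπC, RingHom.comp_apply, AdjoinRoot.mk_C]
        exact (e.commutes a).symm
      · refine (IsLocalization.Away.algebraMap_isUnit (S := Localization.Away g) g).mul_left_cancel ?_
        rw [hπX, IsLocalization.Away.mul_invSelf, RingHom.comp_apply]
        have h0 : algebraMap P (Localization.Away g) g = (e.toRingEquiv : _ →+* Localization.Away g)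
            (AdjoinRoot.mk (Polynomial.C g * Polynomial.X - 1) (Polynomial.C g)) := by
          rw [AdjoinRoot.mk_C]; exact (e.commutes g).symm
        have h1 : AdjoinRoot.mk (Polynomial.C g * Polynomial.X - 1) (Polynomial.C g * Polynomial.X) = 1 := by
          have h2 : AdjoinRoot.mk (Polynomial.C g * Polynomial.X - 1) (Polynomial.C g * Polynomial.X - 1) = 0 :=
            AdjoinRoot.mk_self
          rwa [map_sub, map_one, sub_eq_zero] at h2
        rw [h0, ← map_mul, ← map_mul, h1, map_one]
    ext f
    rw [RingHom.mem_ker, Ideal.mem_span_singleton, ← AdjoinRoot.mk_eq_zero, this]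
    exact map_eq_zero_iff (e.toRingEquiv : _ →+* Localization.Away g) (fun _ _ h => e.injective h)
  have hkγ : RingHom.ker γ.toRingHom =
      Ideal.span (Set.range (Fin.snoc (fun i => Polynomial.C (x i)) (Polynomial.C g * Polynomial.X - 1) :
        Fin (c + 1) → Polynomial P)) := by
    have h1 : RingHom.ker γ.toRingHom = Ideal.comap π (RingHom.ker ψ) := RingHom.comap_ker ψ π |>.symm
    have h2 : RingHom.ker ψ = (Ideal.span (Set.range fun i => Polynomial.C (x i))).map π := by
      rw [ker_awayMap φ.toRingHom g, hI, Ideal.map_span, ← Set.range_comp]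
      congr 2
      exact funext fun i => (hπC (x i)).symm
    rw [h1, h2, Ideal.comap_map_of_surjective' π hπ, hkπ, Fin.range_snoc, Ideal.span_insert, sup_comm]
  let e1 := MvPolynomial.finSuccEquiv k n
  refine ⟨n + 1, c + 1, Nat.add_le_add_right hle 1, γ.comp e1.toAlgHom,
    fun i => e1.symm ((Fin.snoc (fun i => Polynomial.C (x i)) (Polynomial.C g * Polynomial.X - 1) :
        Fin (c + 1) → Polynomial P) i), hγ.comp e1.surjective, ?_, ?_⟩
  · have : RingHom.ker (γ.comp e1.toAlgHom).toRingHom =
        (RingHom.ker γ.toRingHom).map (e1.symm.toAlgHom.toRingHom) := by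
      refine le_antisymm (fun z hz => ?_) (Ideal.map_le_iff_le_comap.mpr fun z hz => ?_)
      · have := Ideal.mem_map_of_mem e1.symm.toAlgHom.toRingHom (show e1 z ∈ RingHom.ker γ.toRingHom from hz)
        rwa [show e1.symm.toAlgHom.toRingHom (e1 z) = z from e1.symm_apply_apply z] at this
      · show γ (e1 (e1.symm z)) = 0
        rw [AlgEquiv.apply_symm_apply]
        exact hz
    rw [this, hkγ, Ideal.map_span, ← Set.range_comp]
    rfl
  · rw [hdim, Nat.add_sub_add_right]

/-- A presentation by as many equations as the drop of dimension is Koszul regular everywhere. -/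
theorem isKoszulRegularSeq_of_dim {n c : ℕ} (hc : c ≤ n) (φ : MvPolynomial (Fin n) k →ₐ[k] S)
    (hφ : Function.Surjective φ) (r : Fin c → MvPolynomial (Fin n) k)
    (hker : RingHom.ker φ.toRingHom = Ideal.span (Set.range r))
    (hdim : ringKrullDim S ≤ ((n - c : ℕ) : WithBot ℕ∞)) :
    LCI.IsKoszulRegularSeq (MvPolynomial (Fin n) k) (List.ofFn r).reverse := by
  let P := MvPolynomial (Fin n) k
  refine GrothLib.KoszulColon.isKoszulRegularSeq_of_localized _ fun p hp hrp => ?_
  let L := Localization.AtPrime p
  let I := RingHom.ker φ.toRingHom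
  have hof : Ideal.ofList (List.ofFn r).reverse = I := by
    show Ideal.ofList _ = RingHom.ker φ.toRingHom
    rw [hker]
    simp [Ideal.ofList, List.mem_ofFn, Set.range]
  rw [hof] at hrp
  haveI : IsNoetherianRing S := by
    haveI : Algebra.FiniteType k S := Algebra.FiniteType.of_surjective φ hφ
    exact Algebra.FiniteType.isNoetherianRing k S
  -- heights
  let e := RingHom.quotientKerEquivOfSurjective (f := φ.toRingHom) hφ
  let p₀ : Ideal (P ⧸ I) := p.map (Ideal.Quotient.mk I)
  haveI : p₀.IsPrime := Ideal.map_isPrime_of_surjective Ideal.Quotient.mk_surjective (by rwa [Ideal.mk_ker])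
  have hq : (p₀.height : WithBot ℕ∞) + ringKrullDim ((P ⧸ I) ⧸ p₀) ≤ ringKrullDim (P ⧸ I) :=
    GrothLib.AffDom.height_add_ringKrullDim_quotient_le p₀
  have hp' : (p.height : WithBot ℕ∞) + ringKrullDim (P ⧸ p) = (n : WithBot ℕ∞) := by
    rw [GrothLib.AffDom.height_add_ringKrullDim_quotient k P p, MvPolynomial.ringKrullDim_of_isNoetherianRing,
      ringKrullDim_eq_zero_of_field]
    simp
  have heq : ringKrullDim ((P ⧸ I) ⧸ p₀) = ringKrullDim (P ⧸ p) :=
    ringKrullDim_eq_of_ringEquiv ((DoubleQuot.quotQuotEquivQuotSup I p).trans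
      (Ideal.quotEquivOfEq (sup_eq_right.mpr hrp)))
  rw [heq, ringKrullDim_eq_of_ringEquiv e] at hq
  replace hq := hq.trans hdim
  obtain ⟨h, hh⟩ := height_ne_top p
  obtain ⟨a, ha⟩ := height_ne_top p₀
  obtain ⟨d, -, hd⟩ := GrothLib.Dim.exists_nat_trdeg_eq_and_ringKrullDim_eq (k := k) (A := P ⧸ p)
  rw [ha, hd] at hq
  rw [hh, hd] at hp'
  have hq' : a + d ≤ n - c := by
    simp only [← WithBot.coe_natCast, ← WithBot.coe_add, WithBot.coe_le_coe] at hq
    exact_mod_cast hq
  have hp'' : h + d = n := by exact_mod_cast hp'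
  -- regularity in the local ring
  have hne : Ideal.ofList ((List.ofFn r).map (algebraMap P L)) ≠ ⊤ := fun htop => by
    refine (maximalIdeal.isMaximal L).ne_top (top_unique (htop ▸ ?_))
    rw [← Ideal.map_ofList, ← Localization.AtPrime.map_eq_maximalIdeal]
    refine Ideal.map_mono (le_trans (le_of_eq ?_) hrp)
    rw [← hof]
    simp [Ideal.ofList]
    try rfl
  have hIl : Ideal.ofList ((List.ofFn r).map (algebraMap P L)) = I.map (algebraMap P L) := by
    rw [← Ideal.map_ofList, ← hof]
    simp [Ideal.ofList]
    try rfl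
  haveI : IsRegularLocalRing L := inferInstance
  have hr : IsRegular L ((List.ofFn r).map (algebraMap P L)) := by
    refine GrothLib.CMFree.isRegular_of_ringKrullDim_quotient L _ hne ?_
    rw [hIl, ringKrullDim_localization_quotient I p hrp,
      IsLocalization.AtPrime.ringKrullDim_eq_height p L, ha, hh, List.length_map, List.length_ofFn]
    exact_mod_cast (show a + c ≤ h by omega)
  rw [List.map_reverse]
  exact GrothLib.KoszulColon.isKoszulRegularSeq_of_isWeaklyRegular _ (by rw [List.reverse_reverse]; exact hr.1)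

/-- Global complete intersections are LCI. -/
theorem isLCI_of_isGlobalCI [Algebra.FiniteType k S] (h : Synt.IsGlobalCI k S) : LCI.IsLCI k S := by
  rcases h with hS | ⟨n, c, hc, φ, r, hφ, hker, hdim⟩
  · obtain ⟨n, α, hα⟩ := Algebra.FiniteType.iff_quotient_mvPolynomial''.mp ‹Algebra.FiniteType k S›
    refine ⟨inferInstance, n, α, hα, (isKoszulRegularIdeal_ker_iff _ hα).mpr fun 𝔮 h𝔮 => ?_⟩
    exact absurd (Subsingleton.elim 𝔮 ⊤) h𝔮.ne_top
  · refine ⟨inferInstance, n, φ, hφ, (isKoszulRegularIdeal_iff _).mpr fun p hp _ => ?_⟩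
    exact kRegAt_of_seq _ (isKoszulRegularSeq_of_dim hc φ hφ r hker hdim.le) (by
      rw [hker]
      simp [Ideal.ofList, List.mem_ofFn, Set.range])

/-- The two notions of local complete intersection over a field agree. -/
theorem isLCIOver_iff_isLCI : Synt.IsLCIOver k S ↔ LCI.IsLCI k S := by
  constructor
  · rintro ⟨hft, h⟩
    haveI := hft
    refine isLCI_of_forall fun 𝔮 hp => ?_
    obtain ⟨g, hg, hgl⟩ := h ⟨𝔮, hp⟩
    haveI : Algebra.FiniteType k (Localization.Away g) := Algebra.FiniteType.trans hft
      (IsLocalization.finiteType_of_monoid_fg (Submonoid.powers g) _)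
    exact ⟨g, hg, isLCI_of_isGlobalCI hgl⟩
  · rintro ⟨hft, n, α, hα, hI⟩
    refine ⟨hft, fun q => ?_⟩
    obtain ⟨g, c, x, hg, -, hx, hIx⟩ :=
      ((isKoszulRegularIdeal_ker_iff _ hα).mp hI q.asIdeal inferInstance).exists_fin
    exact ⟨α g, hg, isGlobalCI_away_of_koszul α hα g x hx hIx⟩

end GrothLib.LCI6
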