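import Groth.Agent.Lib.LCI6.Presentation
import Groth.Prelude.Def_LCI2
import Mathlib.Algebra.MvPolynomial.Equiv
import Mathlib.RingTheory.RingHom.FiniteType

/-!
# Local complete intersection ring maps: locality and composition
-/

universe u

namespace GrothLib.LCI6

variable {A B : Type u} [CommRing A] [CommRing B] [Algebra A B]

/-- Any presentation of an LCI algebra has Koszul regular kernel. -/
theorem isKoszulRegularIdeal_of_isLCI (h : LCI.IsLCI A B) {m : ℕ} (β : MvPolynomial (Fin m) A →ₐ[A] B)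
    (hβ : Function.Surjective β) : LCI.IsKoszulRegularIdeal (RingHom.ker β.toRingHom) := by
  obtain ⟨-, n, α, hα, hI⟩ := h
  rw [isKoszulRegularIdeal_ker_iff _ hβ]
  rw [isKoszulRegularIdeal_ker_iff _ hα] at hI
  exact fun 𝔮 _ => kRegAt_of_presentation α hα β hβ 𝔮 (hI 𝔮 inferInstance)

/-- Regularity at the primes of a principal localisation which is LCI. -/
theorem kRegAt_of_isLCI_away {n : ℕ} (α : MvPolynomial (Fin n) A →ₐ[A] B) (hα : Function.Surjective α)
    (h : B) (Bh : Type u) [CommRing Bh] [Algebra B Bh] [Algebra A Bh] [IsScalarTower A B Bh]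
    [IsLocalization.Away h Bh] (hl : LCI.IsLCI A Bh) (𝔮 : Ideal B) [𝔮.IsPrime] (hq : h ∉ 𝔮) :
    KRegAt (RingHom.ker α.toRingHom) (𝔮.comap α.toRingHom) := by
  obtain ⟨h', rfl⟩ := hα h
  haveI : IsLocalization.Away (α.toRingHom h') Bh := ‹IsLocalization.Away (α h') Bh›
  let γ : Polynomial (MvPolynomial (Fin n) A) →ₐ[A] Bh :=
    { Polynomial.eval₂RingHom ((algebraMap B Bh).comp α.toRingHom)
        (IsLocalization.Away.invSelf (α.toRingHom h')) with
      commutes' := fun r => by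
        show Polynomial.eval₂RingHom _ _ (algebraMap A (Polynomial (MvPolynomial (Fin n) A)) r) = _
        rw [IsScalarTower.algebraMap_apply A (MvPolynomial (Fin n) A), Polynomial.algebraMap_eq,
          Polynomial.coe_eval₂RingHom, Polynomial.eval₂_C, RingHom.comp_apply, AlgHom.toRingHom_eq_coe,
          RingHom.coe_coe, AlgHom.commutes, ← IsScalarTower.algebraMap_apply] }
  have hC : ∀ x, γ (Polynomial.C x) = algebraMap B Bh (α x) := fun x => Polynomial.eval₂_C _ _
  have hX : γ Polynomial.X = IsLocalization.Away.invSelf (α.toRingHom h') := Polynomial.eval₂_X _ _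
  have hγ : Function.Surjective γ := fun z => by
    obtain ⟨⟨b, ⟨_, k, rfl⟩⟩, hz⟩ := IsLocalization.surj (Submonoid.powers (α h')) z
    obtain ⟨b', rfl⟩ := hα b
    refine ⟨Polynomial.C b' * Polynomial.X ^ k, ?_⟩
    rw [map_mul, map_pow, hC, hX, ← hz, map_pow, mul_assoc, ← mul_pow,
      show algebraMap B Bh (α h') * IsLocalization.Away.invSelf (α.toRingHom h') = 1 from
        IsLocalization.Away.mul_invSelf (α h'), one_pow, mul_one]
  let e := MvPolynomial.finSuccEquiv A n
  have hk := isKoszulRegularIdeal_of_isLCI hl (γ.comp e.toAlgHom) (hγ.comp e.surjective)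
  rw [isKoszulRegularIdeal_ker_iff (γ.comp e.toAlgHom).toRingHom (hγ.comp e.surjective)] at hk
  have hd : Disjoint (Submonoid.powers (α h') : Set B) (𝔮 : Set B) := by
    rw [Set.disjoint_left]
    rintro _ ⟨k, rfl⟩ hk'
    exact hq (Ideal.IsPrime.mem_of_pow_mem inferInstance k hk')
  haveI : (𝔮.map (algebraMap B Bh)).IsPrime :=
    IsLocalization.isPrime_of_isPrime_disjoint (Submonoid.powers (α h')) Bh 𝔮 inferInstance hd
  have hQ : (𝔮.map (algebraMap B Bh)).comap (algebraMap B Bh) = 𝔮 :=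
    IsLocalization.comap_map_of_isPrime_disjoint (Submonoid.powers (α h')) Bh inferInstance hd
  have h0 : KRegAt (RingHom.ker γ.toRingHom) ((𝔮.map (algebraMap B Bh)).comap γ.toRingHom) :=
    (kRegAt_equiv_iff e.toRingEquiv γ.toRingHom _).mp (hk _ inferInstance)
  have h1 := kRegAt_of_away α.toRingHom hα h' Bh γ.toRingHom hC hX (𝔮.map (algebraMap B Bh)) h0
  rwa [hQ] at h1

/-- `LCI.IsLCI` is local. -/
theorem isLCI_of_forall [Algebra.FiniteType A B]
    (hl : ∀ 𝔮 : Ideal B, ∀ _ : 𝔮.IsPrime, ∃ h, h ∉ 𝔮 ∧ LCI.IsLCI A (Localization.Away h)) :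
    LCI.IsLCI A B := by
  obtain ⟨n, α, hα⟩ := Algebra.FiniteType.iff_quotient_mvPolynomial''.mp ‹Algebra.FiniteType A B›
  refine ⟨inferInstance, n, α, hα, (isKoszulRegularIdeal_ker_iff _ hα).mpr fun 𝔮 hp => ?_⟩
  obtain ⟨h, hh, hlh⟩ := hl 𝔮 hp
  exact kRegAt_of_isLCI_away α hα h (Localization.Away h) hlh 𝔮 hh

/-- `LCI.IsLCI` descends from a covering by principal localisations. -/
theorem isLCI_of_span_eq_top (s : Set B) (hs : Ideal.span s = ⊤)
    (hl : ∀ h ∈ s, LCI.IsLCI A (Localization.Away h)) : LCI.IsLCI A B := by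
  haveI : Algebra.FiniteType A B := by
    rw [← RingHom.finiteType_algebraMap]
    refine RingHom.finiteType_ofLocalizationSpanTarget (algebraMap A B) s hs fun r => ?_
    rw [show (algebraMap B (Localization.Away (r : B))).comp (algebraMap A B) =
      algebraMap A (Localization.Away (r : B)) from (IsScalarTower.algebraMap_eq A B _).symm]
    exact RingHom.finiteType_algebraMap.mpr (hl r r.2).1
  refine isLCI_of_forall fun 𝔮 hp => ?_
  obtain ⟨h, hs', hh⟩ := Set.not_subset.mp fun hsub : s ⊆ 𝔮 =>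
    hp.ne_top (top_unique (hs ▸ Ideal.span_le.mpr hsub))
  exact ⟨h, hh, hl h hs'⟩

/-- `LCI.IsLCI` is transitive. -/
theorem isLCI_comp {Cc : Type u} [CommRing Cc] [Algebra A Cc] [Algebra Cc B] [IsScalarTower A Cc B]
    (h₁ : LCI.IsLCI A Cc) (h₂ : LCI.IsLCI Cc B) : LCI.IsLCI A B := by
  obtain ⟨hf₁, n, α, hα, hI⟩ := h₁
  obtain ⟨hf₂, m, β, hβ, hJ⟩ := h₂
  rw [isKoszulRegularIdeal_ker_iff _ hα] at hI
  rw [isKoszulRegularIdeal_ker_iff _ hβ] at hJ
  let e : MvPolynomial (Fin (m + n)) A ≃ₐ[A] MvPolynomial (Fin m) (MvPolynomial (Fin n) A) :=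
    (MvPolynomial.renameEquiv A finSumFinEquiv.symm).trans (MvPolynomial.sumAlgEquiv A (Fin m) (Fin n))
  let γ : MvPolynomial (Fin m) (MvPolynomial (Fin n) A) →ₐ[A] B :=
    (β.restrictScalars A).comp (MvPolynomial.mapAlgHom α)
  have hγ : Function.Surjective γ := hβ.comp (MvPolynomial.map_surjective α.toRingHom hα)
  refine ⟨Algebra.FiniteType.trans hf₁ hf₂, m + n, γ.comp e.toAlgHom, hγ.comp e.surjective,
    (isKoszulRegularIdeal_ker_iff (γ.comp e.toAlgHom).toRingHom (hγ.comp e.surjective)).mpr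
      fun 𝔮 _ => ?_⟩
  exact (kRegAt_equiv_iff e.toRingEquiv γ.toRingHom 𝔮).mpr
    (kRegAt_comp α.toRingHom hα β.toRingHom 𝔮 (hI _ inferInstance) (hJ 𝔮 inferInstance))

end GrothLib.LCI6

namespace GrothLib.LCI6

/-- `LCI.IsLCI` only depends on the isomorphism class. -/
theorem isLCI_of_algEquiv {A B B' : Type u} [CommRing A] [CommRing B] [CommRing B'] [Algebra A B] [Algebra A B']
    (e : B ≃ₐ[A] B') (h : LCI.IsLCI A B) : LCI.IsLCI A B' := by
  obtain ⟨hf, n, α, hα, hI⟩ := h
  refine ⟨Algebra.FiniteType.equiv hf e, n, e.toAlgHom.comp α, e.surjective.comp hα, ?_⟩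
  have : RingHom.ker (e.toAlgHom.comp α).toRingHom = RingHom.ker α.toRingHom := by
    ext x; simp [RingHom.mem_ker]
  rwa [this]

end GrothLib.LCI6
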