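import Groth.Agent.Lib.LCI6.UpDown
import Groth.Agent.Lib.FibreFlat.RegularFlat
import Mathlib.RingTheory.Localization.Away.AdjoinRoot
import Mathlib.Algebra.MvPolynomial.PDeriv
import Mathlib.RingTheory.Polynomial.Basic

/-!
# Koszul regular presentations: independence, localisation, composition
-/

universe u

namespace GrothLib.LCI6

open MvPolynomial (C X)

variable {A P B : Type u} [CommRing A] [CommRing P] [CommRing B]

theorem isKoszulRegularIdeal_ker_iff (α : P →+* B) (hα : Function.Surjective α) :
    LCI.IsKoszulRegularIdeal (RingHom.ker α) ↔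
      ∀ 𝔮 : Ideal B, ∀ _ : 𝔮.IsPrime, KRegAt (RingHom.ker α) (𝔮.comap α) := by
  rw [isKoszulRegularIdeal_iff]
  refine ⟨fun h 𝔮 _ => h _ inferInstance fun x hx => by
    rw [Ideal.mem_comap, RingHom.mem_ker.mp hx]; exact zero_mem _, fun h p hp hle => ?_⟩
  have hmap : (p.map α).IsPrime := Ideal.map_isPrime_of_surjective hα hle
  have : (p.map α).comap α = p := by
    rw [Ideal.comap_map_of_surjective' α hα, sup_eq_left.mpr hle]
  exact this ▸ h _ hmap

theorem ker_le_comap (α : P →+* B) (𝔮 : Ideal B) : RingHom.ker α ≤ 𝔮.comap α := fun x hx => by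
  rw [Ideal.mem_comap, RingHom.mem_ker.mp hx]; exact zero_mem _

theorem kRegAt_of_seq {J p : Ideal P} [p.IsPrime] (l : List P) (hl : LCI.IsKoszulRegularSeq P l)
    (hJ : J = Ideal.ofList l) : KRegAt J p := by
  haveI : IsLocalization.Away (1 : P) P :=
    IsLocalization.away_of_isUnit_of_bijective P isUnit_one Function.bijective_id
  exact KRegAt.of_model 1 (fun h => Ideal.IsPrime.ne_top inferInstance ((Ideal.eq_top_iff_one p).mpr h))
    P l hl (by rw [hJ]; exact Ideal.map_id _)

theorem map_ker_comp {Q : Type u} [CommRing Q] (α : P →+* B) (π : Q →+* P) (hπ : Function.Surjective π) :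
    (RingHom.ker (α.comp π)).map π = RingHom.ker α :=
  Ideal.map_comap_of_surjective π hπ (RingHom.ker α)

section Eval

variable {m : ℕ} (a : Fin m → P)

theorem ker_eval : RingHom.ker (MvPolynomial.eval a) = Ideal.span (Set.range fun j => X j - C (a j)) := by
  refine le_antisymm (fun f hf => ?_) (Ideal.span_le.mpr ?_)
  · have key : ∀ f : MvPolynomial (Fin m) P,
        f - C (MvPolynomial.eval a f) ∈ Ideal.span (Set.range fun j => X j - C (a j)) := fun f => by
      induction f using MvPolynomial.induction_on with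
      | C c => simp
      | add f g hf hg => rw [map_add, map_add, add_sub_add_comm]; exact add_mem hf hg
      | mul_X f j hf =>
        have : f * X j - C (MvPolynomial.eval a (f * X j)) =
            (f - C (MvPolynomial.eval a f)) * X j + C (MvPolynomial.eval a f) * (X j - C (a j)) := by
          rw [map_mul, MvPolynomial.eval_X, map_mul]; ring
        rw [this]
        exact add_mem (Ideal.mul_mem_right _ _ hf) (Ideal.mul_mem_left _ _ (Ideal.subset_span ⟨j, rfl⟩))
    simpa [RingHom.mem_ker.mp hf] using key f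
  · rintro _ ⟨j, rfl⟩
    simp

theorem isKoszulRegularSeq_X (R : Type u) [CommRing R] (m : ℕ) :
    LCI.IsKoszulRegularSeq (MvPolynomial (Fin m) R) (List.ofFn (X : Fin m → MvPolynomial (Fin m) R)) := by
  have h := GrothLib.KoszulColon.isKoszulRegularSeq_of_isWeaklyRegular
    (P := MvPolynomial (Fin m) R) (List.ofFn X).reverse
    (by rw [List.reverse_reverse]; exact GrothLib.FibreFlat.isWeaklyRegular_X R m)
  have h' := isKoszulRegularSeq_equiv (MvPolynomial.renameEquiv R Fin.revPerm).toRingEquiv _ h
  convert h' using 1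
  apply List.ext_getElem
  · simp
  · intro i h1 h2
    simp at h1
    simp [Fin.ext_iff, Fin.val_rev]
    congr 1
    ext
    simp
    omega

theorem isKoszulRegularSeq_X_sub_C :
    LCI.IsKoszulRegularSeq (MvPolynomial (Fin m) P) (List.ofFn fun j => X j - C (a j)) := by
  let e : MvPolynomial (Fin m) P ≃ₐ[P] MvPolynomial (Fin m) P :=
    AlgEquiv.ofAlgHom (MvPolynomial.aeval fun j => X j - C (a j)) (MvPolynomial.aeval fun j => X j + C (a j))
      (MvPolynomial.algHom_ext fun j => by simp) (MvPolynomial.algHom_ext fun j => by simp)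
  have := isKoszulRegularSeq_equiv e.toRingEquiv _ (isKoszulRegularSeq_X P m)
  rw [List.map_ofFn] at this
  simpa [e, Function.comp_def] using this

/-- Adding redundant variables does not matter. -/
theorem kRegAt_comp_eval_iff (α : P →+* B) (𝔮 : Ideal B) [𝔮.IsPrime] :
    KRegAt (RingHom.ker (α.comp (MvPolynomial.eval a))) (𝔮.comap (α.comp (MvPolynomial.eval a))) ↔
      KRegAt (RingHom.ker α) (𝔮.comap α) := by
  set π : MvPolynomial (Fin m) P →+* P := MvPolynomial.eval a
  have hπ : Function.Surjective π := fun x => ⟨C x, MvPolynomial.eval_C x⟩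
  set γ := α.comp π
  have hker : RingHom.ker π = Ideal.span (Set.range fun j => X j - C (a j)) := ker_eval a
  have hle : RingHom.ker π ≤ RingHom.ker γ := fun x hx => by
    rw [RingHom.mem_ker, RingHom.comp_apply, RingHom.mem_ker.mp hx, map_zero]
  have hmap : (RingHom.ker γ).map π = RingHom.ker α := map_ker_comp α π hπ
  constructor
  · intro h
    rw [← hmap]
    refine KRegAt.down π hπ (fun j => X j - C (a j)) (isKoszulRegularSeq_X_sub_C a) hker
      (fun j => hle (hker ▸ Ideal.subset_span ⟨j, rfl⟩))
      (fun j => (Ideal.Quotient.mk (𝔮.comap γ)).toAddMonoidHom.comp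
        (MvPolynomial.pderiv j).toLinearMap.toAddMonoidHom)
      (fun j c x hx => ?_) (fun i j => ?_) (𝔮.comap α) rfl h
    · have hx0 : Ideal.Quotient.mk (𝔮.comap γ) x = 0 :=
        Ideal.Quotient.eq_zero_iff_mem.mpr (ker_le_comap γ 𝔮 hx)
      show Ideal.Quotient.mk _ (MvPolynomial.pderiv j (c * x)) = _ * Ideal.Quotient.mk _ (MvPolynomial.pderiv j x)
      rw [MvPolynomial.pderiv_mul, map_add, map_mul, map_mul, hx0, mul_zero, zero_add]
    · show Ideal.Quotient.mk _ (MvPolynomial.pderiv j (X i - C (a i))) = _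
      rw [map_sub, MvPolynomial.pderiv_C, sub_zero, MvPolynomial.pderiv_X]
      split_ifs with h
      · subst h; simp
      · rw [Pi.single_eq_of_ne h, map_zero]
  · intro h
    refine KRegAt.up π hπ (𝔮.comap α) rfl hle ?_ (by rw [hmap]; exact h)
    exact kRegAt_of_seq _ (isKoszulRegularSeq_X_sub_C a) (by rw [hker, ofList_ofFn])

end Eval

theorem kRegAt_equiv_iff {Q : Type u} [CommRing Q] (e : Q ≃+* P) (α : P →+* B) (𝔮 : Ideal B) :
    KRegAt (RingHom.ker (α.comp (e : Q →+* P))) (𝔮.comap (α.comp (e : Q →+* P))) ↔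
      KRegAt (RingHom.ker α) (𝔮.comap α) := by
  have h1 : (RingHom.ker (α.comp (e : Q →+* P))).map (e : Q →+* P) = RingHom.ker α :=
    map_ker_comp α _ e.surjective
  have h2 : (RingHom.ker α).map (e.symm : P →+* Q) = RingHom.ker (α.comp (e : Q →+* P)) := by
    rw [← h1, Ideal.map_map, RingEquiv.symm_comp, Ideal.map_id]
  constructor
  · intro h
    rw [← h1]
    exact KRegAt.map_equiv e _ h
  · intro h
    rw [← h2]
    refine KRegAt.map_equiv e.symm _ ?_
    rwa [Ideal.comap_comap, RingHom.comp_assoc, RingEquiv.comp_symm, RingHom.comp_id]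

variable [Algebra A B]

/-- Independence of the presentation. -/
theorem kRegAt_of_presentation {n m : ℕ} (α : MvPolynomial (Fin n) A →ₐ[A] B) (hα : Function.Surjective α)
    (β : MvPolynomial (Fin m) A →ₐ[A] B) (hβ : Function.Surjective β) (𝔮 : Ideal B) [𝔮.IsPrime]
    (h : KRegAt (RingHom.ker α.toRingHom) (𝔮.comap α.toRingHom)) :
    KRegAt (RingHom.ker β.toRingHom) (𝔮.comap β.toRingHom) := by
  choose a ha using fun j => hα (β (X j))
  choose b hb using fun i => hβ (α (X i))
  rw [← kRegAt_comp_eval_iff b β.toRingHom 𝔮]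
  rw [← kRegAt_comp_eval_iff a α.toRingHom 𝔮] at h
  let e : MvPolynomial (Fin n) (MvPolynomial (Fin m) A) ≃ₐ[A]
      MvPolynomial (Fin m) (MvPolynomial (Fin n) A) := MvPolynomial.commAlgEquiv A (Fin n) (Fin m)
  have he : (α.toRingHom.comp (MvPolynomial.eval a)).comp (e.toRingEquiv : _ →+* _) =
      β.toRingHom.comp (MvPolynomial.eval b) := by
    refine MvPolynomial.ringHom_ext (fun p => ?_) (fun i => ?_)
    · induction p using MvPolynomial.induction_on with
      | C c => simp [e, AlgHom.commutes]
      | add p q hp hq => simp only [map_add, hp, hq]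
      | mul_X p j hp =>
        simp only [map_mul, hp]
        congr 1
        simp [e, ha]
    · simp [e, hb]
  rw [← he]
  exact (kRegAt_equiv_iff e.toRingEquiv _ 𝔮).mpr h

theorem sub_mul_X_nonZeroDivisor (h : P) (f : Polynomial P)
    (hf : (Polynomial.C h * Polynomial.X - 1) * f = 0) : f = 0 := by
  have hf' : f = Polynomial.C h * (Polynomial.X * f) := by
    rw [sub_mul, one_mul, sub_eq_zero, mul_assoc] at hf
    exact hf.symm
  ext n
  induction n with
  | zero => rw [hf']; simp
  | succ n ih => rw [hf', Polynomial.coeff_C_mul, Polynomial.coeff_X_mul, ih]; simp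

/-- From a presentation of a principal localisation. -/
theorem kRegAt_of_away (α : P →+* B) (hα : Function.Surjective α) (h' : P) (Bh : Type u) [CommRing Bh]
    [Algebra B Bh] [IsLocalization.Away (α h') Bh] (γ : Polynomial P →+* Bh)
    (hC : ∀ x, γ (Polynomial.C x) = algebraMap B Bh (α x))
    (hX : γ Polynomial.X = IsLocalization.Away.invSelf (α h'))
    (𝔮 : Ideal Bh) [𝔮.IsPrime] (hk : KRegAt (RingHom.ker γ) (𝔮.comap γ)) :
    KRegAt (RingHom.ker α) ((𝔮.comap (algebraMap B Bh)).comap α) := by
  let P' := Localization.Away h'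
  let π : Polynomial P →+* P' :=
    ((Localization.awayEquivAdjoin h').symm.toRingEquiv : _ →+* P').comp
      (AdjoinRoot.mk (Polynomial.C h' * Polynomial.X - 1))
  have hπ : Function.Surjective π :=
    (Localization.awayEquivAdjoin h').symm.surjective.comp AdjoinRoot.mk_surjective
  have hkerπ : RingHom.ker π = Ideal.span {Polynomial.C h' * Polynomial.X - 1} := by
    ext f
    rw [RingHom.mem_ker, Ideal.mem_span_singleton, ← AdjoinRoot.mk_eq_zero]
    show (Localization.awayEquivAdjoin h').symm (AdjoinRoot.mk _ f) = 0 ↔ _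
    exact EmbeddingLike.map_eq_zero_iff
  have hinv : algebraMap B Bh (α h') * γ Polynomial.X = 1 := by
    rw [hX]; exact IsLocalization.Away.mul_invSelf (α h')
  let φ : P' →+* Bh := IsLocalization.Away.lift h' (g := (algebraMap B Bh).comp α)
    (IsLocalization.Away.algebraMap_isUnit (α h'))
  have hφ : ∀ x, φ (algebraMap P P' x) = algebraMap B Bh (α x) :=
    IsLocalization.Away.lift_eq h' _
  have hπC : ∀ x, π (Polynomial.C x) = algebraMap P P' x := fun x => by
    show (Localization.awayEquivAdjoin h').symm (AdjoinRoot.mk _ (Polynomial.C x)) = _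
    rw [AdjoinRoot.mk_C]
    exact (Localization.awayEquivAdjoin h').symm.commutes x
  have hπX : algebraMap P P' h' * π Polynomial.X = 1 := by
    have : π (Polynomial.C h' * Polynomial.X - 1) = 0 := by
      rw [← RingHom.mem_ker, hkerπ]; exact Ideal.mem_span_singleton_self _
    rwa [map_sub, map_mul, map_one, hπC, sub_eq_zero] at this
  have hcomp : γ = φ.comp π := by
    refine Polynomial.ringHom_ext (fun x => ?_) ?_
    · rw [hC, RingHom.comp_apply, hπC, hφ]
    · refine (IsLocalization.Away.algebraMap_isUnit (S := Bh) (α h')).mul_left_cancel ?_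
      rw [hinv, RingHom.comp_apply, ← hφ h', ← map_mul, hπX, map_one]
  have hmap : (RingHom.ker γ).map π = RingHom.ker φ := by
    rw [hcomp]; exact map_ker_comp φ π hπ
  have hkφ : RingHom.ker φ = (RingHom.ker α).map (algebraMap P P') := by
    have hT : (Submonoid.powers h').map α = Submonoid.powers (α h') := Submonoid.map_powers α h'
    rw [← IsLocalization.ker_map Bh α hT]
    congr 1
  let p := 𝔮.comap γ
  have hwp : Polynomial.C h' * Polynomial.X - 1 ∈ RingHom.ker γ := by
    rw [RingHom.mem_ker, map_sub, map_mul, map_one, hC, hinv, sub_self]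
  have key : KRegAt ((RingHom.ker α).map (algebraMap P P')) (𝔮.comap φ) := by
    rw [← hkφ, ← hmap]
    refine KRegAt.down π hπ (fun _ : Fin 1 => Polynomial.C h' * Polynomial.X - 1) ?_ ?_
      (fun _ => hwp)
      (fun _ => (Ideal.Quotient.mk p).toAddMonoidHom.comp
        ((AddMonoidHom.mulLeft Polynomial.X).comp Polynomial.derivative.toAddMonoidHom))
      (fun j c x hx => ?_) (fun i j => ?_) (𝔮.comap φ) ?_ hk
    · refine GrothLib.KoszulColon.isKoszulRegularSeq_of_isWeaklyRegular _ ?_
      simp only [List.ofFn_succ, List.ofFn_zero, List.reverse_singleton]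
      rw [RingTheory.Sequence.isWeaklyRegular_cons_iff]
      refine ⟨fun x y hxy => ?_, RingTheory.Sequence.IsWeaklyRegular.nil _ _⟩
      have := sub_mul_X_nonZeroDivisor h' (x - y) (by
        simpa [mul_sub, sub_eq_zero, smul_eq_mul] using hxy)
      exact sub_eq_zero.mp this
    · rw [hkerπ, Set.range_const]
    · have hx0 : Ideal.Quotient.mk p x = 0 :=
        Ideal.Quotient.eq_zero_iff_mem.mpr (ker_le_comap γ 𝔮 hx)
      show Ideal.Quotient.mk p (Polynomial.X * Polynomial.derivative (c * x)) =
        _ * Ideal.Quotient.mk p (Polynomial.X * Polynomial.derivative x)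
      simp only [Polynomial.derivative_mul, map_mul, map_add, hx0, mul_zero, zero_add]
      ring
    · show Ideal.Quotient.mk p (Polynomial.X * Polynomial.derivative (Polynomial.C h' * Polynomial.X - 1)) = _
      rw [if_pos (Subsingleton.elim i j), Polynomial.derivative_sub, Polynomial.derivative_one, sub_zero,
        Polynomial.derivative_C_mul, Polynomial.derivative_X, mul_one, ← sub_eq_zero,
        ← (Ideal.Quotient.mk p).map_one, ← map_sub, Ideal.Quotient.eq_zero_iff_mem, mul_comm]
      exact ker_le_comap γ 𝔮 hwp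
    · rw [Ideal.comap_comap, ← hcomp]
  refine KRegAt.of_away h' P' (𝔮.comap φ) ?_ key
  rw [Ideal.comap_comap, Ideal.comap_comap]
  congr 1
  exact RingHom.ext hφ

/-- Composition. -/
theorem kRegAt_comp {Cc : Type u} [CommRing Cc] {m : ℕ} (α : P →+* Cc) (hα : Function.Surjective α)
    (β : MvPolynomial (Fin m) Cc →+* B) (𝔮 : Ideal B) [𝔮.IsPrime]
    (h₁ : KRegAt (RingHom.ker α) ((𝔮.comap (β.comp C)).comap α))
    (h₂ : KRegAt (RingHom.ker β) (𝔮.comap β)) :
    KRegAt (RingHom.ker (β.comp (MvPolynomial.map α))) (𝔮.comap (β.comp (MvPolynomial.map α))) := by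
  set π : MvPolynomial (Fin m) P →+* MvPolynomial (Fin m) Cc := MvPolynomial.map α
  have hπ : Function.Surjective π := MvPolynomial.map_surjective α hα
  refine KRegAt.up π hπ (𝔮.comap β) (Ideal.comap_comap _ _) ?_ ?_ (by rw [map_ker_comp β π hπ]; exact h₂)
  · exact fun x hx => by rw [RingHom.mem_ker, RingHom.comp_apply, RingHom.mem_ker.mp hx, map_zero]
  · rw [MvPolynomial.ker_map]
    refine KRegAt.map C ?_ _ ?_
    · exact RingHom.flat_algebraMap_iff.mpr (inferInstance : Module.Flat P (MvPolynomial (Fin m) P))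
    · convert h₁ using 1
      rw [Ideal.comap_comap, Ideal.comap_comap]
      congr 1
      exact RingHom.ext fun x => by simp [π]

end GrothLib.LCI6
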