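import Groth.Agent.Lib.LCI6.InLocus
import Groth.Agent.Lib.SeqKinds.NoetherianLocal
import Groth.Agent.Lib.RelReg.Stalk
import Groth.Agent.Lib.KoszulFwd

/-!
# The kinds of regular immersions agree over locally Noetherian schemes
-/

universe u

open AlgebraicGeometry CategoryTheory RingTheory.Sequence

namespace GrothLib.LCI6

/-- The kernel on a basic open. -/
theorem ker_app_basicOpen {Z X : Scheme.{u}} (i : Z ⟶ X) {U : X.Opens} (hU : IsAffineOpen U)
    (hU' : IsAffineOpen (i ⁻¹ᵁ U)) (g : Γ(X, U)) :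
    RingHom.ker (i.app (X.basicOpen g)).hom =
      (RingHom.ker (i.app U).hom).map (X.presheaf.map (homOfLE (X.basicOpen_le g)).op).hom := by
  letI : Algebra Γ(X, U) Γ(X, X.basicOpen g) :=
    (X.presheaf.map (homOfLE (X.basicOpen_le g)).op).hom.toAlgebra
  haveI : IsLocalization.Away g Γ(X, X.basicOpen g) := hU.isLocalization_basicOpen g
  letI : Algebra Γ(Z, i ⁻¹ᵁ U) Γ(Z, i ⁻¹ᵁ X.basicOpen g) :=
    (Z.presheaf.map (homOfLE (i.preimage_mono (X.basicOpen_le g))).op).hom.toAlgebra
  haveI : IsLocalization.Away ((i.app U).hom g) Γ(Z, i ⁻¹ᵁ X.basicOpen g) :=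
    hU'.isLocalization_of_eq_basicOpen (V := i ⁻¹ᵁ X.basicOpen g) (i.app U g)
      (homOfLE (i.preimage_mono (X.basicOpen_le g))) (Scheme.preimage_basicOpen i g)
  have key : (i.app (X.basicOpen g)).hom = IsLocalization.map (M := Submonoid.powers g)
      (T := Submonoid.powers ((i.app U).hom g)) Γ(Z, i ⁻¹ᵁ X.basicOpen g) (i.app U).hom
      (Submonoid.powers_le.mpr (Submonoid.mem_powers _)) := by
    refine IsLocalization.ringHom_ext (Submonoid.powers g) ?_
    rw [IsLocalization.map_comp]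
    show (X.presheaf.map (homOfLE (X.basicOpen_le g)).op ≫ i.app (X.basicOpen g)).hom = _
    rw [i.naturality]
    rfl
  rw [key]
  exact IsLocalization.ker_map _ _ (Submonoid.map_powers _ g)

theorem isClosedImmersion_basicOpen {Z X : Scheme.{u}} (i : Z ⟶ X) {U : X.Opens}
    (hci : IsClosedImmersion (i ∣_ U)) (g : Γ(X, U)) : IsClosedImmersion (i ∣_ X.basicOpen g) := by
  have h2 : IsClosedImmersion ((i ∣_ U) ∣_ (U.ι ⁻¹ᵁ X.basicOpen g)) := IsZariskiLocalAtTarget.restrict hci _
  rw [MorphismProperty.arrow_mk_iso_iff @IsClosedImmersion (morphismRestrictRestrict i U _)] at h2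
  have e2 : U.ι ''ᵁ (U.ι ⁻¹ᵁ X.basicOpen g) = X.basicOpen g := by
    rw [Scheme.Hom.image_preimage_eq_opensRange_inf, Scheme.Opens.opensRange_ι]
    exact inf_eq_right.2 (X.basicOpen_le g)
  rwa [MorphismProperty.arrow_mk_iso_iff @IsClosedImmersion (morphismRestrictEq i e2)] at h2

theorem isRegularImmersionAt_quasi {Z X : Scheme.{u}} (i : Z ⟶ X) (z : Z) {k : RegImm.Kind}
    (h : RegImm.IsRegularImmersionAt k i z) : RegImm.IsRegularImmersionAt RegImm.Kind.quasi i z := by
  obtain ⟨U, hz, hc, rs, hrs, hI⟩ := h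
  refine ⟨U, hz, hc, rs, ?_, hI⟩
  cases k with
  | quasi => exact hrs
  | h1 =>
    exact GrothLib.SeqKinds.isQuasiRegular_of_isH1Regular _ hrs
  | koszul =>
    exact GrothLib.SeqKinds.isQuasiRegular_of_isH1Regular _
      (GrothLib.SeqKinds.isH1Regular_of_isKoszulRegularSeq rs hrs)
  | regular =>
    exact GrothLib.SeqKinds.isQuasiRegular_of_isH1Regular _
      (GrothLib.SeqKinds.isH1Regular_of_isKoszulRegularSeq rs
        (GrothLib.KoszulFwd.isKoszulRegularSeq_of_isWeaklyRegular rs hrs.toIsWeaklyRegular))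

/-- Over a locally Noetherian scheme every kind implies every kind. -/
theorem isRegularImmersionAt_of_kind {Z X : Scheme.{u}} [IsLocallyNoetherian X] (i : Z ⟶ X) (z : Z)
    {k : RegImm.Kind} (h : RegImm.IsRegularImmersionAt k i z) (k' : RegImm.Kind) :
    RegImm.IsRegularImmersionAt k' i z := by
  classical
  obtain ⟨U, hz, hc, rs, hrs, hI⟩ := isRegularImmersionAt_quasi i z h
  have hnoeth : IsNoetherianRing Γ(X, U.1) := IsLocallyNoetherian.component_noetherian U
  obtain ⟨-, hU'⟩ := GrothLib.RegSeqLoc.app_surjective_of_restrict i U.2 hc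
  let L := X.presheaf.stalk (i z)
  let φ := (X.presheaf.germ U.1 (i z) hz).hom
  haveI : IsNoetherianRing L := by
    letI : Algebra Γ(X, U.1) L := TopCat.Presheaf.algebra_section_stalk X.presheaf (⟨i z, hz⟩ : U.1)
    haveI := U.2.isLocalization_stalk ⟨i z, hz⟩
    exact IsLocalization.isNoetherianRing (U.2.primeIdealOf ⟨i z, hz⟩).asIdeal.primeCompl L hnoeth
  have hq : CAlgX.IsQuasiRegular (φ ∘ rs.get) :=
    GrothLib.SeqKinds.isQuasiRegular_map φ (GrothLib.RelReg.flat_germ U.2 hz) _ hrs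
  have hm : ∀ j, (φ ∘ rs.get) j ∈ IsLocalRing.maximalIdeal L := fun j => by
    have h0 : i.app U.1 (rs.get j) = 0 := by
      rw [← RingHom.mem_ker, hI]
      exact Ideal.subset_span (List.get_mem rs j)
    by_contra hu
    have h1 : IsUnit ((i.stalkMap z).hom (φ (rs.get j))) := (IsLocalRing.notMem_maximalIdeal.mp hu).map _
    rw [show (i.stalkMap z).hom (φ (rs.get j)) = _ from Scheme.Hom.germ_stalkMap_apply i U.1 z hz (rs.get j),
      h0, map_zero] at h1
    exact not_isUnit_zero h1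
  have hreg := GrothLib.SeqKinds.isRegular_of_isQuasiRegular _ hm hq
  obtain ⟨g, hg, rs', hrs', hI'⟩ := GrothLib.RegSeqLoc.exists_basicOpen_isRegular U.2 hz
    (RingHom.ker (i.app U.1).hom) (List.ofFn (φ ∘ rs.get)) hreg (by
      rw [hI, Ideal.map_ofList, ← List.map_ofFn, List.ofFn_get])
  refine ⟨⟨X.basicOpen g, U.2.basicOpen g⟩, hg, isClosedImmersion_basicOpen i hc g, rs', ?_,
    (ker_app_basicOpen i U.2 hU' g).trans hI'⟩
  have hk := GrothLib.KoszulFwd.isKoszulRegularSeq_of_isWeaklyRegular rs' hrs'.toIsWeaklyRegular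
  have hh := GrothLib.SeqKinds.isH1Regular_of_isKoszulRegularSeq rs' hk
  cases k' with
  | regular => exact hrs'
  | koszul => exact hk
  | h1 => exact hh
  | quasi => exact GrothLib.SeqKinds.isQuasiRegular_of_isH1Regular _ hh

theorem isRegularImmersionAt_iff_inLocus_of_noetherian {Z X : Scheme.{u}} [IsLocallyNoetherian X] (i : Z ⟶ X)
    [IsImmersion i] (z : Z) (k : RegImm.Kind) : RegImm.IsRegularImmersionAt k i z ↔ InLocus i z :=
  ⟨fun h => (isRegularImmersionAt_iff_inLocus i z).mp (isRegularImmersionAt_of_kind i z h _),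
    fun h => isRegularImmersionAt_of_kind i z ((isRegularImmersionAt_iff_inLocus i z).mpr h) k⟩

end GrothLib.LCI6
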