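import Groth.Agent.Lib.KoszulColon.BaseChange
import Groth.Agent.Lib.KoszulColon.Append
import Groth.Agent.Lib.KoszulColon.Regular
import Mathlib.LinearAlgebra.Matrix.NonsingularInverse

/-!
# Invariance of Koszul regularity

Koszul regularity of a sequence is unchanged by an invertible matrix, and a converse of concatenation.
-/

universe u

open CategoryTheory Limits CochainComplex

namespace GrothLib.LCI6

open GrothLib.KoszulColon

section Phi

variable {Q : Type u} [CommRing Q] {M : Type u} [AddCommGroup M] [Module Q M] (γ : Module.Dual Q M)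

lemma contractLeft_phi_eq_zero (δ : Module.Dual Q M) : ∀ vs : List M, (∀ v ∈ vs, δ v = 0) →
    ∀ (i : ℤ) (x : (kc γ vs).X i), CliffordAlgebra.contractLeft δ (phi γ vs i x) = 0
  | [], _, i, x => by
      rw [phi]
      split_ifs with h
      · subst h
        exact CliffordAlgebra.contractLeft_algebraMap _ δ _
      · exact map_zero _
  | v :: vs, hv, i, x => by
      rw [phi_cons γ v vs i (i + 1) rfl, map_add, CliffordAlgebra.contractLeft_ι_mul,
        contractLeft_phi_eq_zero δ vs (fun w hw => hv w (List.mem_cons_of_mem v hw)),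
        contractLeft_phi_eq_zero δ vs (fun w hw => hv w (List.mem_cons_of_mem v hw)),
        hv v (List.mem_cons_self ..), zero_smul, mul_zero, sub_zero, add_zero]

lemma phi_injective : ∀ {n : ℕ} (v : Fin n → M) (δ : Fin n → Module.Dual Q M),
    (∀ k j, δ k (v j) = if k = j then 1 else 0) →
    ∀ (i : ℤ), Function.Injective (phi γ (List.ofFn v) i) := by
  intro n
  induction n with
  | zero =>
    intro v δ _ i
    rw [List.ofFn_zero]
    intro x y hxy
    by_cases h : i = 0
    · subst h
      have hinj : Function.Injective (unitIso γ).hom.hom :=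
        (unitIso γ).toLinearEquiv.injective
      refine hinj ((ExteriorAlgebra.algebraMap_inj M _ _).mp ?_)
      simpa [phi] using hxy
    · haveI := ModuleCat.subsingleton_of_isZero (isZero_nil γ (i := i) h)
      exact Subsingleton.elim x y
  | succ n ih =>
    intro v δ hδ i
    rw [List.ofFn_succ]
    let vs := List.ofFn fun j : Fin n => v j.succ
    have hih := ih (fun j => v j.succ) (fun k => δ k.succ) fun k j => by
      rw [hδ]; simp [Fin.succ_inj]
    have h0 : ∀ w ∈ vs, δ 0 w = 0 := fun w hw => by
      obtain ⟨j, rfl⟩ := List.mem_ofFn.mp hw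
      rw [hδ, if_neg (Fin.succ_ne_zero j).symm]
    refine (injective_iff_map_eq_zero (phi γ (v 0 :: vs) i)).mpr fun x hx => ?_
    rw [phi_cons γ (v 0) vs i (i + 1) rfl] at hx
    have h1 := congrArg (CliffordAlgebra.contractLeft (δ 0)) hx
    rw [map_add, CliffordAlgebra.contractLeft_ι_mul, contractLeft_phi_eq_zero γ _ vs h0,
      contractLeft_phi_eq_zero γ _ vs h0, hδ, if_pos rfl, one_smul, mul_zero, sub_zero, add_zero,
      map_zero] at h1
    rw [h1, mul_zero, zero_add] at hx
    rw [pr_decomp γ (v 0) vs i (i + 1) rfl x,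
      hih (i + 1) (h1.trans (map_zero _).symm), hih i (hx.trans (map_zero _).symm), map_zero,
      map_zero, add_zero]

lemma span_mul_span_le (v : M) (W : Submodule Q M) :
    Submodule.span Q {ExteriorAlgebra.ι Q v} * W.map (ExteriorAlgebra.ι Q) ≤
      W.map (ExteriorAlgebra.ι Q) * Submodule.span Q {ExteriorAlgebra.ι Q v} := by
  refine Submodule.mul_le.mpr fun a ha b hb => ?_
  obtain ⟨r, rfl⟩ := Submodule.mem_span_singleton.mp ha
  obtain ⟨w, hw, rfl⟩ := Submodule.mem_map.mp hb
  rw [smul_mul_assoc, eq_neg_of_add_eq_zero_left (ExteriorAlgebra.ι_add_mul_swap v w)]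
  exact Submodule.smul_mem _ r (neg_mem (Submodule.mul_mem_mul (Submodule.mem_map_of_mem hw)
    (Submodule.mem_span_singleton_self _)))

lemma span_mul_span_ge (v : M) (W : Submodule Q M) :
    W.map (ExteriorAlgebra.ι Q) * Submodule.span Q {ExteriorAlgebra.ι Q v} ≤
      Submodule.span Q {ExteriorAlgebra.ι Q v} * W.map (ExteriorAlgebra.ι Q) := by
  refine Submodule.mul_le.mpr fun b hb a ha => ?_
  obtain ⟨r, rfl⟩ := Submodule.mem_span_singleton.mp ha
  obtain ⟨w, hw, rfl⟩ := Submodule.mem_map.mp hb
  rw [mul_smul_comm, eq_neg_of_add_eq_zero_right (ExteriorAlgebra.ι_add_mul_swap v w)]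
  exact Submodule.smul_mem _ r (neg_mem (Submodule.mul_mem_mul (Submodule.mem_span_singleton_self _)
    (Submodule.mem_map_of_mem hw)))

lemma pow_cons (v : M) (W : Submodule Q M) : ∀ k : ℕ,
    (Submodule.span Q {ExteriorAlgebra.ι Q v} ⊔ W.map (ExteriorAlgebra.ι Q)) ^ (k + 1) =
      Submodule.span Q {ExteriorAlgebra.ι Q v} * W.map (ExteriorAlgebra.ι Q) ^ k ⊔
        W.map (ExteriorAlgebra.ι Q) ^ (k + 1)
  | 0 => by simp
  | k + 1 => by
      set L := Submodule.span Q {ExteriorAlgebra.ι Q v} with hL
      set W' := W.map (ExteriorAlgebra.ι Q) with hW'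
      have hLL : L * L = ⊥ := by
        rw [hL, Submodule.span_mul_span, Set.singleton_mul_singleton, ExteriorAlgebra.ι_sq_zero,
          Submodule.span_singleton_eq_bot]
      have hc : W' * L = L * W' := le_antisymm (span_mul_span_ge v W) (span_mul_span_le v W)
      have hck : ∀ j : ℕ, W' ^ j * L = L * W' ^ j := by
        intro j
        induction j with
        | zero => simp
        | succ j ih => rw [pow_succ, mul_assoc, hc, ← mul_assoc, ih, mul_assoc]
      rw [pow_succ, pow_cons v W k, ← hL, ← hW', Submodule.mul_sup, Submodule.sup_mul,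
        Submodule.sup_mul, mul_assoc L (W' ^ k) L, hck, ← mul_assoc L L, hLL, Submodule.bot_mul,
        bot_sup_eq, hck, mul_assoc L (W' ^ k) W', ← pow_succ, ← pow_succ, ← sup_assoc, sup_idem]

lemma range_phi : ∀ (vs : List M) (k : ℕ) (i : ℤ), i + k = 0 →
    LinearMap.range (phi γ vs i) =
      (Submodule.span Q {w | w ∈ vs}).map (ExteriorAlgebra.ι Q) ^ k
  | [], k, i, hik => by
      have he : {w : M | w ∈ ([] : List M)} = ∅ := by ext; simp
      rw [he, Submodule.span_empty, Submodule.map_bot, phi]
      rcases k with _ | k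
      · have h : i = 0 := by simpa using hik
        subst h
        rw [dif_pos rfl, pow_zero, Submodule.one_eq_range]
        exact LinearMap.range_comp_of_range_eq_top _
          (LinearMap.range_eq_top.mpr (unitIso γ).toLinearEquiv.surjective)
      · rw [dif_neg (by omega), LinearMap.range_zero, pow_succ, Submodule.mul_bot]
  | v :: vs, k, i, hik => by
      have hset : {w : M | w ∈ v :: vs} = insert v {w | w ∈ vs} := by ext; simp
      rw [hset, Submodule.span_insert, Submodule.map_sup, Submodule.map_span,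
        Set.image_singleton]
      set L := Submodule.span Q {ExteriorAlgebra.ι Q v} with hL
      have hsplit : LinearMap.range (phi γ (v :: vs) i) =
          (LinearMap.range (phi γ vs (i + 1))).map (LinearMap.mulLeft Q (ExteriorAlgebra.ι Q v)) ⊔
            LinearMap.range (phi γ vs i) := by
        refine le_antisymm ?_ (sup_le ?_ ?_)
        · rintro _ ⟨x, rfl⟩
          rw [phi_cons γ v vs i (i + 1) rfl]
          exact Submodule.add_mem_sup
            (Submodule.mem_map_of_mem (f := LinearMap.mulLeft Q _) (LinearMap.mem_range_self _ _))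
            (LinearMap.mem_range_self _ _)
        · rintro _ ⟨_, ⟨a, rfl⟩, rfl⟩
          refine ⟨(in₁ γ v vs i (i + 1) rfl).hom a, ?_⟩
          rw [phi_cons γ v vs i (i + 1) rfl, pr₁_in₁, pr₂_in₁, map_zero, add_zero]
          rfl
        · rintro _ ⟨b, rfl⟩
          refine ⟨(in₂ γ v vs i).hom b, ?_⟩
          rw [phi_cons γ v vs i (i + 1) rfl, pr₁_in₂, pr₂_in₂, map_zero, mul_zero, zero_add]
      have hmap : ∀ U : Submodule Q (ExteriorAlgebra Q M),
          U.map (LinearMap.mulLeft Q (ExteriorAlgebra.ι Q v)) = L * U := fun U => by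
        refine le_antisymm (Submodule.map_le_iff_le_comap.mpr fun a ha =>
          Submodule.mul_mem_mul (Submodule.mem_span_singleton_self _) ha) (Submodule.mul_le.mpr ?_)
        intro a ha b hb
        obtain ⟨r, rfl⟩ := Submodule.mem_span_singleton.mp ha
        rw [smul_mul_assoc]
        exact Submodule.smul_mem _ r ⟨b, hb, rfl⟩
      rw [hsplit, range_phi vs k i hik]
      rcases k with _ | k
      · haveI : Subsingleton ((kc γ vs).X (i + 1)) :=
          ModuleCat.subsingleton_of_isZero (isZero_out γ vs _ (Or.inl (by omega)))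
        rw [show LinearMap.range (phi γ vs (i + 1)) = ⊥ from by
          rw [LinearMap.range_eq_bot]; ext x; rw [Subsingleton.elim x 0, map_zero, map_zero],
          Submodule.map_bot, bot_sup_eq, pow_zero, pow_zero]
      · rw [range_phi vs k (i + 1) (by omega), hmap, pow_cons v]

/-- Two bases give Koszul complexes with the same exactness. -/
lemma exact_of_exact {n : ℕ} (v w : Fin n → M) (δ ε : Fin n → Module.Dual Q M)
    (hδ : ∀ k j, δ k (v j) = if k = j then 1 else 0) (hε : ∀ k j, ε k (w j) = if k = j then 1 else 0)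
    (hvw : Submodule.span Q (Set.range v) = Submodule.span Q (Set.range w))
    (i j k : ℤ) (hij : i + 1 = j) (hjk : j + 1 = k) (hj : j ≠ 0)
    (h : ∀ x : (kc γ (List.ofFn v)).X j, ((kc γ (List.ofFn v)).d j k).hom x = 0 →
      ∃ y, ((kc γ (List.ofFn v)).d i j).hom y = x)
    (x : (kc γ (List.ofFn w)).X j) (hx : ((kc γ (List.ofFn w)).d j k).hom x = 0) :
    ∃ y, ((kc γ (List.ofFn w)).d i j).hom y = x := by
  rcases lt_or_gt_of_ne hj with hj' | hj'
  · have hset : ∀ u : Fin n → M, {m | m ∈ List.ofFn u} = Set.range u := fun u => by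
      ext; simp [List.mem_ofFn]
    have hr : ∀ l : ℤ, l ≤ 0 →
        LinearMap.range (phi γ (List.ofFn v) l) = LinearMap.range (phi γ (List.ofFn w) l) := by
      intro l hl
      rw [range_phi γ (List.ofFn v) l.natAbs l (by omega),
        range_phi γ (List.ofFn w) l.natAbs l (by omega), hset, hset, hvw]
    obtain ⟨x', hx'⟩ : phi γ (List.ofFn w) j x ∈ LinearMap.range (phi γ (List.ofFn v) j) := by
      rw [hr j hj'.le]; exact LinearMap.mem_range_self _ x
    have hcyc : ((kc γ (List.ofFn v)).d j k).hom x' = 0 := by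
      apply phi_injective γ v δ hδ k
      rw [phi_d γ _ j k hjk, hx', ← phi_d γ _ j k hjk, hx, map_zero, map_zero]
    obtain ⟨y', hy'⟩ := h x' hcyc
    obtain ⟨y, hy⟩ : phi γ (List.ofFn v) i y' ∈ LinearMap.range (phi γ (List.ofFn w) i) := by
      rw [← hr i (by omega)]; exact LinearMap.mem_range_self _ y'
    refine ⟨y, phi_injective γ w ε hε j ?_⟩
    rw [phi_d γ _ i j hij, hy, ← phi_d γ _ i j hij, hy', hx']
  · haveI : Subsingleton ((kc γ (List.ofFn w)).X j) :=
      ModuleCat.subsingleton_of_isZero (isZero_out γ _ _ (Or.inl hj'))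
    exact ⟨0, Subsingleton.elim _ _⟩

end Phi

/-- The criterion in terms of elements. -/
lemma isKoszulRegularSeq_iff {P : Type u} [CommRing P] (l : List P) :
    LCI.IsKoszulRegularSeq P l ↔ ∀ j : ℤ, j ≠ 0 → ∀ x : (Koszul.koszul P l).X j,
      ((Koszul.koszul P l).d j (j + 1)).hom x = 0 →
      ∃ y, ((Koszul.koszul P l).d (j - 1) j).hom y = x := by
  refine forall₂_congr fun j _ => ?_
  rw [← HomologicalComplex.exactAt_iff_isZero_homology,
    HomologicalComplex.exactAt_iff' _ (j - 1) j (j + 1) (by simp) (by simp),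
    ShortComplex.moduleCat_exact_iff]
  rfl

/-- Koszul regularity is unchanged by an invertible matrix. -/
theorem isKoszulRegularSeq_mulVec {P : Type u} [CommRing P] {n : ℕ} (T : Matrix (Fin n) (Fin n) P)
    (hT : IsUnit T.det) (g : Fin n → P) (hg : LCI.IsKoszulRegularSeq P (List.ofFn g)) :
    LCI.IsKoszulRegularSeq P (List.ofFn (T.mulVec g)) := by
  let γ : Module.Dual P (Fin n → P) := ∑ i, g i • LinearMap.proj i
  have hγ : ∀ u : Fin n → P, γ u = dotProduct u g := fun u => by
    simp [γ, dotProduct, mul_comm]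
  let v : Fin n → (Fin n → P) := fun i => Pi.single i 1
  let w : Fin n → (Fin n → P) := fun i => T i
  have hv : (List.ofFn v).map γ = List.ofFn g := by
    rw [List.map_ofFn]; congr 1; funext i; simp [hγ, v]
  have hw : (List.ofFn w).map γ = List.ofFn (T.mulVec g) := by
    rw [List.map_ofFn]; congr 1; funext i; simp [hγ, w, Matrix.mulVec]
  let ε : Fin n → Module.Dual P (Fin n → P) := fun k => (LinearMap.proj k).comp T⁻¹.vecMulLinear
  have hε : ∀ k j, ε k (w j) = if k = j then 1 else 0 := fun k j => by
    have : ε k (w j) = (T * T⁻¹) j k := by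
      simp [ε, w, Matrix.mul_apply, Matrix.vecMul, dotProduct]
    rw [this, Matrix.mul_nonsing_inv T hT, Matrix.one_apply]
    simp [eq_comm]
  have hspan : Submodule.span P (Set.range v) = Submodule.span P (Set.range w) := by
    have h1 : Submodule.span P (Set.range v) = ⊤ := by
      refine eq_top_iff.mpr fun u _ => ?_
      rw [pi_eq_sum_univ u]
      refine sum_mem fun i _ => Submodule.smul_mem _ _ (Submodule.subset_span ⟨i, ?_⟩)
      funext j; simp [v, Pi.single_apply, eq_comm]
    rw [h1]
    refine (eq_top_iff.mpr fun u _ => ?_).symm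
    rw [show u = Matrix.vecMul (Matrix.vecMul u T⁻¹) T by
      rw [Matrix.vecMul_vecMul, Matrix.nonsing_inv_mul T hT, Matrix.vecMul_one],
      Matrix.vecMul_eq_sum]
    exact sum_mem fun i _ => Submodule.smul_mem _ _ (Submodule.subset_span ⟨i, rfl⟩)
  rw [isKoszulRegularSeq_iff] at hg ⊢
  intro j hj
  rw [← hv] at hg
  rw [← hw]
  exact exact_of_exact γ v w (fun k => LinearMap.proj k) ε (fun k i => by simp [v, Pi.single_apply])
    hε hspan (j - 1) j (j + 1) (by omega) rfl hj (hg j hj)

/-- Ring isomorphisms preserve Koszul regular sequences. -/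
theorem isKoszulRegularSeq_equiv {P Q : Type u} [CommRing P] [CommRing Q] (e : P ≃+* Q) (l : List P)
    (h : LCI.IsKoszulRegularSeq P l) : LCI.IsKoszulRegularSeq Q (l.map e) :=
  isKoszulRegularSeq_map (e : P →+* Q) (RingHom.Flat.of_bijective e.bijective) l h

/-- Multiplying by units. -/
theorem isKoszulRegularSeq_smul {P : Type u} [CommRing P] {n : ℕ} (c : Fin n → P)
    (hc : ∀ i, IsUnit (c i)) (g : Fin n → P) (hg : LCI.IsKoszulRegularSeq P (List.ofFn g)) :
    LCI.IsKoszulRegularSeq P (List.ofFn fun i => c i * g i) := by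
  have := isKoszulRegularSeq_mulVec (Matrix.diagonal c)
    (by rw [Matrix.det_diagonal]; exact IsUnit.prod_univ_iff.mpr hc) g hg
  simpa [funext fun i => Matrix.mulVec_diagonal c g i] using this

/-- Concatenation along a surjection, both directions. -/
theorem isKoszulRegularSeq_append_iff {A A' : Type u} [CommRing A] [CommRing A'] (φ : A →+* A')
    (hφ : Function.Surjective φ) (l m : List A) (hl : LCI.IsKoszulRegularSeq A l)
    (hker : RingHom.ker φ = Ideal.ofList l) :
    LCI.IsKoszulRegularSeq A (m ++ l) ↔ LCI.IsKoszulRegularSeq A' (m.map φ) := by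
  let e : A ⧸ Ideal.ofList l ≃+* A' :=
    (Ideal.quotEquivOfEq hker.symm).trans (RingHom.quotientKerEquivOfSurjective hφ)
  have hm : (m.map (Ideal.Quotient.mk (Ideal.ofList l))).map e = m.map φ := by
    rw [List.map_map]; rfl
  have hm' : (m.map φ).map e.symm = m.map (Ideal.Quotient.mk (Ideal.ofList l)) := by
    rw [← hm, List.map_map, List.map_map]; congr 1; ext x; simp
  constructor
  · intro h
    rw [← hm]
    refine isKoszulRegularSeq_equiv e _ fun i hi => ?_
    obtain ⟨q, hq⟩ := exists_quasiIso_append l hl m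
    have := h i hi
    rw [← HomologicalComplex.exactAt_iff_isZero_homology, exactAt_iff_of_quasiIsoAt q i] at this
    rw [← HomologicalComplex.exactAt_iff_isZero_homology]
    rw [HomologicalComplex.exactAt_iff' _ (i - 1) i (i + 1) (by simp) (by simp),
      ShortComplex.ShortExact.moduleCat_exact_iff_function_exact] at this ⊢
    exact this
  · intro h
    exact isKoszulRegularSeq_append l m hl (by rw [← hm']; exact isKoszulRegularSeq_equiv e.symm _ h)

end GrothLib.LCI6
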