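import Groth.Agent.Lib.LCI6.Descent
import Groth.Agent.Lib.RelReg.Fibre
import Groth.Agent.Lib.RelReg.Chart
import Groth.Agent.Lib.FibreFlat.Slice
import Groth.Agent.Lib.FibreFlat.StalkAlg
import Groth.Agent.Lib.SeqKinds.NoetherianLocal
import Groth.Agent.Lib.SeqKinds.BaseChange
import Mathlib.RingTheory.LocalRing.ResidueField.Fiber
import Mathlib.RingTheory.Ideal.Quotient.Operations

/-!
# The fibrewise criterion for Koszul regular ideals with flat quotient
-/

universe u

open IsLocalRing RingTheory.Sequence

namespace GrothLib.LCI6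

variable {R P : Type u} [CommRing R] [CommRing P] [Algebra R P]

/-- The closed fibre of the local ring at `p`, as an ideal. -/
noncomputable abbrev fibreMax (R : Type u) [CommRing R] {P : Type u} [CommRing P] [Algebra R P] (p : Ideal P)
    [p.IsPrime] : Ideal (Localization.AtPrime p) :=
  ((p.comap (algebraMap R P)).map (algebraMap R P)).map (algebraMap P (Localization.AtPrime p))

/-- The ideal is generated at `p` by a sequence which is regular on the fibre. -/
def FibRegAt (R : Type u) [CommRing R] {P : Type u} [CommRing P] [Algebra R P] (I p : Ideal P) [p.IsPrime] :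
    Prop :=
  ∃ (n : ℕ) (a : Fin n → Localization.AtPrime p),
    Ideal.span (Set.range a) = I.map (algebraMap P (Localization.AtPrime p)) ∧
      IsRegular (Localization.AtPrime p ⧸ fibreMax R p) ((List.ofFn a).map (Ideal.Quotient.mk (fibreMax R p)))

theorem isRegular_quot_congr {A : Type u} [CommRing A] {J₁ J₂ : Ideal A} (e : J₁ = J₂) (l : List A)
    (h : IsRegular (A ⧸ J₁) (l.map (Ideal.Quotient.mk J₁))) :
    IsRegular (A ⧸ J₂) (l.map (Ideal.Quotient.mk J₂)) := by
  subst e; exact h

theorem fibreMax_le (p : Ideal P) [p.IsPrime] : fibreMax R p ≤ maximalIdeal (Localization.AtPrime p) := by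
  rw [← Localization.AtPrime.map_eq_maximalIdeal]
  exact Ideal.map_mono Ideal.map_comap_le

/-- Quasi-regular generators with flat quotient are regular on the fibre. -/
theorem isRegular_of_quasiRegular [Algebra.FinitePresentation R P] {I : Ideal P} [Module.Flat R (P ⧸ I)]
    (p : Ideal P) [p.IsPrime] {n : ℕ} (a : Fin n → Localization.AtPrime p)
    (hm : ∀ i, a i ∈ maximalIdeal (Localization.AtPrime p))
    (ha : Ideal.span (Set.range a) = I.map (algebraMap P (Localization.AtPrime p)))
    (hq : CAlgX.IsQuasiRegular a) :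
    IsRegular (Localization.AtPrime p ⧸ fibreMax R p) ((List.ofFn a).map (Ideal.Quotient.mk (fibreMax R p))) := by
  let r := p.comap (algebraMap R P)
  let Rr := Localization.AtPrime r
  let L := Localization.AtPrime p
  letI := (Localization.localRingHom r p (algebraMap R P) rfl).toAlgebra
  haveI : IsLocalHom (algebraMap Rr L) := Localization.isLocalHom_localRingHom r p (algebraMap R P) rfl
  haveI : IsScalarTower R Rr L := IsScalarTower.of_algebraMap_eq fun x => by
    show _ = Localization.localRingHom r p (algebraMap R P) rfl (algebraMap R Rr x)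
    rw [Localization.localRingHom_to_map, ← IsScalarTower.algebraMap_apply]
  have hS : CAlgX.IsEssFinitePresentation Rr L :=
    GrothLib.FibreFlat.isEssFinitePresentation_localization r.primeCompl p.primeCompl
  let J := I.map (algebraMap P L)
  haveI : Module.Flat (P ⧸ I) (L ⧸ J) :=
    IsLocalization.flat (L ⧸ J) (Algebra.algebraMapSubmonoid (P ⧸ I) p.primeCompl)
  haveI : IsScalarTower R (P ⧸ I) (L ⧸ J) := IsScalarTower.to₁₃₄ R P (P ⧸ I) (L ⧸ J)
  haveI : Module.Flat R (L ⧸ J) := Module.Flat.trans R (P ⧸ I) (L ⧸ J)
  haveI : Module.Flat Rr (L ⧸ J) := (Module.flat_iff_of_isLocalization Rr r.primeCompl _).mpr inferInstance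
  haveI : Module.Flat Rr (L ⧸ Ideal.span (Set.range a)) := by rw [ha]; infer_instance
  have h := GrothLib.RelReg.isRegular_fibre hS a hm hq
  have e : (maximalIdeal Rr).map (algebraMap Rr L) = fibreMax R p := by
    rw [← Localization.AtPrime.map_eq_maximalIdeal (I := r), Ideal.map_map, ← IsScalarTower.algebraMap_eq,
      IsScalarTower.algebraMap_eq R P L, ← Ideal.map_map]
  exact isRegular_quot_congr e _ h

/-- Quasi-regular generators with flat quotient are regular on the fibre. -/
theorem fibRegAt_of_quasiRegular [Algebra.FinitePresentation R P] {I : Ideal P} [Module.Flat R (P ⧸ I)]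
    (p : Ideal P) [p.IsPrime] {n : ℕ} (a : Fin n → Localization.AtPrime p)
    (hm : ∀ i, a i ∈ maximalIdeal (Localization.AtPrime p))
    (ha : Ideal.span (Set.range a) = I.map (algebraMap P (Localization.AtPrime p)))
    (hq : CAlgX.IsQuasiRegular a) : FibRegAt R I p :=
  ⟨n, a, ha, isRegular_of_quasiRegular p a hm ha hq⟩

/-- Koszul regular with flat quotient implies regular on the fibre. -/
theorem fibRegAt_of_kRegAt [Algebra.FinitePresentation R P] {I : Ideal P} [Module.Flat R (P ⧸ I)]
    (p : Ideal P) [p.IsPrime] (hIp : I ≤ p) (h : KRegAt I p) : FibRegAt R I p := by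
  obtain ⟨g, hg, l, hl, hI⟩ := h
  obtain ⟨l', -, hl', hI'⟩ := exists_atPrime_list g l hl hI p hg
  refine fibRegAt_of_quasiRegular p l'.get (fun i => ?_) ?_
    (GrothLib.SeqKinds.isQuasiRegular_of_isH1Regular _ (GrothLib.SeqKinds.isH1Regular_of_isKoszulRegularSeq l' hl'))
  · rw [← Localization.AtPrime.map_eq_maximalIdeal]
    exact Ideal.map_mono hIp (hI' ▸ Ideal.subset_span (List.get_mem l' i))
  · rw [Set.range_list_get, hI']

/-- Regular on the fibre implies Koszul regular. -/
theorem kRegAt_of_fibRegAt [Algebra.FinitePresentation R P] [Module.Flat R P] {I : Ideal P} (hfg : I.FG)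
    (p : Ideal P) [p.IsPrime] (h : FibRegAt R I p) : KRegAt I p := by
  obtain ⟨n, a, ha, hreg⟩ := h
  let r := p.comap (algebraMap R P)
  let Rr := Localization.AtPrime r
  let L := Localization.AtPrime p
  letI := (Localization.localRingHom r p (algebraMap R P) rfl).toAlgebra
  haveI : IsLocalHom (algebraMap Rr L) := Localization.isLocalHom_localRingHom r p (algebraMap R P) rfl
  haveI : IsScalarTower R Rr L := IsScalarTower.of_algebraMap_eq fun x => by
    show _ = Localization.localRingHom r p (algebraMap R P) rfl (algebraMap R Rr x)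
    rw [Localization.localRingHom_to_map, ← IsScalarTower.algebraMap_apply]
  have hS : CAlgX.IsEssFinitePresentation Rr L :=
    GrothLib.FibreFlat.isEssFinitePresentation_localization r.primeCompl p.primeCompl
  haveI : Module.Flat P L := IsLocalization.flat L p.primeCompl
  haveI : Module.Flat R L := Module.Flat.trans R P L
  haveI : Module.Flat Rr L := (Module.flat_iff_of_isLocalization Rr r.primeCompl _).mpr inferInstance
  have e : (maximalIdeal Rr).map (algebraMap Rr L) = fibreMax R p := by
    rw [← Localization.AtPrime.map_eq_maximalIdeal (I := r), Ideal.map_map, ← IsScalarTower.algebraMap_eq,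
      IsScalarTower.algebraMap_eq R P L, ← Ideal.map_map]
  -- representatives
  have hclear : ∀ i, ∃ (x : P) (c : L), IsUnit c ∧ algebraMap P L x = c * a i := fun i => by
    obtain ⟨⟨x, s⟩, hs⟩ := IsLocalization.surj p.primeCompl (a i)
    exact ⟨x, algebraMap P L s, IsLocalization.map_units L s, by rw [← hs, mul_comm]⟩
  choose x c hc hxc using hclear
  let x' : Fin n → P := x ∘ Fin.rev
  have hflat0 : (MvPolynomial.aeval (R := Rr) a).toRingHom.Flat :=
    GrothLib.FibreFlat.flat_aeval_of_fibre_regular hS a (isRegular_quot_congr e.symm _ hreg)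
  have hflat1 : (MvPolynomial.aeval (R := Rr) fun i => algebraMap P L (x i)).toRingHom.Flat := by
    refine GrothLib.FibreFlat.flat_aeval_of_fibre_regular hS _ ?_
    refine isRegular_quot_congr e.symm _ ?_
    rw [List.map_ofFn]
    rw [List.map_ofFn] at hreg
    haveI : IsLocalHom (Ideal.Quotient.mk (fibreMax R p)) :=
      isLocalHom_of_le_jacobson_bot _ ((fibreMax_le p).trans (maximalIdeal_le_jacobson _))
    have hfun : (Ideal.Quotient.mk (fibreMax R p)) ∘ (fun i => algebraMap P L (x i)) =
        fun i => Ideal.Quotient.mk (fibreMax R p) (c i) * Ideal.Quotient.mk (fibreMax R p) (a i) :=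
      funext fun i => by rw [Function.comp_apply, hxc, map_mul]
    rw [hfun]
    refine ⟨GrothLib.RegSeqLoc.isWeaklyRegular_ofFn_mul _ (fun i => (hc i).map _) hreg.1, ?_⟩
    intro htop
    apply hreg.2
    refine htop.trans ?_
    refine congrArg (fun J : Ideal (Localization.AtPrime p ⧸ fibreMax R p) =>
      J • (⊤ : Submodule (Localization.AtPrime p ⧸ fibreMax R p) (Localization.AtPrime p ⧸ fibreMax R p))) ?_
    have := GrothLib.RegSeqLoc.ofList_take_ofFn_mul (fun i => Ideal.Quotient.mk (fibreMax R p) (c i))
      (fun i => (hc i).map _) (fun i => Ideal.Quotient.mk (fibreMax R p) (a i)) n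
    simpa [List.take_of_length_le, Function.comp_def] using this
  let Q := MvPolynomial (Fin n) R
  let α : Q →ₐ[R] P := MvPolynomial.aeval x'
  letI : Algebra Q P := α.toRingHom.toAlgebra
  haveI : IsScalarTower R Q P := IsScalarTower.of_algebraMap_eq fun t => (α.commutes t).symm
  haveI : Algebra.FinitePresentation Q P := Algebra.FinitePresentation.of_restrict_scalars_finitePresentation R Q P
  haveI : IsScalarTower Q P L := inferInstance
  haveI : Module.Flat Q L := by
    have hcomp : (algebraMap Q L) = ((MvPolynomial.aeval (R := Rr) fun i => algebraMap P L (x i)).toRingHom.comp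
        ((MvPolynomial.rename Fin.rev).toRingHom.comp (MvPolynomial.map (algebraMap R Rr)))) := by
      refine MvPolynomial.ringHom_ext (fun t => ?_) fun i => ?_
      · rw [IsScalarTower.algebraMap_apply Q P L]
        show algebraMap P L (α (MvPolynomial.C t)) = _
        rw [show α (MvPolynomial.C t) = algebraMap R P t from α.commutes t, ← IsScalarTower.algebraMap_apply]
        simp [← IsScalarTower.algebraMap_apply]
      · rw [IsScalarTower.algebraMap_apply Q P L]
        show algebraMap P L (α (MvPolynomial.X i)) = _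
        rw [show α (MvPolynomial.X i) = x' i from MvPolynomial.aeval_X _ _]
        simp [x']
    have hren : (MvPolynomial.rename (R := Rr) (Fin.rev : Fin n → Fin n)).toRingHom.Flat :=
      RingHom.Flat.of_bijective (MvPolynomial.renameEquiv Rr Fin.revPerm).bijective
    have hmap : (MvPolynomial.map (σ := Fin n) (algebraMap R Rr)).Flat := by
      letI := MvPolynomial.algebraMvPolynomial (σ := Fin n) (R := R) (S := Rr)
      haveI : Module.Flat R Rr := IsLocalization.flat Rr r.primeCompl
      exact Module.Flat.isBaseChange R (MvPolynomial (Fin n) R) Rr (MvPolynomial (Fin n) Rr)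
        (inferInstance : Algebra.IsPushout R (MvPolynomial (Fin n) R) Rr (MvPolynomial (Fin n) Rr)).out
    have := (hmap.comp hren).comp hflat1
    rw [← RingHom.flat_algebraMap_iff, hcomp]
    exact this
  have hLM : Module.Flat Q (LocalizedModule p.primeCompl P) :=
    Module.Flat.of_linearEquiv ((IsLocalizedModule.iso p.primeCompl (Algebra.linearMap P L)).restrictScalars Q)
  obtain ⟨g₁, hg₁, hflg⟩ := GrothLib.FibreFlat.exists_flat_away (P := Q) p hLM
  obtain ⟨g₂, hg₂, hg₂'⟩ := GrothLib.RelReg.exists_away_eq_of_fg p.primeCompl L I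
    (Ideal.span (Set.range x')) hfg ⟨(Set.finite_range x').toFinset, by simp⟩ (by
      rw [← ha, Ideal.map_span, ← Set.range_comp]
      refine le_antisymm (Ideal.span_le.mpr ?_) (Ideal.span_le.mpr ?_)
      · rintro _ ⟨i, rfl⟩
        rw [SetLike.mem_coe, show a i = ↑(hc i).unit⁻¹ * algebraMap P L (x' (Fin.rev i)) by
          simp [x', hxc, ← mul_assoc]]
        exact Ideal.mul_mem_left _ _ (Ideal.subset_span ⟨_, rfl⟩)
      · rintro _ ⟨i, rfl⟩
        show algebraMap P L (x (Fin.rev i)) ∈ _
        rw [hxc]
        exact Ideal.mul_mem_left _ _ (Ideal.subset_span ⟨_, rfl⟩))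
  let B := Localization.Away (g₁ * g₂)
  have hu₂ : IsUnit (algebraMap P B g₂) :=
    isUnit_of_dvd_unit (map_dvd _ (dvd_mul_left g₂ g₁)) (IsLocalization.Away.algebraMap_isUnit (g₁ * g₂))
  have hu₁ : IsUnit (algebraMap P B g₁) :=
    isUnit_of_dvd_unit (map_dvd _ (dvd_mul_right g₁ g₂)) (IsLocalization.Away.algebraMap_isUnit (g₁ * g₂))
  haveI : IsScalarTower R P (Localization.Away g₁) := inferInstance
  have hw : IsWeaklyRegular (Localization.Away g₁) (List.ofFn fun i => algebraMap P (Localization.Away g₁) (x' i)) := by
    refine GrothLib.FibreFlat.weaklyRegular_of_flat_aeval (R := R) ?_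
    have : (MvPolynomial.aeval (R := R) fun i => algebraMap P (Localization.Away g₁) (x' i)).toRingHom =
        algebraMap Q (Localization.Away g₁) := by
      refine MvPolynomial.ringHom_ext (fun t => ?_) fun i => ?_
      · rw [IsScalarTower.algebraMap_apply Q P]
        show _ = algebraMap P _ (α (MvPolynomial.C t))
        rw [show α (MvPolynomial.C t) = algebraMap R P t from α.commutes t, ← IsScalarTower.algebraMap_apply]
        simp
      · rw [IsScalarTower.algebraMap_apply Q P]
        show _ = algebraMap P _ (α (MvPolynomial.X i))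
        rw [show α (MvPolynomial.X i) = x' i from MvPolynomial.aeval_X _ _]
        simp
    rw [this]
    exact RingHom.flat_algebraMap_iff.mpr hflg
  let ψ : Localization.Away g₁ →+* B := IsLocalization.Away.lift g₁ hu₁
  have hψf : ψ.Flat := flat_awayMap (RingHom.id P) (RingHom.Flat.id P) g₁ _ B (g₁ * g₂) ψ
    (IsLocalization.Away.lift_comp g₁ hu₁)
  have hk : LCI.IsKoszulRegularSeq B (((List.ofFn fun i => algebraMap P (Localization.Away g₁) (x' i)).reverse).map ψ) :=
    GrothLib.KoszulColon.isKoszulRegularSeq_map ψ hψf _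
      (GrothLib.KoszulColon.isKoszulRegularSeq_of_isWeaklyRegular _ (by rwa [List.reverse_reverse]))
  refine ⟨g₁ * g₂, fun h => (Ideal.IsPrime.mem_or_mem inferInstance h).elim hg₁ hg₂, _, hk, ?_⟩
  rw [hg₂' B (algebraMap P B) hu₂, Ideal.map_span, ← Set.range_comp, List.map_reverse, List.map_ofFn]
  simp [Ideal.ofList, List.mem_ofFn, Function.comp_def, ψ, IsLocalization.Away.lift_eq, Set.range, eq_comm]
  try rfl

end GrothLib.LCI6
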