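import Groth.Agent.Lib.LCI6.Locus
import Mathlib.AlgebraicGeometry.Morphisms.RingHomProperties

/-!
# The local complete intersection locus of a morphism of schemes
-/

universe u

open AlgebraicGeometry CategoryTheory

namespace GrothLib.LCI6

/-- The point has affine neighbourhoods over which the map is a local complete intersection. -/
def InLocus {X Y : Scheme.{u}} (f : X ⟶ Y) (x : X) : Prop :=
  ∃ (U : X.Opens) (V : Y.Opens) (hU : IsAffineOpen U) (hV : IsAffineOpen V) (hUV : U ≤ f ⁻¹ᵁ V), x ∈ U ∧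
    letI := (f.appLE V U hUV).hom.toAlgebra
    LCI.IsLCI Γ(Y, V) Γ(X, U)

theorem isOpen_inLocus {X Y : Scheme.{u}} (f : X ⟶ Y) : IsOpen {x | InLocus f x} :=
  isOpen_iff_forall_mem_open.mpr fun _ ⟨U, V, hU, hV, hUV, hxU, hl⟩ =>
    ⟨U, fun _ hy => ⟨U, V, hU, hV, hUV, hy, hl⟩, U.2, hxU⟩

theorem mem_basicOpen_iff_notMem {X : Scheme.{u}} {U : X.Opens} (hU : IsAffineOpen U) {x : X} (hx : x ∈ U)
    (s : Γ(X, U)) : x ∈ X.basicOpen s ↔ s ∉ (hU.primeIdealOf ⟨x, hx⟩).asIdeal := by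
  have h : (hU.primeIdealOf ⟨x, hx⟩) ∈ hU.fromSpec ⁻¹ᵁ X.basicOpen s ↔
      hU.primeIdealOf ⟨x, hx⟩ ∈ PrimeSpectrum.basicOpen s := by
    rw [hU.fromSpec_preimage_basicOpen]
    exact Iff.rfl
  rw [PrimeSpectrum.mem_basicOpen] at h
  rw [← h]
  show x ∈ X.basicOpen s ↔ hU.fromSpec (hU.primeIdealOf ⟨x, hx⟩) ∈ X.basicOpen s
  rw [hU.fromSpec_primeIdealOf]

/-- The locus is computed by any presentation over any affine chart. -/
theorem inLocus_iff {X Y : Scheme.{u}} (f : X ⟶ Y) {U : X.Opens} {V : Y.Opens} (hU : IsAffineOpen U)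
    (hV : IsAffineOpen V) (hUV : U ≤ f ⁻¹ᵁ V) {x : X} (hx : x ∈ U) [Algebra Γ(Y, V) Γ(X, U)]
    (halg : algebraMap Γ(Y, V) Γ(X, U) = (f.appLE V U hUV).hom)
    {n : ℕ} (α : MvPolynomial (Fin n) Γ(Y, V) →ₐ[Γ(Y, V)] Γ(X, U)) (hα : Function.Surjective α) :
    InLocus f x ↔ KRegAt (RingHom.ker α.toRingHom) ((hU.primeIdealOf ⟨x, hx⟩).asIdeal.comap α.toRingHom) := by
  constructor
  · rintro ⟨U₀, V₀, hU₀, hV₀, hUV₀, hx₀, hl⟩
    obtain ⟨r, s, hxs, e, hP⟩ := exists_basicOpen_le_appLE_of_appLE_of_isAffine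
      lciHom_stableUnderCompositionWithLocalizationAwayTarget lciHom_localizationAwayPreserves x
      ⟨V, hV⟩ ⟨V₀, hV₀⟩ ⟨U, hU⟩ ⟨U₀, hU₀⟩ hx hx₀ hUV₀ hl (hUV hx)
    haveI := hU.isLocalization_basicOpen s
    haveI := hV.isLocalization_basicOpen r
    letI := (f.appLE (Y.basicOpen r) (X.basicOpen s) e).hom.toAlgebra
    letI : Algebra Γ(Y, V) Γ(X, X.basicOpen s) :=
      (f.appLE V (X.basicOpen s) ((X.basicOpen_le s).trans hUV)).hom.toAlgebra
    haveI : IsScalarTower Γ(Y, V) Γ(Y, Y.basicOpen r) Γ(X, X.basicOpen s) := IsScalarTower.of_algebraMap_eq' (by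
      show _ = (f.appLE (Y.basicOpen r) (X.basicOpen s) e).hom.comp
        (Y.presheaf.map (homOfLE (Y.basicOpen_le r)).op).hom
      rw [← CommRingCat.hom_comp, Scheme.Hom.map_appLE]
      rfl)
    haveI : IsScalarTower Γ(Y, V) Γ(X, U) Γ(X, X.basicOpen s) := IsScalarTower.of_algebraMap_eq' (by
      rw [halg]
      show _ = (X.presheaf.map (homOfLE (X.basicOpen_le s)).op).hom.comp (f.appLE V U hUV).hom
      rw [← CommRingCat.hom_comp, Scheme.Hom.appLE_map]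
      rfl)
    exact kRegAt_of_isLCI_away α hα s Γ(X, X.basicOpen s)
      (isLCI_comp (Cc := Γ(Y, Y.basicOpen r)) (isLCI_away r _) hP) _ ((mem_basicOpen_iff_notMem hU hx s).mp hxs)
  · intro hk
    obtain ⟨s, hs, hl⟩ := exists_isLCI_away_of_kRegAt α hα _ hk
    haveI := hU.isLocalization_basicOpen s
    refine ⟨X.basicOpen s, V, hU.basicOpen s, hV, (X.basicOpen_le s).trans hUV,
      (mem_basicOpen_iff_notMem hU hx s).mpr hs, ?_⟩
    letI : Algebra Γ(Y, V) Γ(X, X.basicOpen s) :=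
      (f.appLE V (X.basicOpen s) ((X.basicOpen_le s).trans hUV)).hom.toAlgebra
    haveI : IsScalarTower Γ(Y, V) Γ(X, U) Γ(X, X.basicOpen s) := IsScalarTower.of_algebraMap_eq' (by
      rw [halg]
      show _ = (X.presheaf.map (homOfLE (X.basicOpen_le s)).op).hom.comp (f.appLE V U hUV).hom
      rw [← CommRingCat.hom_comp, Scheme.Hom.appLE_map]
      rfl)
    exact isLCI_of_algEquiv ((IsLocalization.algEquiv (Submonoid.powers s) (Localization.Away s)
      Γ(X, X.basicOpen s)).restrictScalars Γ(Y, V)) hl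

end GrothLib.LCI6
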