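import Groth.Agent.Lib.LCI6.BaseChange
import Groth.Agent.Lib.LCI6.LocusScheme
import Mathlib.AlgebraicGeometry.Morphisms.Flat
import Mathlib.AlgebraicGeometry.Morphisms.FinitePresentation

/-!
# Base change of the local complete intersection locus
-/

universe u

open AlgebraicGeometry CategoryTheory Limits

namespace GrothLib.LCI6

/-- Ring level: with everything flat over the base, regularity of a presentation ideal commutes with
base change. -/
theorem kRegAt_presentation_baseChange {R A B R' A' B' : Type u} [CommRing R] [CommRing A] [CommRing B]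
    [CommRing R'] [CommRing A'] [CommRing B'] [Algebra R A] [Algebra R B] [Algebra A B] [IsScalarTower R A B]
    [Algebra R R'] [Algebra R A'] [Algebra R B'] [Algebra A A'] [Algebra R' A'] [Algebra A B'] [Algebra B B']
    [Algebra A' B'] [Algebra R' B'] [IsScalarTower R R' A'] [IsScalarTower R A A'] [IsScalarTower R R' B']
    [IsScalarTower R B B'] [IsScalarTower A B B'] [IsScalarTower A A' B'] [IsScalarTower R' A' B']
    [IsScalarTower R A B'] [IsScalarTower R A' B'] [Algebra.IsPushout R A R' A'] [Algebra.IsPushout R B R' B']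
    [Module.Flat R A] [Algebra.FinitePresentation R A] [Module.Flat R B] [Algebra.FinitePresentation R B]
    {n : ℕ} (α : MvPolynomial (Fin n) A →ₐ[A] B) (hα : Function.Surjective α)
    (q' : Ideal B') [q'.IsPrime] :
    ∃ β : MvPolynomial (Fin n) A' →ₐ[A'] B', Function.Surjective β ∧
      (KRegAt (RingHom.ker α.toRingHom) ((q'.comap (algebraMap B B')).comap α.toRingHom) ↔
        KRegAt (RingHom.ker β.toRingHom) (q'.comap β.toRingHom)) := by
  haveI : Algebra.IsPushout A B A' B' :=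
    (Algebra.IsPushout.comp_iff (R := R) (S := A) (R' := R') (S' := A') (T := B) (T' := B')).mp inferInstance
  obtain ⟨β, hβ, hker, hcomm⟩ := ker_aeval_baseChange (A' := A') (B' := B') α hα
  refine ⟨β, hβ, ?_⟩
  letI : Algebra (MvPolynomial (Fin n) A) (MvPolynomial (Fin n) A') := MvPolynomial.algebraMvPolynomial
  haveI : IsScalarTower R A (MvPolynomial (Fin n) A') := IsScalarTower.of_algebraMap_eq fun x => by
    simp [MvPolynomial.algebraMap_apply, ← IsScalarTower.algebraMap_apply]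
  haveI : IsScalarTower R (MvPolynomial (Fin n) A) (MvPolynomial (Fin n) A') :=
    IsScalarTower.of_algebraMap_eq fun x => by
      show MvPolynomial.C (algebraMap R A' x) =
        MvPolynomial.map (algebraMap A A') (MvPolynomial.C (algebraMap R A x))
      rw [MvPolynomial.map_C, ← IsScalarTower.algebraMap_apply]
  haveI : Algebra.IsPushout R (MvPolynomial (Fin n) A) R' (MvPolynomial (Fin n) A') :=
    (Algebra.IsPushout.comp_iff (R := R) (S := A) (R' := R') (S' := A')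
      (T := MvPolynomial (Fin n) A) (T' := MvPolynomial (Fin n) A')).mpr inferInstance
  haveI : Algebra.IsPushout R R' A A' := .symm inferInstance
  haveI : Algebra.IsPushout R R' B B' := .symm inferInstance
  haveI : Module.Flat R' A' := Module.Flat.isBaseChange R R' A A'
    (Algebra.IsPushout.out : IsBaseChange R' (IsScalarTower.toAlgHom R A A').toLinearMap)
  haveI : Module.Flat R' B' := Module.Flat.isBaseChange R R' B B'
    (Algebra.IsPushout.out : IsBaseChange R' (IsScalarTower.toAlgHom R B B').toLinearMap)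
  haveI : Algebra.FinitePresentation R' A' :=
    Algebra.FinitePresentation.equiv (Algebra.IsPushout.equiv R R' A A')
  haveI : Algebra.FinitePresentation R' (MvPolynomial (Fin n) A') := Algebra.FinitePresentation.trans R' A' _
  haveI : Algebra.FinitePresentation R (MvPolynomial (Fin n) A) := Algebra.FinitePresentation.trans R A _
  haveI : Module.Flat R (MvPolynomial (Fin n) A) := Module.Flat.trans R A _
  haveI : Module.Flat R' (MvPolynomial (Fin n) A') := Module.Flat.trans R' A' _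
  haveI : Algebra.FinitePresentation A B := Algebra.FinitePresentation.of_restrict_scalars_finitePresentation R A B
  have hfg : (RingHom.ker α.toRingHom).FG := Algebra.FinitePresentation.ker_fG_of_surjective α hα
  haveI : Module.Flat R (MvPolynomial (Fin n) A ⧸ RingHom.ker α.toRingHom) :=
    Module.Flat.of_linearEquiv
      ((Ideal.quotientKerAlgEquivOfSurjective hα).restrictScalars R).toLinearEquiv
  haveI : Module.Flat R' (MvPolynomial (Fin n) A' ⧸
      (RingHom.ker α.toRingHom).map (algebraMap (MvPolynomial (Fin n) A) (MvPolynomial (Fin n) A'))) := by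
    rw [show (RingHom.ker α.toRingHom).map (algebraMap (MvPolynomial (Fin n) A) (MvPolynomial (Fin n) A')) =
      RingHom.ker β.toRingHom from hker.symm]
    exact Module.Flat.of_linearEquiv
      ((Ideal.quotientKerAlgEquivOfSurjective hβ).restrictScalars R').toLinearEquiv
  have hcp : (q'.comap (algebraMap B B')).comap α.toRingHom =
      (q'.comap β.toRingHom).comap (algebraMap (MvPolynomial (Fin n) A) (MvPolynomial (Fin n) A')) := by
    rw [Ideal.comap_comap, Ideal.comap_comap]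
    congr 1
    exact RingHom.ext fun p => (hcomm p).symm
  have hle : RingHom.ker α.toRingHom ≤
      (q'.comap β.toRingHom).comap (algebraMap (MvPolynomial (Fin n) A) (MvPolynomial (Fin n) A')) :=
    hcp ▸ ker_le_comap _ _
  rw [hcp, hker]
  exact ⟨fun h => kRegAt_baseChange (R := R) (R' := R') hfg _ hle h,
    fun h => kRegAt_of_baseChange (R := R) (R' := R') hfg _ hle h⟩

/-- The locus commutes with base change. -/
theorem inLocus_baseChange {X Y S X' Y' S' : Scheme.{u}} (f : X ⟶ Y) (g : Y ⟶ S)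
    [Flat (f ≫ g)] [LocallyOfFinitePresentation (f ≫ g)] [Flat g] [LocallyOfFinitePresentation g]
    (h : S' ⟶ S) (gY : Y' ⟶ Y) (g' : Y' ⟶ S') (hY : IsPullback gY g' g h) (gX : X' ⟶ X) (f' : X' ⟶ Y')
    (hX : IsPullback gX (f' ≫ g') (f ≫ g) h) (w : gX ≫ f = f' ≫ gY) (x' : X') :
    InLocus f' x' ↔ InLocus f (gX x') := by
  have hnbhd : ∀ (Z : Scheme.{u}) (z : Z) (O : Z.Opens), z ∈ O → ∃ W : Z.Opens, IsAffineOpen W ∧ z ∈ W ∧ W ≤ O :=
    fun Z z O hz => TopologicalSpace.Opens.isBasis_iff_nbhd.mp Z.isBasis_affineOpens hz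
  obtain ⟨W, hW, hxW, -⟩ := hnbhd S ((f ≫ g) (gX x')) ⊤ trivial
  obtain ⟨V, hV, hxV, hVW⟩ := hnbhd Y (f (gX x')) (g ⁻¹ᵁ W) hxW
  obtain ⟨U, hU, hxU, hUV⟩ := hnbhd X (gX x') (f ⁻¹ᵁ V) hxV
  obtain ⟨W', hW', hxW', hW'W⟩ := hnbhd S' ((f' ≫ g') x') (h ⁻¹ᵁ W) (by
    show h ((f' ≫ g') x') ∈ W
    rwa [← Scheme.Hom.comp_apply, ← hX.w, Scheme.Hom.comp_apply])
  have hUW : U ≤ (f ≫ g) ⁻¹ᵁ W := hUV.trans fun _ hz => hVW hz
  let V' : Y'.Opens := gY ⁻¹ᵁ V ⊓ g' ⁻¹ᵁ W'
  let U' : X'.Opens := gX ⁻¹ᵁ U ⊓ (f' ≫ g') ⁻¹ᵁ W'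
  haveI : IsAffine (W : Scheme) := hW
  haveI : IsAffine (V : Scheme) := hV
  haveI : IsAffine (U : Scheme) := hU
  haveI : IsAffine (W' : Scheme) := hW'
  have hV' : IsAffineOpen V' := .of_isIso (Scheme.Hom.isPullback_resLE hY hW'W hVW rfl).isoPullback.hom
  have hU' : IsAffineOpen U' := .of_isIso (Scheme.Hom.isPullback_resLE hX hW'W hUW rfl).isoPullback.hom
  have hpY := (isIso_pushoutSection_iff hY hW'W hVW rfl).1
    (isIso_pushoutSection_of_isAffineOpen hY hW'W hVW rfl hW hW' hV)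
  have hpX := (isIso_pushoutSection_iff hX hW'W hUW rfl).1
    (isIso_pushoutSection_of_isAffineOpen hX hW'W hUW rfl hW hW' hU)
  have hU'V' : U' ≤ f' ⁻¹ᵁ V' := fun z hz => ⟨by
    show gY (f' z) ∈ V
    rw [← Scheme.Hom.comp_apply, ← w, Scheme.Hom.comp_apply]
    exact hUV hz.1, hz.2⟩
  have hx' : x' ∈ U' := ⟨hxU, hxW'⟩
  letI algRA : Algebra Γ(S, W) Γ(Y, V) := (g.appLE W V hVW).hom.toAlgebra
  letI algAB : Algebra Γ(Y, V) Γ(X, U) := (f.appLE V U hUV).hom.toAlgebra
  letI algRB : Algebra Γ(S, W) Γ(X, U) := ((f ≫ g).appLE W U hUW).hom.toAlgebra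
  letI algRR' : Algebra Γ(S, W) Γ(S', W') := (h.appLE W W' hW'W).hom.toAlgebra
  letI algR'A' : Algebra Γ(S', W') Γ(Y', V') := (g'.appLE W' V' inf_le_right).hom.toAlgebra
  letI algR'B' : Algebra Γ(S', W') Γ(X', U') := ((f' ≫ g').appLE W' U' inf_le_right).hom.toAlgebra
  letI algA'B' : Algebra Γ(Y', V') Γ(X', U') := (f'.appLE V' U' hU'V').hom.toAlgebra
  letI algAA' : Algebra Γ(Y, V) Γ(Y', V') := (gY.appLE V V' inf_le_left).hom.toAlgebra
  letI algBB' : Algebra Γ(X, U) Γ(X', U') := (gX.appLE U U' inf_le_left).hom.toAlgebra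
  letI algAB' : Algebra Γ(Y, V) Γ(X', U') := ((gX ≫ f).appLE V U' fun z hz => hUV hz.1).hom.toAlgebra
  letI algRA' : Algebra Γ(S, W) Γ(Y', V') := ((gY ≫ g).appLE W V' fun z hz => hVW hz.1).hom.toAlgebra
  letI algRB' : Algebra Γ(S, W) Γ(X', U') := ((gX ≫ f ≫ g).appLE W U' fun z hz => hUW hz.1).hom.toAlgebra
  have key : ∀ {P Q T : Scheme.{u}} (a : P ⟶ Q) (b : Q ⟶ T) (c : P ⟶ T) (_ : a ≫ b = c) (O₁ : T.Opens)
      (O₂ : Q.Opens) (O₃ : P.Opens) (e₁) (e₂) (e₃),
      (c.appLE O₁ O₃ e₃).hom = (a.appLE O₂ O₃ e₂).hom.comp (b.appLE O₁ O₂ e₁).hom := by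
    intro P Q T a b c hc O₁ O₂ O₃ e₁ e₂ e₃
    subst hc
    rw [← CommRingCat.hom_comp, Scheme.Hom.appLE_comp_appLE]
  haveI : IsScalarTower Γ(S, W) Γ(Y, V) Γ(X, U) := .of_algebraMap_eq' (key f g _ rfl _ _ _ _ _ _)
  haveI : IsScalarTower Γ(S, W) Γ(S', W') Γ(Y', V') := .of_algebraMap_eq' (key g' h _ hY.w.symm _ _ _ _ _ _)
  haveI : IsScalarTower Γ(S, W) Γ(Y, V) Γ(Y', V') := .of_algebraMap_eq' (key gY g _ rfl _ _ _ _ _ _)
  haveI : IsScalarTower Γ(S, W) Γ(S', W') Γ(X', U') := .of_algebraMap_eq' (key (f' ≫ g') h _ hX.w.symm _ _ _ _ _ _)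
  haveI : IsScalarTower Γ(S, W) Γ(X, U) Γ(X', U') := .of_algebraMap_eq' (key gX (f ≫ g) _ rfl _ _ _ _ _ _)
  haveI : IsScalarTower Γ(Y, V) Γ(X, U) Γ(X', U') := .of_algebraMap_eq' (key gX f _ rfl _ _ _ _ _ _)
  haveI : IsScalarTower Γ(Y, V) Γ(Y', V') Γ(X', U') := .of_algebraMap_eq' (key f' gY _ w.symm _ _ _ _ _ _)
  haveI : IsScalarTower Γ(S', W') Γ(Y', V') Γ(X', U') := .of_algebraMap_eq' (key f' g' _ rfl _ _ _ _ _ _)
  haveI : IsScalarTower Γ(S, W) Γ(Y, V) Γ(X', U') :=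
    .of_algebraMap_eq' (key (gX ≫ f) g _ (Category.assoc _ _ _) _ _ _ _ _ _)
  haveI : IsScalarTower Γ(S, W) Γ(Y', V') Γ(X', U') := .of_algebraMap_eq' (key f' (gY ≫ g) _
    (by rw [← Category.assoc, ← w, Category.assoc]) _ _ _ _ _ _)
  haveI : Algebra.IsPushout Γ(S, W) Γ(Y, V) Γ(S', W') Γ(Y', V') :=
    CommRingCat.isPushout_iff_isPushout.1 hpY
  haveI : Algebra.IsPushout Γ(S, W) Γ(X, U) Γ(S', W') Γ(X', U') :=
    CommRingCat.isPushout_iff_isPushout.1 hpX
  haveI : Module.Flat Γ(S, W) Γ(Y, V) := HasRingHomProperty.appLE @Flat g inferInstance ⟨W, hW⟩ ⟨V, hV⟩ hVW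
  haveI : Module.Flat Γ(S, W) Γ(X, U) :=
    HasRingHomProperty.appLE @Flat (f ≫ g) inferInstance ⟨W, hW⟩ ⟨U, hU⟩ hUW
  haveI : Algebra.FinitePresentation Γ(S, W) Γ(Y, V) :=
    HasRingHomProperty.appLE @LocallyOfFinitePresentation g inferInstance ⟨W, hW⟩ ⟨V, hV⟩ hVW
  haveI : Algebra.FinitePresentation Γ(S, W) Γ(X, U) :=
    HasRingHomProperty.appLE @LocallyOfFinitePresentation (f ≫ g) inferInstance ⟨W, hW⟩ ⟨U, hU⟩ hUW
  haveI : Algebra.FiniteType Γ(Y, V) Γ(X, U) :=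
    Algebra.FiniteType.of_restrictScalars_finiteType Γ(S, W) Γ(Y, V) Γ(X, U)
  obtain ⟨n, α, hα⟩ := Algebra.FiniteType.iff_quotient_mvPolynomial''.mp
    (inferInstance : Algebra.FiniteType Γ(Y, V) Γ(X, U))
  obtain ⟨β, hβ, hiff⟩ := kRegAt_presentation_baseChange (R := Γ(S, W)) (R' := Γ(S', W')) (A' := Γ(Y', V'))
    (B' := Γ(X', U')) α hα (hU'.primeIdealOf ⟨x', hx'⟩).asIdeal
  have hq : (hU'.primeIdealOf ⟨x', hx'⟩).asIdeal.comap (algebraMap Γ(X, U) Γ(X', U')) =
      (hU.primeIdealOf ⟨gX x', hxU⟩).asIdeal :=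
    congrArg PrimeSpectrum.asIdeal
      (IsAffineOpen.comap_primeIdealOf_appLE U hU U' hU' inf_le_left hx')
  rw [hq] at hiff
  rw [inLocus_iff f' hU' hV' hU'V' hx' rfl β hβ, inLocus_iff f hU hV hUV hxU rfl α hα]
  exact hiff.symm

end GrothLib.LCI6
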