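import Groth.Agent.Lib.DCxRing.Descent
import Groth.Agent.Lib.DCxRing.RestrictTor
import Groth.Agent.Lib.DCxRing.PerfectModule
import Groth.Agent.Lib.SeqKinds.Basic
import Groth.Agent.Lib.LCI6.LCI

/-!
# Quotients by Koszul regular ideals are perfect modules
-/

universe u

open CategoryTheory CategoryTheory.Limits GrothLib.KoszulColon

attribute [local instance] HasDerivedCategory.standard

namespace GrothLib.LCI6

variable {A : Type u} [CommRing A]

theorem finite_kc {M : Type u} [AddCommGroup M] [Module A M] (γ : Module.Dual A M) :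
    ∀ (vs : List M) (i : ℤ), Module.Finite A ((kc γ vs).X i)
  | [], i => by
      by_cases h : i = 0
      · subst h
        exact Module.Finite.equiv (unitIso γ).toLinearEquiv.symm
      · haveI := ModuleCat.subsingleton_of_isZero (isZero_nil γ h)
        infer_instance
  | v :: vs, i => by
      haveI := finite_kc γ vs i
      haveI := finite_kc γ vs (i + 1)
      let p : ((kc γ vs).X (i + 1) × (kc γ vs).X i) →ₗ[A] (kc γ (v :: vs)).X i :=
        (in₁ γ v vs i (i + 1) rfl).hom.coprod (in₂ γ v vs i).hom
      exact Module.Finite.of_surjective p fun x =>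
        ⟨(_, _), (pr_decomp γ v vs i (i + 1) rfl x).symm⟩

/-- The quotient by a Koszul regular sequence is perfect. -/
theorem isPerfectModule_quotient (l : List A) (hl : LCI.IsKoszulRegularSeq A l) :
    DRing.IsPerfectModule A (A ⧸ Ideal.ofList l) := by
  let γ : Module.Dual A A := LinearMap.id
  have hmap : l.map γ = l := by simp [γ]
  let E : DRing.Cx A := kc γ l
  have hreg : ∀ i : ℤ, i ≠ 0 → E.ExactAt i := fun i hi => by
    rw [HomologicalComplex.exactAt_iff_isZero_homology]
    show IsZero ((Koszul.koszul A (l.map γ)).homology i)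
    rw [hmap]
    exact hl i hi
  have hv : DRing.VanishesOutside E (-(l.length : ℤ)) 0 := fun i hi => isZero_out γ l i (by omega)
  have hE : DRing.TermwiseFiniteProjective E := fun i => by
    haveI := free_kc γ l i
    exact ⟨finite_kc γ l i, Module.Projective.of_free⟩
  haveI : (DRing.toD E).IsGE 0 := (DerivedCategory.isGE_iff _ 0).2 fun i hi =>
    ((HomologicalComplex.exactAt_iff_isZero_homology _ _).1 (hreg i (by omega))).of_iso (DR.homologyIso E i)
  haveI : (DRing.toD E).IsLE 0 := (DerivedCategory.isLE_iff _ 0).2 fun i hi =>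
    ((HomologicalComplex.exactAt_iff_isZero_homology _ _).1 (hreg i (by omega))).of_iso (DR.homologyIso E i)
  obtain ⟨Y, ⟨e⟩⟩ := DerivedCategory.exists_iso_singleFunctor_obj_of_isGE_of_isLE (DRing.toD E) 0
  have hd01 : E.d 0 1 = 0 := (hv 1 (Or.inr one_pos)).eq_of_tgt _ _
  haveI : IsIso (E.homologyι 0) := E.isIso_homologyι 0 1 (by simp) hd01
  let θ : Y ≅ E.opcycles 0 :=
    ((DerivedCategory.singleFunctorCompHomologyFunctorIso (ModuleCat.{u} A) 0).app Y).symm ≪≫
      ((DerivedCategory.homologyFunctor (ModuleCat.{u} A) 0).mapIso e).symm ≪≫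
        DR.homologyIso E 0 ≪≫ asIso (E.homologyι 0)
  -- degree zero
  let q : A →ₗ[A] E.X 0 := LinearMap.toSpanSingleton A _ (unit γ l)
  let g : A →ₗ[A] E.opcycles 0 := (E.pOpcycles 0).hom.comp q
  have hg : Function.Surjective g := fun y => by
    obtain ⟨x, rfl⟩ := (ModuleCat.epi_iff_surjective (E.pOpcycles 0)).1 inferInstance y
    obtain ⟨r, rfl⟩ := exists_smul_unit γ l x
    exact ⟨r, rfl⟩
  obtain ⟨κ, hd, -, hκ, -⟩ := GrothLib.SeqKinds.exists_degree_neg_one γ l
  have hker : LinearMap.ker g = Ideal.ofList l := by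
    have hex : (ShortComplex.mk (E.d (-1) 0) (E.pOpcycles 0) (E.d_pOpcycles (-1) 0)).Exact :=
      ShortComplex.exact_of_g_is_cokernel _ (E.opcyclesIsCokernel (-1) 0 (by simp))
    rw [ShortComplex.moduleCat_exact_iff] at hex
    refine le_antisymm (fun r hr => ?_) (Ideal.span_le.2 fun f hf => ?_)
    · obtain ⟨y, hy⟩ := hex (q r) hr
      obtain ⟨a, rfl⟩ := hκ y
      have h1 : r = ∑ i, a i * γ (l.get i) :=
        GrothLib.SeqKinds.smul_unit_injective γ l (hy.symm.trans (hd a))
      rw [h1]
      exact sum_mem fun i _ => Ideal.mul_mem_left _ _ (Ideal.subset_span (List.get_mem l i))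
    · obtain ⟨i, rfl⟩ := List.get_of_mem hf
      show (E.pOpcycles 0).hom (l.get i • unit γ l) = 0
      classical
      have h1 := hd (Pi.single i 1)
      rw [Finset.sum_eq_single i (fun j _ hj => by simp [Pi.single_eq_of_ne hj]) (by simp)] at h1
      simp only [Pi.single_eq_same, one_mul] at h1
      rw [show l.get i • unit γ l = γ (l.get i) • unit γ l from rfl, ← h1]
      exact congrArg (fun f => f.hom (κ (Pi.single i 1))) (E.d_pOpcycles (-1) 0)
  let eY : (A ⧸ Ideal.ofList l) ≃ₗ[A] Y := ((Submodule.quotEquivOfEq _ _ hker.symm).trans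
    (g.quotKerEquivOfSurjective hg)).trans θ.toLinearEquiv.symm
  exact ⟨E, _, _, hv, hE, ⟨e ≪≫ ((DerivedCategory.singleFunctor (ModuleCat.{u} A) 0).mapIso eY.toModuleIso).symm⟩⟩

open TensorProduct in
/-- A Koszul regular ideal has perfect quotient. -/
theorem isPerfectModule_of_isKoszulRegularIdeal {I : Ideal A} (hI : LCI.IsKoszulRegularIdeal I) :
    DRing.IsPerfectModule A (A ⧸ I) := by
  classical
  let s : Set A := {g | DRing.IsPerfectModule (Localization.Away g)
    (Localization.Away g ⊗[A] (A ⧸ I))}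
  have hs : Ideal.span s = ⊤ := by
    by_contra h
    obtain ⟨m, hm, hle⟩ := Ideal.exists_le_maximal _ h
    by_cases hIm : I ≤ m
    · obtain ⟨g, hg, l, hl, hIl⟩ := hI ⟨m, inferInstance⟩ hIm
      refine hg (hle (Ideal.subset_span ?_))
      have e : (Localization.Away g ⊗[A] (A ⧸ I)) ≃ₗ[Localization.Away g] Localization.Away g ⧸ Ideal.ofList l :=
        ((Algebra.TensorProduct.quotIdealMapEquivTensorQuot (Localization.Away g) I).toLinearEquiv.symm).trans
          (Ideal.quotientEquivAlgOfEq (Localization.Away g) hIl).toLinearEquiv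
      exact DR.isPerfect_of_iso ((DerivedCategory.singleFunctor (ModuleCat.{u} (Localization.Away g)) 0).mapIso
        e.toModuleIso).symm (isPerfectModule_quotient l hl)
    · obtain ⟨g, hgI, hgm⟩ := SetLike.not_le_iff_exists.1 hIm
      refine hgm (hle (Ideal.subset_span ?_))
      haveI : Subsingleton (Localization.Away g ⊗[A] (A ⧸ I)) := by
        have e := (Algebra.TensorProduct.quotIdealMapEquivTensorQuot (Localization.Away g) I).toLinearEquiv
        haveI : Subsingleton (Localization.Away g ⧸ I.map (algebraMap A (Localization.Away g))) :=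
          Ideal.Quotient.subsingleton_iff.2
            (Ideal.eq_top_of_isUnit_mem _ (Ideal.mem_map_of_mem _ hgI) (IsLocalization.Away.algebraMap_isUnit g))
        exact e.symm.toEquiv.subsingleton
      exact DR.isPerfect_of_isZero
        ((DerivedCategory.singleFunctor (ModuleCat.{u} (Localization.Away g)) 0).map_isZero
          (ModuleCat.isZero_of_subsingleton _))
  obtain ⟨t, hts, ht⟩ := (Ideal.span_eq_top_iff_finite s).1 hs
  let f : Fin t.card → A := fun i => (t.equivFin.symm i).1
  have hf : Ideal.span (Set.range f) = ⊤ := by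
    refine top_unique (ht.ge.trans (Ideal.span_mono fun x hx => ⟨t.equivFin ⟨x, hx⟩, by simp [f]⟩))
  let K : DRing.Cx A :=
    (HomologicalComplex.single (ModuleCat.{u} A) (ComplexShape.up ℤ) 0).obj (ModuleCat.of A (A ⧸ I))
  let eK : DRing.toD K ≅ Dual.inD A (A ⧸ I) := (((SingleFunctors.evaluation _ _ 0).mapIso
    (DerivedCategory.singleFunctorsPostcompQIso (ModuleCat.{u} A))).app _).symm
  refine DR.isPerfect_of_iso eK (DR.isPerfect_of_covers (DR.covers_away f hf) (fun i => DR.flat_away (f i)) K
    fun i => ?_)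
  let φ := algebraMap A (Localization.Away (f i))
  haveI := DR.preservesFiniteLimits_extendScalars φ (DR.flat_away (f i))
  obtain ⟨e1⟩ := DR.nonempty_map_inD (ModuleCat.extendScalars.{u, u, u} φ) (A ⧸ I)
  obtain ⟨e2⟩ := DR.nonempty_extendScalars_iso (A := A) (B := Localization.Away (f i)) (A ⧸ I)
  exact DR.isPerfect_of_iso (e1 ≪≫ (DerivedCategory.singleFunctor (ModuleCat.{u} _) 0).mapIso e2.symm).symm
    (hts (t.equivFin.symm i).2)

end GrothLib.LCI6
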