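import Groth.Agent.Lib.LCI6.KoszulPerfect
import Groth.Agent.Lib.DCxKFlat.Balance
import Groth.Prelude.Def_MoreMor

/-!
# LCI maps are perfect
-/

universe u

open CategoryTheory CategoryTheory.Limits

attribute [local instance] HasDerivedCategory.standard

namespace GrothLib.LCI6

/-- An LCI algebra is perfect. -/
theorem isPerfectHom_of_isLCI {A B : Type u} [CommRing A] [CommRing B] [Algebra A B] (h : LCI.IsLCI A B) :
    MoreMor.IsPerfectHom A B := by
  obtain ⟨-, n, α, hα, hI⟩ := h
  letI := α.toRingHom.toAlgebra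
  haveI : IsScalarTower A (MvPolynomial (Fin n) A) B := IsScalarTower.of_algebraMap_eq fun x => (α.commutes x).symm
  have eB : (MvPolynomial (Fin n) A ⧸ RingHom.ker α.toRingHom) ≃ₗ[MvPolynomial (Fin n) A] B :=
    (Ideal.quotientKerAlgEquivOfSurjective (f := Algebra.ofId (MvPolynomial (Fin n) A) B) hα).toLinearEquiv
  have hperf : DRing.IsPerfectModule (MvPolynomial (Fin n) A) B :=
    DR.isPerfect_of_iso ((DerivedCategory.singleFunctor (ModuleCat.{u} (MvPolynomial (Fin n) A)) 0).mapIso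
      eB.toModuleIso) (isPerfectModule_of_isKoszulRegularIdeal hI)
  obtain ⟨hpc, htor⟩ := DR.isPerfect_iff.1 hperf
  refine ⟨⟨n, α, hα, hpc⟩, ?_⟩
  obtain ⟨d, hd⟩ := DR.exists_torDim htor
  let φ := algebraMap A (MvPolynomial (Fin n) A)
  have hP : DRing.HasTorAmplitudeIn A (-((0 : ℕ) : ℤ)) 0
      (Dual.inD A ((ModuleCat.restrictScalars φ).obj (ModuleCat.of _ (MvPolynomial (Fin n) A)))) :=
    DR.hasTorAmplitudeIn_mono (by simp) le_rfl
      (DR.hasTorAmplitudeIn_of_equiv DR.restrictSelfEquiv (DR.hasTorAmplitudeIn_flat (MvPolynomial (Fin n) A)))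
  have hB := DR.hasTorAmplitudeIn_restrictD φ 0 hP hd
  let eR : B ≃ₗ[A] (ModuleCat.restrictScalars φ).obj (ModuleCat.of (MvPolynomial (Fin n) A) B) :=
    { toFun := fun x => x
      invFun := fun x => x
      map_add' := fun _ _ => rfl
      map_smul' := fun r (x : B) => (IsScalarTower.algebraMap_smul (MvPolynomial (Fin n) A) r x).symm
      left_inv := fun _ => rfl
      right_inv := fun _ => rfl }
  have hB' : DRing.HasTorAmplitudeIn A (-(d : ℤ) - ((0 : ℕ) : ℤ)) 0 (Dual.inD A B) :=
    DR.hasTorAmplitudeIn_of_equiv eR.symm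
      (DR.hasTorAmplitudeIn_of_iso
        (((ModuleCat.restrictScalars.{u} φ).mapDerivedCategorySingleFunctor 0).app
          (ModuleCat.of (MvPolynomial (Fin n) A) B)) hB)
  exact ⟨d, (KF.hasTorDimLE_iff B d).2 (by simpa using hB')⟩

end GrothLib.LCI6
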