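import Groth.Agent.Lib.LCI6.Invariance
import Mathlib.RingTheory.Localization.Away.Basic
import Mathlib.RingTheory.RingHom.Flat
import Mathlib.RingTheory.Localization.BaseChange

/-!
# Koszul regularity of an ideal at a prime
-/

universe u

namespace GrothLib.LCI6

variable {R : Type u} [CommRing R]

/-- Near `p` the ideal `I` is generated by a Koszul regular sequence. -/
def KRegAt (I p : Ideal R) : Prop :=
  ∃ g, g ∉ p ∧ ∃ l : List (Localization.Away g), LCI.IsKoszulRegularSeq (Localization.Away g) l ∧
    I.map (algebraMap R (Localization.Away g)) = Ideal.ofList l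

theorem isKoszulRegularIdeal_iff (I : Ideal R) :
    LCI.IsKoszulRegularIdeal I ↔ ∀ p : Ideal R, ∀ _ : p.IsPrime, I ≤ p → KRegAt I p :=
  ⟨fun h p hp hI => h ⟨p, hp⟩ hI, fun h p hI => h p.asIdeal p.isPrime hI⟩

/-- The data in any model of the localisation. -/
theorem KRegAt.of_model {I p : Ideal R} (g : R) (hg : g ∉ p) (B : Type u) [CommRing B] [Algebra R B]
    [IsLocalization.Away g B] (l : List B) (hl : LCI.IsKoszulRegularSeq B l)
    (hI : I.map (algebraMap R B) = Ideal.ofList l) : KRegAt I p := by
  let e : B ≃ₐ[R] Localization.Away g :=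
    IsLocalization.algEquiv (Submonoid.powers g) B (Localization.Away g)
  refine ⟨g, hg, l.map e, isKoszulRegularSeq_equiv e.toRingEquiv l hl, ?_⟩
  rw [← e.toAlgHom.comp_algebraMap, ← Ideal.map_map, hI, Ideal.map_ofList]
  rfl

/-- Localisation maps are flat. -/
theorem flat_awayMap {A : Type u} [CommRing A] (φ : R →+* A) (hφ : φ.Flat) (g : R) (B C : Type u)
    [CommRing B] [Algebra R B] [IsLocalization.Away g B] [CommRing C] [Algebra A C] (a : A)
    [IsLocalization.Away a C] (ψ : B →+* C)
    (hψ : ψ.comp (algebraMap R B) = (algebraMap A C).comp φ) : ψ.Flat := by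
  letI := ψ.toAlgebra
  letI : Algebra R C := ((algebraMap A C).comp φ).toAlgebra
  haveI : IsScalarTower R B C := IsScalarTower.of_algebraMap_eq' hψ.symm
  haveI : Module.Flat R C := hφ.comp (RingHom.flat_algebraMap_iff.mpr (IsLocalization.flat C (Submonoid.powers a)))
  exact (Module.flat_iff_of_isLocalization B (Submonoid.powers g) C).mpr inferInstance

/-- A flat map carries the data along, in any models. -/
theorem exists_map_list {A : Type u} [CommRing A] (φ : R →+* A) (hφ : φ.Flat) {I : Ideal R} (g : R)
    (B : Type u) [CommRing B] [Algebra R B] [IsLocalization.Away g B] (l : List B)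
    (hl : LCI.IsKoszulRegularSeq B l) (hI : I.map (algebraMap R B) = Ideal.ofList l)
    (a : A) (C : Type u) [CommRing C] [Algebra A C] [IsLocalization.Away a C]
    (hu : IsUnit (algebraMap A C (φ g))) :
    ∃ l' : List C, LCI.IsKoszulRegularSeq C l' ∧
      (I.map φ).map (algebraMap A C) = Ideal.ofList l' := by
  let ψ : B →+* C := IsLocalization.Away.lift g (g := (algebraMap A C).comp φ) hu
  have hψ : ψ.comp (algebraMap R B) = (algebraMap A C).comp φ := IsLocalization.Away.lift_comp g hu
  refine ⟨l.map ψ, GrothLib.KoszulColon.isKoszulRegularSeq_map ψ (flat_awayMap φ hφ g B C a ψ hψ) l hl, ?_⟩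
  rw [Ideal.map_map, ← hψ, ← Ideal.map_map, hI, Ideal.map_ofList]

/-- Shrinking the neighbourhood. -/
theorem exists_list_of_dvd {I : Ideal R} (g g' : R) (hd : g ∣ g') (B : Type u) [CommRing B] [Algebra R B]
    [IsLocalization.Away g B] (l : List B) (hl : LCI.IsKoszulRegularSeq B l)
    (hI : I.map (algebraMap R B) = Ideal.ofList l) (C : Type u) [CommRing C] [Algebra R C]
    [IsLocalization.Away g' C] :
    ∃ l' : List C, LCI.IsKoszulRegularSeq C l' ∧ I.map (algebraMap R C) = Ideal.ofList l' := by
  have hu : IsUnit (algebraMap R C (RingHom.id R g)) :=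
    isUnit_of_dvd_unit (map_dvd (algebraMap R C) hd) (IsLocalization.Away.algebraMap_isUnit g')
  obtain ⟨l', h1, h2⟩ := exists_map_list (RingHom.id R) (RingHom.Flat.id R) g B l hl hI g' C hu
  exact ⟨l', h1, by rw [← h2, Ideal.map_id]⟩

/-- Stability under flat maps. -/
theorem KRegAt.map {A : Type u} [CommRing A] (φ : R →+* A) (hφ : φ.Flat) {I : Ideal R} (q : Ideal A)
    (h : KRegAt I (q.comap φ)) : KRegAt (I.map φ) q := by
  obtain ⟨g, hg, l, hl, hI⟩ := h
  obtain ⟨l', h1, h2⟩ := exists_map_list φ hφ g (Localization.Away g) l hl hI (φ g)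
    (Localization.Away (φ g)) (IsLocalization.Away.algebraMap_isUnit (φ g))
  exact ⟨φ g, fun hq => hg hq, l', h1, h2⟩

theorem KRegAt.map_equiv {A : Type u} [CommRing A] (e : R ≃+* A) {I : Ideal R} (q : Ideal A)
    (h : KRegAt I (q.comap (e : R →+* A))) : KRegAt (I.map (e : R →+* A)) q :=
  KRegAt.map (e : R →+* A) (RingHom.Flat.of_bijective e.bijective) q h

/-- Regularity in a principal localisation gives regularity. -/
theorem KRegAt.of_away {I p : Ideal R} (h : R) (B : Type u) [CommRing B] [Algebra R B]
    [IsLocalization.Away h B] (q : Ideal B) [q.IsPrime] (hq : q.comap (algebraMap R B) = p)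
    (hI : KRegAt (I.map (algebraMap R B)) q) : KRegAt I p := by
  obtain ⟨g, hg, l, hl, hIl⟩ := hI
  obtain ⟨⟨a, s⟩, hgs⟩ := IsLocalization.surj (Submonoid.powers h) g
  have hs : IsUnit (algebraMap R B s) := IsLocalization.map_units B s
  have hh : h ∉ p := fun hh => by
    rw [← hq] at hh
    exact Ideal.IsPrime.ne_top inferInstance
      (Ideal.eq_top_of_isUnit_mem q hh (IsLocalization.Away.algebraMap_isUnit h))
  have ha : a ∉ p := fun ha => by
    rw [← hq, Ideal.mem_comap, ← hgs] at ha
    exact ((Ideal.IsPrime.mem_or_mem inferInstance ha).resolve_left hg |> fun h' =>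
      Ideal.IsPrime.ne_top inferInstance (Ideal.eq_top_of_isUnit_mem q h' hs))
  let C := Localization.Away (algebraMap R B a)
  haveI : IsLocalization.Away (a * h) C := IsLocalization.Away.mul B C h a
  have hu : IsUnit (algebraMap B C g) := by
    have h0 : IsUnit (algebraMap B C (g * algebraMap R B s)) := by
      rw [hgs]; exact IsLocalization.Away.algebraMap_isUnit (algebraMap R B a)
    rw [map_mul] at h0
    exact isUnit_of_mul_isUnit_left h0
  obtain ⟨l', h1, h2⟩ := exists_map_list (RingHom.id B) (RingHom.Flat.id B) g (Localization.Away g)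
    l hl hIl (algebraMap R B a) C hu
  refine KRegAt.of_model (a * h) ?_ C l' h1 ?_
  · intro hm
    haveI : p.IsPrime := hq ▸ Ideal.IsPrime.comap _
    exact (Ideal.IsPrime.mem_or_mem inferInstance hm).elim ha hh
  · rw [← h2, Ideal.map_id, Ideal.map_map, ← IsScalarTower.algebraMap_eq]

end GrothLib.LCI6
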