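import Groth.Agent.Lib.LCI6.PerfectSplit
import Groth.Agent.Lib.PerfHom.Scheme
import Groth.Agent.Lib.LCI6.Koszul

/-!
# Cancelling from a complete intersection with a perfect map
-/

universe u

open AlgebraicGeometry CategoryTheory MvPolynomial

attribute [local instance] HasDerivedCategory.standard

namespace GrothLib.LCI6

/-- The split, along surjections. -/
theorem kRegAt_split_of_surjective {E P' C : Type u} [CommRing E] [IsNoetherianRing E] [CommRing P'] [CommRing C]
    (φ : E →+* P') (hφ : Function.Surjective φ) (β : P' →+* C) (hβ : Function.Surjective β)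
    (htor : letI := β.toAlgebra; DRing.HasFiniteTorDim P' C) (𝔔 : Ideal C) [𝔔.IsPrime]
    (hK : KRegAt (RingHom.ker (β.comp φ)) (𝔔.comap (β.comp φ))) :
    KRegAt (RingHom.ker φ) (𝔔.comap (β.comp φ)) ∧ KRegAt (RingHom.ker β) (𝔔.comap β) := by
  let γ := β.comp φ
  have hγ : Function.Surjective γ := hβ.comp hφ
  have hIK : RingHom.ker φ ≤ RingHom.ker γ := fun z hz => by
    show β (φ z) = 0
    rw [RingHom.mem_ker.mp hz, map_zero]
  let e1 : E ⧸ RingHom.ker φ ≃+* P' := RingHom.quotientKerEquivOfSurjective hφ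
  let e2 : E ⧸ RingHom.ker γ ≃+* C := RingHom.quotientKerEquivOfSurjective hγ
  have htor' : letI := (Ideal.Quotient.factor hIK).toAlgebra
      DRing.HasFiniteTorDim (E ⧸ RingHom.ker φ) (E ⧸ RingHom.ker γ) := by
    letI := β.toAlgebra
    letI := (Ideal.Quotient.factor hIK).toAlgebra
    letI : Algebra (E ⧸ RingHom.ker φ) P' := e1.toRingHom.toAlgebra
    letI : Algebra C (E ⧸ RingHom.ker γ) := e2.symm.toRingHom.toAlgebra
    letI : Algebra (E ⧸ RingHom.ker φ) C := ((algebraMap P' C).comp e1.toRingHom).toAlgebra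
    haveI : IsScalarTower (E ⧸ RingHom.ker φ) P' C := IsScalarTower.of_algebraMap_eq' rfl
    haveI : IsScalarTower (E ⧸ RingHom.ker φ) C (E ⧸ RingHom.ker γ) := IsScalarTower.of_algebraMap_eq fun z => by
      obtain ⟨y, rfl⟩ := Ideal.Quotient.mk_surjective z
      exact (e2.symm_apply_apply _).symm
    haveI : Module.Flat (E ⧸ RingHom.ker φ) P' := RingHom.flat_algebraMap_iff.mp
      (RingHom.Flat.of_bijective (f := e1.toRingHom) e1.bijective)
    haveI : Module.Flat C (E ⧸ RingHom.ker γ) := RingHom.flat_algebraMap_iff.mp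
      (RingHom.Flat.of_bijective (f := e2.symm.toRingHom) e2.symm.bijective)
    exact PHom.finiteTorDim_trans (A := E ⧸ RingHom.ker φ) (B := C)
      (PHom.finiteTorDim_trans (A := E ⧸ RingHom.ker φ) (B := P') (PHom.finiteTorDim_of_flat P') htor)
      (PHom.finiteTorDim_of_flat (E ⧸ RingHom.ker γ))
  obtain ⟨h1, h2⟩ := kRegAt_split_perfect hIK htor' (𝔔.comap γ) (ker_le_comap γ 𝔔) hK
  refine ⟨h1, ?_⟩
  have he : e1.toRingHom.comp (Ideal.Quotient.mk _) = φ := RingHom.ext fun _ => rfl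
  have hp : (𝔔.comap β).comap e1.toRingHom = (𝔔.comap γ).map (Ideal.Quotient.mk (RingHom.ker φ)) := by
    rw [← Ideal.map_comap_of_surjective _ Ideal.Quotient.mk_surjective
      ((𝔔.comap β).comap e1.toRingHom), Ideal.comap_comap, he, Ideal.comap_comap]
  rw [← hp] at h2
  have h3 : KRegAt (((RingHom.ker γ).map (Ideal.Quotient.mk (RingHom.ker φ))).map e1.toRingHom) (𝔔.comap β) :=
    KRegAt.map_equiv e1 _ h2
  rwa [Ideal.map_map, he, show (RingHom.ker γ).map φ = RingHom.ker β by
    rw [← RingHom.comap_ker, Ideal.map_comap_of_surjective φ hφ]] at h3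

/-- The ring form, for presentations. -/
theorem kRegAt_of_perfect {A B C : Type u} [CommRing A] [IsNoetherianRing A] [CommRing B] [CommRing C]
    [Algebra A B] [Algebra B C] [Algebra A C] [IsScalarTower A B C] (hperf : MoreMor.IsPerfectHom B C)
    {n : ℕ} (α : MvPolynomial (Fin n) A →ₐ[A] B) (hα : Function.Surjective α)
    {m : ℕ} (β : MvPolynomial (Fin m) B →ₐ[B] C) (hβ : Function.Surjective β) (𝔔 : Ideal C) [𝔔.IsPrime]
    (hAC : ∀ (k : ℕ) (γ : MvPolynomial (Fin k) A →ₐ[A] C), Function.Surjective γ →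
      KRegAt (RingHom.ker γ.toRingHom) (𝔔.comap γ.toRingHom)) :
    KRegAt (RingHom.ker α.toRingHom) ((𝔔.comap (algebraMap B C)).comap α.toRingHom) ∧
      KRegAt (RingHom.ker β.toRingHom) (𝔔.comap β.toRingHom) := by
  let P := MvPolynomial (Fin n) A
  let E := MvPolynomial (Fin m) P
  let P' := MvPolynomial (Fin m) B
  let φA : E →ₐ[A] P' := MvPolynomial.mapAlgHom α
  let φ : E →+* P' := MvPolynomial.map α.toRingHom
  have hφs : Function.Surjective φ := MvPolynomial.map_surjective α.toRingHom hα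
  let γ : E →+* C := β.toRingHom.comp φ
  let e : MvPolynomial (Fin (m + n)) A ≃ₐ[A] E :=
    (MvPolynomial.renameEquiv A finSumFinEquiv.symm).trans (MvPolynomial.sumAlgEquiv A (Fin m) (Fin n))
  let γA : E →ₐ[A] C := (β.restrictScalars A).comp φA
  have hγA : Function.Surjective γA := hβ.comp (MvPolynomial.map_surjective α.toRingHom hα)
  have hγ : Function.Surjective γ := hβ.comp hφs
  have hK : KRegAt (RingHom.ker γ) (𝔔.comap γ) := (kRegAt_equiv_iff e.toRingEquiv γ 𝔔).mp
    (hAC (m + n) (γA.comp e.toAlgHom) (hγA.comp e.surjective))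
  have hIK : RingHom.ker φ ≤ RingHom.ker γ := fun z hz => by
    show β (φ z) = 0
    rw [RingHom.mem_ker.mp hz, map_zero]
  -- finite tor dimension
  letI : Algebra P' C := β.toRingHom.toAlgebra
  obtain ⟨d, hd⟩ := GrothLib.DR.exists_torDim (GrothLib.DR.isPerfect_iff.1 (PHom.isPerfectModule_pres hperf β hβ)).2
  have htor : DRing.HasFiniteTorDim P' C := ⟨d, (KF.hasTorDimLE_iff C d).2 hd⟩
  haveI : IsNoetherianRing E := inferInstance
  obtain ⟨h1, h2⟩ := kRegAt_split_of_surjective φ hφs β.toRingHom hβ htor 𝔔 hK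
  refine ⟨?_, ?_⟩
  · have hker : RingHom.ker φ = (RingHom.ker α.toRingHom).map (algebraMap P E) := MvPolynomial.ker_map _
    haveI : IsNoetherianRing P := inferInstance
    have hcomap : (𝔔.comap γ).comap (algebraMap P E) = (𝔔.comap (algebraMap B C)).comap α.toRingHom := by
      rw [Ideal.comap_comap, Ideal.comap_comap]
      congr 1
      refine RingHom.ext fun z => ?_
      show β (MvPolynomial.map α.toRingHom (MvPolynomial.C z)) = algebraMap B C (α z)
      rw [MvPolynomial.map_C]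
      exact β.commutes _
    rw [hker] at h1
    have := kRegAt_descent_open (P := P) (D := E) (IsNoetherian.noetherian _) (𝔔.comap γ)
      (hcomap.symm ▸ fun z hz => by
        show algebraMap B C (α z) ∈ 𝔔
        rw [show α z = 0 from hz, map_zero]
        exact zero_mem _) h1
    rwa [hcomap] at this
  · exact h2

/-- If a perfect map composed with a locally finite type map over a locally Noetherian base is a complete
intersection, both factors are. -/
theorem inLocus_of_perfect_comp {X Y S : Scheme.{u}} [IsLocallyNoetherian S] (f : X ⟶ Y) (g : Y ⟶ S)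
    [LocallyOfFiniteType g] (hf : MoreMor.IsPerfectMor f) {x : X} (h : InLocus (f ≫ g) x) :
    InLocus f x ∧ InLocus g (f x) := by
  obtain ⟨W, hW, hs, -⟩ := exists_affine_le (x := g (f x)) (O := (⊤ : S.Opens)) trivial
  obtain ⟨V, hV, hy, hVW⟩ := exists_affine_le (x := f x) (O := g ⁻¹ᵁ W) hs
  obtain ⟨U, hU, hx, hUV⟩ := exists_affine_le (x := x) (O := f ⁻¹ᵁ V) hy
  have hUW : U ≤ (f ≫ g) ⁻¹ᵁ W := fun z hz => hVW (hUV hz)
  haveI : IsNoetherianRing Γ(S, W) := IsLocallyNoetherian.component_noetherian ⟨W, hW⟩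
  letI := (g.appLE W V hVW).hom.toAlgebra
  letI := (f.appLE V U hUV).hom.toAlgebra
  letI : Algebra Γ(S, W) Γ(X, U) := ((f ≫ g).appLE W U hUW).hom.toAlgebra
  haveI : IsScalarTower Γ(S, W) Γ(Y, V) Γ(X, U) := IsScalarTower.of_algebraMap_eq' (by
    show _ = (f.appLE V U hUV).hom.comp (g.appLE W V hVW).hom
    rw [← CommRingCat.hom_comp, Scheme.Hom.appLE_comp_appLE]
    rfl)
  have hgft : Algebra.FiniteType Γ(S, W) Γ(Y, V) :=
    HasRingHomProperty.appLE @LocallyOfFiniteType g inferInstance ⟨W, hW⟩ ⟨V, hV⟩ hVW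
  obtain ⟨n, α, hα⟩ := Algebra.FiniteType.iff_quotient_mvPolynomial''.mp hgft
  have hperf := hf U V hU hV hUV
  obtain ⟨m, β, hβ⟩ := Algebra.FiniteType.iff_quotient_mvPolynomial''.mp (PHom.finiteType hperf.1)
  obtain ⟨h1, h2⟩ := kRegAt_of_perfect hperf α hα β hβ (hU.primeIdealOf ⟨x, hx⟩).asIdeal fun k γ hγ =>
    (inLocus_iff (f ≫ g) hU hW hUW hx rfl γ hγ).mp h
  refine ⟨(inLocus_iff f hU hV hUV hx rfl β hβ).mpr h2, (inLocus_iff g hV hW hVW hy rfl α hα).mpr ?_⟩
  have hc : (hU.primeIdealOf ⟨x, hx⟩).asIdeal.comap (f.appLE V U hUV).hom =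
      (hV.primeIdealOf ⟨f x, hy⟩).asIdeal :=
    congrArg PrimeSpectrum.asIdeal (IsAffineOpen.comap_primeIdealOf_appLE V hV U hU hUV hx)
  rw [← hc]
  exact h1

end GrothLib.LCI6
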