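import Groth.Agent.Lib.LCI6.BaseChange
import Groth.Agent.Lib.LCI6.Smooth
import Groth.Agent.Lib.LCI6.Descent
import Groth.Agent.Lib.FppfSource.Ring
import Mathlib.RingTheory.Spectrum.Prime.Chevalley

/-!
# Cancellation of faithfully flat LCI maps on the left
-/

universe u

open IsLocalRing RingTheory.Sequence

namespace GrothLib.LCI6

/-- A sequence regular on the fibre at a prime gives a flat slice near it. -/
theorem exists_away_flat_slice {R P : Type u} [CommRing R] [CommRing P] [Algebra R P]
    [Algebra.FinitePresentation R P] [Module.Flat R P] (p : Ideal P) [p.IsPrime] {n : ℕ} (x : Fin n → P)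
    (hreg : IsRegular (Localization.AtPrime p ⧸ fibreMax R p) ((List.ofFn fun i =>
      algebraMap P (Localization.AtPrime p) (x i)).map (Ideal.Quotient.mk (fibreMax R p)))) :
    ∃ g ∉ p, (MvPolynomial.aeval (R := R) fun i => algebraMap P (Localization.Away g) (x i)).toRingHom.Flat := by
  let r := p.comap (algebraMap R P)
  let Rr := Localization.AtPrime r
  let L := Localization.AtPrime p
  letI := (Localization.localRingHom r p (algebraMap R P) rfl).toAlgebra
  haveI : IsLocalHom (algebraMap Rr L) := Localization.isLocalHom_localRingHom r p (algebraMap R P) rfl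
  haveI : IsScalarTower R Rr L := IsScalarTower.of_algebraMap_eq fun x => by
    show _ = Localization.localRingHom r p (algebraMap R P) rfl (algebraMap R Rr x)
    rw [Localization.localRingHom_to_map, ← IsScalarTower.algebraMap_apply]
  have hS : CAlgX.IsEssFinitePresentation Rr L :=
    GrothLib.FibreFlat.isEssFinitePresentation_localization r.primeCompl p.primeCompl
  haveI : Module.Flat P L := IsLocalization.flat L p.primeCompl
  haveI : Module.Flat R L := Module.Flat.trans R P L
  haveI : Module.Flat Rr L := (Module.flat_iff_of_isLocalization Rr r.primeCompl _).mpr inferInstance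
  have e : (maximalIdeal Rr).map (algebraMap Rr L) = fibreMax R p := by
    rw [← Localization.AtPrime.map_eq_maximalIdeal (I := r), Ideal.map_map, ← IsScalarTower.algebraMap_eq,
      IsScalarTower.algebraMap_eq R P L, ← Ideal.map_map]
  have hflat1 : (MvPolynomial.aeval (R := Rr) fun i => algebraMap P L (x i)).toRingHom.Flat :=
    GrothLib.FibreFlat.flat_aeval_of_fibre_regular hS _ (isRegular_quot_congr e.symm _ hreg)
  let Q := MvPolynomial (Fin n) R
  let α : Q →ₐ[R] P := MvPolynomial.aeval x
  letI : Algebra Q P := α.toRingHom.toAlgebra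
  haveI : IsScalarTower R Q P := IsScalarTower.of_algebraMap_eq fun t => (α.commutes t).symm
  haveI : Algebra.FinitePresentation Q P := Algebra.FinitePresentation.of_restrict_scalars_finitePresentation R Q P
  haveI : IsScalarTower Q P L := inferInstance
  haveI : Module.Flat Q L := by
    have hcomp : (algebraMap Q L) = ((MvPolynomial.aeval (R := Rr) fun i => algebraMap P L (x i)).toRingHom.comp
        (MvPolynomial.map (algebraMap R Rr))) := by
      refine MvPolynomial.ringHom_ext (fun t => ?_) fun i => ?_
      · rw [IsScalarTower.algebraMap_apply Q P L]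
        show algebraMap P L (α (MvPolynomial.C t)) = _
        rw [show α (MvPolynomial.C t) = algebraMap R P t from α.commutes t, ← IsScalarTower.algebraMap_apply]
        simp [← IsScalarTower.algebraMap_apply]
      · rw [IsScalarTower.algebraMap_apply Q P L]
        show algebraMap P L (α (MvPolynomial.X i)) = _
        rw [show α (MvPolynomial.X i) = x i from MvPolynomial.aeval_X _ _]
        simp
    have hmap : (MvPolynomial.map (σ := Fin n) (algebraMap R Rr)).Flat := by
      letI := MvPolynomial.algebraMvPolynomial (σ := Fin n) (R := R) (S := Rr)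
      haveI : Module.Flat R Rr := IsLocalization.flat Rr r.primeCompl
      exact Module.Flat.isBaseChange R (MvPolynomial (Fin n) R) Rr (MvPolynomial (Fin n) Rr)
        (inferInstance : Algebra.IsPushout R (MvPolynomial (Fin n) R) Rr (MvPolynomial (Fin n) Rr)).out
    have := hmap.comp hflat1
    rw [← RingHom.flat_algebraMap_iff, hcomp]
    exact this
  have hLM : Module.Flat Q (LocalizedModule p.primeCompl P) :=
    Module.Flat.of_linearEquiv ((IsLocalizedModule.iso p.primeCompl (Algebra.linearMap P L)).restrictScalars Q)
  obtain ⟨g₁, hg₁, hflg⟩ := GrothLib.FibreFlat.exists_flat_away (P := Q) p hLM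
  refine ⟨g₁, hg₁, ?_⟩
  have : (MvPolynomial.aeval (R := R) fun i => algebraMap P (Localization.Away g₁) (x i)).toRingHom =
      algebraMap Q (Localization.Away g₁) := by
    refine MvPolynomial.ringHom_ext (fun t => ?_) fun i => ?_
    · rw [IsScalarTower.algebraMap_apply Q P]
      show _ = algebraMap P _ (α (MvPolynomial.C t))
      rw [show α (MvPolynomial.C t) = algebraMap R P t from α.commutes t, ← IsScalarTower.algebraMap_apply]
      simp
    · rw [IsScalarTower.algebraMap_apply Q P]
      show _ = algebraMap P _ (α (MvPolynomial.X i))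
      rw [show α (MvPolynomial.X i) = x i from MvPolynomial.aeval_X _ _]
      simp
  rw [this]
  exact RingHom.flat_algebraMap_iff.mpr hflg

/-- Regularity on a fibre does not see a quotient of the base. -/
theorem isRegular_fibre_of_surjective {R P R' P' : Type u} [CommRing R] [CommRing P] [CommRing R'] [CommRing P']
    [Algebra R P] [Algebra R R'] [Algebra R' P'] [Algebra R P'] [Algebra P P'] [IsScalarTower R R' P']
    [IsScalarTower R P P'] (hR : Function.Surjective (algebraMap R R'))
    (hP : Function.Surjective (algebraMap P P'))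
    (hker : RingHom.ker (algebraMap P P') ≤ (RingHom.ker (algebraMap R R')).map (algebraMap R P))
    (p' : Ideal P') [p'.IsPrime] {n : ℕ} (x : Fin n → P)
    (h : IsRegular (Localization.AtPrime p' ⧸ fibreMax R' p') ((List.ofFn fun i =>
      algebraMap P' (Localization.AtPrime p') (algebraMap P P' (x i))).map (Ideal.Quotient.mk (fibreMax R' p')))) :
    IsRegular (Localization.AtPrime (p'.comap (algebraMap P P')) ⧸ fibreMax R (p'.comap (algebraMap P P')))
      ((List.ofFn fun i => algebraMap P (Localization.AtPrime (p'.comap (algebraMap P P'))) (x i)).map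
        (Ideal.Quotient.mk (fibreMax R (p'.comap (algebraMap P P'))))) := by
  set p := p'.comap (algebraMap P P') with hp
  let L := Localization.AtPrime p
  let L' := Localization.AtPrime p'
  let ψ : L →+* L' := Localization.localRingHom p p' (algebraMap P P') hp
  have hψ : ∀ a, ψ (algebraMap P L a) = algebraMap P' L' (algebraMap P P' a) := fun a =>
    Localization.localRingHom_to_map _ _ _ _ a
  have hT : p.primeCompl.map (algebraMap P P') = p'.primeCompl := by
    ext z
    obtain ⟨y, rfl⟩ := hP z
    constructor
    · rintro ⟨w, hw, hwy⟩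
      rw [← hwy]
      exact fun hh => hw (hp.ge hh)
    · exact fun hy => ⟨y, fun hyp => hy (hp.le hyp), rfl⟩
  have hψs : Function.Surjective ψ := by
    haveI : IsLocalization (p.primeCompl.map (algebraMap P P')) L' := by rw [hT]; infer_instance
    exact IsLocalization.map_surjective_of_surjective (M := p.primeCompl) _ _ hP
  have hψk : RingHom.ker ψ = (RingHom.ker (algebraMap P P')).map (algebraMap P L) :=
    IsLocalization.ker_map L' (algebraMap P P') hT
  let r := p.comap (algebraMap R P)
  have hrk : RingHom.ker (algebraMap R R') ≤ r := fun a ha => by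
    show algebraMap P P' (algebraMap R P a) ∈ p'
    rw [← IsScalarTower.algebraMap_apply, IsScalarTower.algebraMap_apply R R' P', RingHom.mem_ker.mp ha, map_zero]
    exact zero_mem _
  have hkm : RingHom.ker ψ ≤ fibreMax R p := hψk.trans_le (Ideal.map_mono (hker.trans (Ideal.map_mono hrk)))
  have hr : p'.comap (algebraMap R' P') = r.map (algebraMap R R') := by
    rw [← Ideal.map_comap_of_surjective _ hR (p'.comap (algebraMap R' P'))]
    congr 1
    rw [Ideal.comap_comap, ← IsScalarTower.algebraMap_eq, IsScalarTower.algebraMap_eq R P P', ← Ideal.comap_comap]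
  have hmm : (fibreMax R p).map ψ = fibreMax R' p' := by
    show ((r.map (algebraMap R P)).map (algebraMap P L)).map ψ = _
    rw [Ideal.map_map, Ideal.map_map, fibreMax, hr, Ideal.map_map, Ideal.map_map]
    congr 1
    refine RingHom.ext fun a => ?_
    simp only [RingHom.comp_apply]
    rw [hψ, ← IsScalarTower.algebraMap_apply R P P', IsScalarTower.algebraMap_apply R R' P']
  let θ : L ⧸ fibreMax R p →+* L' ⧸ fibreMax R' p' :=
    Ideal.quotientMap _ ψ (Ideal.map_le_iff_le_comap.mp hmm.le)
  have hθ : Function.Bijective θ := by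
    refine ⟨(injective_iff_map_eq_zero _).mpr fun z hz => ?_, Ideal.quotientMap_surjective hψs⟩
    obtain ⟨z, rfl⟩ := Ideal.Quotient.mk_surjective z
    rw [Ideal.quotientMap_mk, Ideal.Quotient.eq_zero_iff_mem, ← hmm, ← Ideal.mem_comap,
      Ideal.comap_map_of_surjective' _ hψs, sup_eq_left.mpr hkm] at hz
    exact Ideal.Quotient.eq_zero_iff_mem.mpr hz
  let e := RingEquiv.ofBijective θ hθ
  refine (e.toAddEquiv.isRegular_congr ?_).mpr h
  rw [List.map_ofFn, List.map_ofFn]
  refine List.forall₂_iff_get.mpr ⟨by simp, fun i h1 h2 z => ?_⟩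
  simp only [List.get_eq_getElem, List.getElem_ofFn, Function.comp_apply, smul_eq_mul]
  show θ (_ * z) = _
  rw [map_mul, Ideal.quotientMap_mk, hψ]
  rfl

/-- Koszul regularity near a prime descends along a flat finitely presented map. -/
theorem kRegAt_descent_open {P D : Type u} [CommRing P] [CommRing D] [Algebra P D] [Module.Flat P D]
    [Algebra.FinitePresentation P D] {I : Ideal P} (hI : I.FG) (Q : Ideal D) [Q.IsPrime]
    (hIp : I ≤ Q.comap (algebraMap P D))
    (h : KRegAt (I.map (algebraMap P D)) Q) : KRegAt I (Q.comap (algebraMap P D)) := by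
  obtain ⟨h₀, hh₀, l, hl, hIl⟩ := h
  let D1 := Localization.Away h₀
  haveI : Module.Flat D D1 := IsLocalization.flat D1 (Submonoid.powers h₀)
  haveI : Module.Flat P D1 := Module.Flat.trans P D D1
  haveI : Algebra.FinitePresentation D D1 := IsLocalization.Away.finitePresentation h₀
  haveI : Algebra.FinitePresentation P D1 := Algebra.FinitePresentation.trans P D D1
  let Q1 : Ideal D1 := Q.map (algebraMap D D1)
  have hd : Disjoint (Submonoid.powers h₀ : Set D) (Q : Set D) := by
    rw [Set.disjoint_left]
    rintro _ ⟨k, rfl⟩ hk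
    exact hh₀ (Ideal.IsPrime.mem_of_pow_mem inferInstance k hk)
  haveI : Q1.IsPrime := IsLocalization.isPrime_of_isPrime_disjoint (Submonoid.powers h₀) D1 Q inferInstance hd
  have hQ1 : Q1.comap (algebraMap D D1) = Q :=
    IsLocalization.comap_map_of_isPrime_disjoint (Submonoid.powers h₀) D1 inferInstance hd
  set p := Q.comap (algebraMap P D) with hp
  have hQ1p : Q1.comap (algebraMap P D1) = p := by
    rw [IsScalarTower.algebraMap_eq P D D1, ← Ideal.comap_comap, hQ1]
  have hop : IsOpenMap (PrimeSpectrum.comap (algebraMap P D1)) :=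
    PrimeSpectrum.isOpenMap_comap_of_hasGoingDown_of_finitePresentation
  obtain ⟨_, ⟨g, rfl⟩, hgp, hsub⟩ := PrimeSpectrum.isTopologicalBasis_basic_opens.exists_subset_of_mem_open
    (show (⟨p, inferInstance⟩ : PrimeSpectrum P) ∈ Set.range (PrimeSpectrum.comap (algebraMap P D1)) from
      ⟨⟨Q1, inferInstance⟩, PrimeSpectrum.ext hQ1p⟩) hop.isOpen_range
  let P0 := Localization.Away g
  let a : D1 := algebraMap P D1 g
  let D2 := Localization.Away a
  letI : Algebra P0 D2 := (Localization.awayMap (algebraMap P D1) g).toAlgebra
  haveI : IsScalarTower P P0 D2 := IsScalarTower.of_algebraMap_eq fun z => by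
    show _ = Localization.awayMap (algebraMap P D1) g (algebraMap P P0 z)
    rw [IsScalarTower.algebraMap_apply P D1 D2]
    exact (IsLocalization.map_eq _ z).symm
  haveI : Module.Flat P0 D2 := flat_awayMap (algebraMap P D1) (RingHom.flat_algebraMap_iff.mpr inferInstance) g
    P0 D2 a _ (IsLocalization.map_comp _)
  have hdg : Disjoint (Submonoid.powers g : Set P) (p : Set P) := by
    rw [Set.disjoint_left]
    rintro _ ⟨k, rfl⟩ hk
    exact hgp (Ideal.IsPrime.mem_of_pow_mem inferInstance k hk)
  haveI : (p.map (algebraMap P P0)).IsPrime :=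
    IsLocalization.isPrime_of_isPrime_disjoint (Submonoid.powers g) P0 p inferInstance hdg
  refine KRegAt.of_away g P0 (p.map (algebraMap P P0))
    (IsLocalization.comap_map_of_isPrime_disjoint (Submonoid.powers g) P0 inferInstance hdg) ?_
  refine kRegAt_descent (Q := D2) (fun q hq => ?_) (hI.map _) (fun q hq _ => ?_) _ ?_
  · have hgq : g ∉ q.comap (algebraMap P P0) := fun hh =>
      hq.ne_top (q.eq_top_of_isUnit_mem hh (IsLocalization.Away.algebraMap_isUnit g))
    obtain ⟨⟨T, hT⟩, hTq⟩ := hsub (show (⟨q.comap (algebraMap P P0), inferInstance⟩ : PrimeSpectrum P) ∈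
      (PrimeSpectrum.basicOpen g : Set (PrimeSpectrum P)) from hgq)
    have hTq' : T.comap (algebraMap P D1) = q.comap (algebraMap P P0) := congrArg PrimeSpectrum.asIdeal hTq
    have haT : a ∉ T := fun hh => hgq (hTq' ▸ hh : _)
    have hdT : Disjoint (Submonoid.powers a : Set D1) (T : Set D1) := by
      rw [Set.disjoint_left]
      rintro _ ⟨k, rfl⟩ hk
      exact haT (hT.mem_of_pow_mem k hk)
    refine ⟨T.map (algebraMap D1 D2),
      IsLocalization.isPrime_of_isPrime_disjoint (Submonoid.powers a) D2 T hT hdT, ?_⟩
    have h1 : (T.map (algebraMap D1 D2)).comap (algebraMap P D2) = q.comap (algebraMap P P0) := by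
      have h2 : (T.map (algebraMap D1 D2)).comap (algebraMap D1 D2) = T :=
        IsLocalization.comap_map_of_isPrime_disjoint (Submonoid.powers a) D2 hT hdT
      rw [IsScalarTower.algebraMap_eq P D1 D2, ← Ideal.comap_comap, h2, hTq']
    rw [IsScalarTower.algebraMap_eq P P0 D2, ← Ideal.comap_comap] at h1
    calc _ = (((T.map (algebraMap D1 D2)).comap (algebraMap P0 D2)).comap (algebraMap P P0)).map (algebraMap P P0) :=
          (IsLocalization.map_comap (Submonoid.powers g) P0 _).symm
      _ = (q.comap (algebraMap P P0)).map (algebraMap P P0) := congrArg _ h1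
      _ = q := IsLocalization.map_comap (Submonoid.powers g) P0 q
  · have hk : KRegAt ((I.map (algebraMap P D)).map (algebraMap D D1)) (q.comap (algebraMap D1 D2)) :=
      kRegAt_of_seq l hl hIl
    have := KRegAt.map (algebraMap D1 D2)
      (RingHom.flat_algebraMap_iff.mpr (IsLocalization.flat D2 (Submonoid.powers a))) q hk
    convert this using 1
    rw [Ideal.map_map, Ideal.map_map, Ideal.map_map, RingHom.comp_assoc, ← IsScalarTower.algebraMap_eq,
      ← IsScalarTower.algebraMap_eq, ← IsScalarTower.algebraMap_eq]
  · exact Ideal.map_mono hIp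

end GrothLib.LCI6
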