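import Groth.Agent.Lib.LCI6.Regular
import Groth.Agent.Lib.LCI6.SliceDescent
import Groth.Agent.Lib.LCI6.UpDown
import Groth.Agent.Lib.LCI6.Cancel
import Groth.Agent.Lib.LCI6.Kinds
import Groth.Agent.Lib.PerfHom.Perfect
import Groth.Agent.S2200

/-!
# A complete intersection through a perfect quotient splits
-/

universe u

open IsLocalRing RingTheory.Sequence

attribute [local instance] HasDerivedCategory.standard

namespace GrothLib.LCI6

/-- A regular sequence in the local ring gives Koszul regularity nearby. -/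
theorem kRegAt_of_isWeaklyRegular {P : Type u} [CommRing P] [IsNoetherianRing P] (I p : Ideal P) [p.IsPrime]
    (L : Type u) [CommRing L] [Algebra P L] [IsLocalization.AtPrime L p] (rs : List L)
    (hrs : IsWeaklyRegular L rs) (hI : I.map (algebraMap P L) = Ideal.ofList rs) : KRegAt I p := by
  classical
  have hclear : ∀ i : Fin rs.length, ∃ (a : P) (u : L), IsUnit u ∧ algebraMap P L a = u * rs.get i := fun i => by
    obtain ⟨⟨a, s⟩, hs⟩ := IsLocalization.surj p.primeCompl (rs.get i)
    exact ⟨a, algebraMap P L s, IsLocalization.map_units L s, by rw [← hs, mul_comm]⟩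
  choose a u hu hau using hclear
  have hwa : IsWeaklyRegular L ((List.ofFn a).map (algebraMap P L)) := by
    rw [List.map_ofFn, show algebraMap P L ∘ a = fun i => u i * rs.get i from funext hau]
    exact GrothLib.RegSeqLoc.isWeaklyRegular_ofFn_mul u hu (by rwa [List.ofFn_get])
  obtain ⟨g₁, hg₁, hreg⟩ := GrothLib.RegSeqLoc.exists_away_isWeaklyRegular p.primeCompl L _ hwa
  obtain ⟨g₂, hg₂, heq⟩ := GrothLib.RelReg.exists_away_eq_of_fg p.primeCompl L I (Ideal.ofList (List.ofFn a))
    (IsNoetherian.noetherian _) (IsNoetherian.noetherian _) (by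
      rw [hI, Ideal.map_ofList, List.map_ofFn, show algebraMap P L ∘ a = fun i => u i * rs.get i from funext hau]
      have := GrothLib.RegSeqLoc.ofList_take_ofFn_mul u hu rs.get rs.length
      rw [List.take_of_length_le (by simp), List.take_of_length_le (by simp), List.ofFn_get] at this
      exact this.symm)
  let B := Localization.Away (g₁ * g₂)
  have hu₁ : IsUnit (algebraMap P B g₁) :=
    isUnit_of_dvd_unit (map_dvd _ (dvd_mul_right g₁ g₂)) (IsLocalization.Away.algebraMap_isUnit (g₁ * g₂))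
  have hu₂ : IsUnit (algebraMap P B g₂) :=
    isUnit_of_dvd_unit (map_dvd _ (dvd_mul_left g₂ g₁)) (IsLocalization.Away.algebraMap_isUnit (g₁ * g₂))
  refine ⟨g₁ * g₂, fun h => (Ideal.IsPrime.mem_or_mem inferInstance h).elim hg₁ hg₂,
    ((List.ofFn a).map (algebraMap P B)).reverse,
    GrothLib.KoszulColon.isKoszulRegularSeq_of_isWeaklyRegular _
      (by rw [List.reverse_reverse]; exact hreg (Submonoid.powers (g₁ * g₂)) B hu₁), ?_⟩
  rw [heq B (algebraMap P B) hu₂, Ideal.map_ofList]
  simp [Ideal.ofList, B]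

/-- Koszul regularity at a prime of a Noetherian ring gives a regular sequence in the local ring. -/
theorem exists_isRegular_of_kRegAt {P : Type u} [CommRing P] [IsNoetherianRing P] {K p : Ideal P} [p.IsPrime]
    (hKp : K ≤ p) (h : KRegAt K p) : ∃ rs : List (Localization.AtPrime p),
      Ideal.ofList rs = K.map (algebraMap P (Localization.AtPrime p)) ∧ IsRegular (Localization.AtPrime p) rs := by
  obtain ⟨g, r, x, hg, hxK, hx, hK⟩ := h.exists_fin
  let L := Localization.AtPrime p
  have hu : IsUnit (algebraMap P L g) := IsLocalization.map_units L (⟨g, hg⟩ : p.primeCompl)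
  let ψ : Localization.Away g →+* L := IsLocalization.Away.lift g hu
  have hψ : ψ.Flat := by
    letI := ψ.toAlgebra
    haveI : IsScalarTower P (Localization.Away g) L :=
      IsScalarTower.of_algebraMap_eq fun z => (IsLocalization.Away.lift_eq g hu z).symm
    exact (Module.flat_iff_of_isLocalization _ (Submonoid.powers g) _).mpr (IsLocalization.flat L p.primeCompl)
  let xL : Fin r → L := fun i => algebraMap P L (x i)
  have hxL : LCI.IsKoszulRegularSeq L (List.ofFn xL) := by
    have := GrothLib.KoszulColon.isKoszulRegularSeq_map ψ hψ _ hx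
    rw [List.map_ofFn] at this
    convert this using 2
    funext i
    exact (IsLocalization.Away.lift_eq g hu _).symm
  refine ⟨List.ofFn xL, ?_, GrothLib.SeqKinds.isRegular_of_isQuasiRegular xL (fun i => ?_)
    (GrothLib.SeqKinds.isQuasiRegular_of_isH1Regular _ (isH1Regular_ofFn xL hxL))⟩
  · have := congrArg (Ideal.map ψ) hK
    rw [Ideal.map_map, IsLocalization.Away.lift_comp, Ideal.map_span, ← Set.range_comp] at this
    rw [this, ofList_ofFn]
    congr 2
    funext i
    exact (IsLocalization.Away.lift_eq g hu _).symm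
  · rw [← Localization.AtPrime.map_eq_maximalIdeal]
    exact Ideal.mem_map_of_mem _ (hKp (hxK i))

/-- Inside a complete intersection, an ideal whose quotient sees the complete intersection with finite tor
dimension is a complete intersection, and so is the complete intersection inside it. -/
theorem kRegAt_split_perfect {E : Type u} [CommRing E] [IsNoetherianRing E] {I K : Ideal E} (hIK : I ≤ K)
    (htor : letI := (Ideal.Quotient.factor hIK).toAlgebra; DRing.HasFiniteTorDim (E ⧸ I) (E ⧸ K))
    (p : Ideal E) [p.IsPrime] (hKp : K ≤ p) (h : KRegAt K p) :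
    KRegAt I p ∧ KRegAt (K.map (Ideal.Quotient.mk I)) (p.map (Ideal.Quotient.mk I)) := by
  let L := Localization.AtPrime p
  let IL := I.map (algebraMap E L)
  let KL := K.map (algebraMap E L)
  have hle : IL ≤ KL := Ideal.map_mono hIK
  have hKtop : KL ≠ ⊤ := fun e => (maximalIdeal.isMaximal L).ne_top (top_le_iff.mp (e.ge.trans (by
    rw [← Localization.AtPrime.map_eq_maximalIdeal]; exact Ideal.map_mono hKp)))
  letI : Algebra (E ⧸ I) (E ⧸ K) := (Ideal.Quotient.factor hIK).toAlgebra
  letI : Algebra (L ⧸ IL) (L ⧸ KL) := (Ideal.Quotient.factor hle).toAlgebra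
  haveI : IsScalarTower L (L ⧸ IL) (L ⧸ KL) := ⟨fun x a b => by
    obtain ⟨a, rfl⟩ := Ideal.Quotient.mk_surjective a
    obtain ⟨b, rfl⟩ := Ideal.Quotient.mk_surjective b
    show Ideal.Quotient.mk KL ((x * a) * b) = Ideal.Quotient.mk KL (x * (a * b))
    rw [mul_assoc]⟩
  letI : Algebra (E ⧸ I) (L ⧸ KL) := ((algebraMap (L ⧸ IL) (L ⧸ KL)).comp (algebraMap (E ⧸ I) (L ⧸ IL))).toAlgebra
  haveI : IsScalarTower (E ⧸ I) (L ⧸ IL) (L ⧸ KL) := IsScalarTower.of_algebraMap_eq' rfl
  haveI : IsScalarTower (E ⧸ I) (E ⧸ K) (L ⧸ KL) := IsScalarTower.of_algebraMap_eq fun z => by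
    obtain ⟨y, rfl⟩ := Ideal.Quotient.mk_surjective z
    rfl
  haveI : IsLocalization (Algebra.algebraMapSubmonoid (E ⧸ K)
      (Algebra.algebraMapSubmonoid (E ⧸ I) p.primeCompl)) (L ⧸ KL) := by
    have e : Algebra.algebraMapSubmonoid (E ⧸ K) (Algebra.algebraMapSubmonoid (E ⧸ I) p.primeCompl) =
        Algebra.algebraMapSubmonoid (E ⧸ K) p.primeCompl := by
      ext z
      constructor
      · rintro ⟨w, ⟨v, hv, rfl⟩, rfl⟩
        exact ⟨v, hv, rfl⟩
      · rintro ⟨v, hv, rfl⟩
        exact ⟨Ideal.Quotient.mk I v, ⟨v, hv, rfl⟩, rfl⟩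
    rw [e]
    infer_instance
  haveI : Algebra.IsPushout (E ⧸ I) (E ⧸ K) (L ⧸ IL) (L ⧸ KL) :=
    Algebra.isPushout_of_isLocalization (Algebra.algebraMapSubmonoid (E ⧸ I) p.primeCompl) _ _ _
  haveI : Algebra.IsPushout (E ⧸ I) (L ⧸ IL) (E ⧸ K) (L ⧸ KL) := Algebra.IsPushout.symm inferInstance
  haveI : Module.Flat (E ⧸ I) (L ⧸ IL) :=
    IsLocalization.flat _ (Algebra.algebraMapSubmonoid (E ⧸ I) p.primeCompl)
  have htorL : DRing.HasFiniteTorDim (L ⧸ IL) (L ⧸ KL) :=
    PHom.finiteTorDim_baseChange (A := E ⧸ I) (B := E ⧸ K) (A' := L ⧸ IL) (B' := L ⧸ KL) htor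
  obtain ⟨⟨rs, hrs, hrsr⟩, rs', hrs', hrsr'⟩ :=
    Groth.Agent.S2200.result IL KL hle hKtop htorL (exists_isRegular_of_kRegAt hKp h)
  refine ⟨kRegAt_of_isWeaklyRegular I p L rs hrsr.toIsWeaklyRegular hrs.symm, ?_⟩
  haveI : (p.map (Ideal.Quotient.mk I)).IsPrime :=
    Ideal.map_isPrime_of_surjective Ideal.Quotient.mk_surjective (by rw [Ideal.mk_ker]; exact hIK.trans hKp)
  haveI : IsLocalization.AtPrime (L ⧸ IL) (p.map (Ideal.Quotient.mk I)) := by
    have hM : Algebra.algebraMapSubmonoid (E ⧸ I) p.primeCompl = (p.map (Ideal.Quotient.mk I)).primeCompl := by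
      ext z
      obtain ⟨y, rfl⟩ := Ideal.Quotient.mk_surjective z
      have hy : Ideal.Quotient.mk I y ∈ p.map (Ideal.Quotient.mk I) ↔ y ∈ p := by
        refine ⟨fun hy => ?_, Ideal.mem_map_of_mem _⟩
        have := Ideal.mem_comap.mpr hy
        rwa [Ideal.comap_map_of_surjective' _ Ideal.Quotient.mk_surjective, Ideal.mk_ker,
          sup_eq_left.mpr (hIK.trans hKp)] at this
      constructor
      · rintro ⟨w, hw, hwy⟩ hym
        refine hw ?_
        have hwm : Ideal.Quotient.mk I w ∈ p.map (Ideal.Quotient.mk I) := hwy.symm ▸ hym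
        have := Ideal.mem_comap.mpr hwm
        rwa [Ideal.comap_map_of_surjective' _ Ideal.Quotient.mk_surjective, Ideal.mk_ker,
          sup_eq_left.mpr (hIK.trans hKp)] at this
      · exact fun hym => ⟨y, fun hyp => hym (hy.mpr hyp), rfl⟩
    have hloc : IsLocalization (Algebra.algebraMapSubmonoid (E ⧸ I) p.primeCompl) (L ⧸ IL) := inferInstance
    rwa [hM] at hloc
  refine kRegAt_of_isWeaklyRegular _ _ (L ⧸ IL) rs' hrsr'.toIsWeaklyRegular ?_
  rw [hrs', Ideal.map_map, Ideal.map_map]
  rfl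

end GrothLib.LCI6
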