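import Groth.Agent.Lib.LCI6.Cancel
import Groth.Agent.Lib.LCI6.Regular
import Groth.Agent.Lib.CMFree.Regular
import Groth.Agent.Lib.SeqKinds.NoetherianLocal

/-!
# A complete intersection through a regular quotient splits
-/

universe u

open IsLocalRing RingTheory.Sequence

namespace GrothLib.LCI6

/-- An ideal inside the square of the maximal ideal with regular quotient is zero. -/
theorem eq_bot_of_le_sq_of_regular_quotient {L : Type u} [CommRing L] [IsLocalRing L] [IsNoetherianRing L]
    (I : Ideal L) (hI : I ≤ maximalIdeal L ^ 2) [IsRegularLocalRing (L ⧸ I)] : I = ⊥ := by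
  have hIm : I ≤ maximalIdeal L := hI.trans (Ideal.pow_le_self two_ne_zero)
  let d := (maximalIdeal (L ⧸ I)).spanFinrank
  obtain ⟨z, hz⟩ := GrothLib.RegLoc.exists_generators_fin (maximalIdeal (L ⧸ I))
  choose y hy using fun i => Ideal.Quotient.mk_surjective (z i)
  have hmap : (maximalIdeal L).map (Ideal.Quotient.mk I) = maximalIdeal (L ⧸ I) :=
    GrothLib.RegLoc.map_maximalIdeal_quotient I
  have hyz : (Ideal.span (Set.range y)).map (Ideal.Quotient.mk I) = maximalIdeal (L ⧸ I) := by
    rw [Ideal.map_span, ← Set.range_comp]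
    exact (congrArg Ideal.span (congrArg Set.range (funext hy))).trans hz
  have hym : Ideal.span (Set.range y) ≤ maximalIdeal L := by
    have := Ideal.map_le_iff_le_comap.mp (hyz.trans hmap.symm).le
    rwa [Ideal.comap_map_of_surjective' _ Ideal.Quotient.mk_surjective, Ideal.mk_ker, sup_eq_left.mpr hIm] at this
  have hgen : Ideal.span (Set.range y) = maximalIdeal L := by
    refine GrothLib.RegLoc.eq_maximalIdeal_of_sup_sq hym ?_
    have := Ideal.map_le_iff_le_comap.mp (hmap.trans hyz.symm).le
    rw [Ideal.comap_map_of_surjective' _ Ideal.Quotient.mk_surjective, Ideal.mk_ker] at this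
    exact this.trans (sup_le_sup_left hI _)
  have hle : (maximalIdeal L).spanFinrank ≤ d := GrothLib.RegLoc.spanFinrank_le_of_span y hgen
  have hd : (d : WithBot ℕ∞) = ringKrullDim (L ⧸ I) := IsRegularLocalRing.spanFinrank_maximalIdeal
  haveI : IsRegularLocalRing L := IsRegularLocalRing.of_spanFinrank_maximalIdeal_le _
    (le_trans (by exact_mod_cast hle) (hd.le.trans (ringKrullDim_quotient_le I)))
  haveI : IsDomain L := GrothLib.CMFree.isDomain_of_isRegularLocalRing L
  by_contra hne
  obtain ⟨r, hr, hr0⟩ := Submodule.exists_mem_ne_zero_of_ne_bot hne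
  have h1 := ringKrullDim_succ_le_of_surjective (Ideal.Quotient.mk I) Ideal.Quotient.mk_surjective
    (mem_nonZeroDivisors_of_ne_zero hr0) (Ideal.Quotient.eq_zero_iff_mem.mpr hr)
  rw [← hd, ← IsRegularLocalRing.spanFinrank_maximalIdeal] at h1
  have h2 : ((d + 1 : ℕ) : WithBot ℕ∞) ≤ ((maximalIdeal L).spanFinrank : ℕ) := by push_cast; exact h1
  have : d + 1 ≤ (maximalIdeal L).spanFinrank := by exact_mod_cast h2
  omega

/-- Inside a complete intersection, an ideal with regular quotient is part of the sequence. -/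
theorem exists_split {L : Type u} [CommRing L] [IsLocalRing L] [IsNoetherianRing L] {r : ℕ} (x : Fin r → L)
    (hx : LCI.IsKoszulRegularSeq L (List.ofFn x)) (hxm : ∀ i, x i ∈ maximalIdeal L) (I : Ideal L)
    (hI : I ≤ Ideal.span (Set.range x)) [IsRegularLocalRing (L ⧸ I)] :
    ∃ (a : ℕ) (w : Fin a → L) (c : Fin a → Fin r → L), (∀ i, w i = ∑ j, c i j * x j) ∧
      IsWeaklyRegular L (List.ofFn w) ∧ I = Ideal.span (Set.range w) ∧
      LinearIndependent (FractionRing (L ⧸ maximalIdeal L)) fun i j =>
        algebraMap (L ⧸ maximalIdeal L) (FractionRing (L ⧸ maximalIdeal L))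
          (Ideal.Quotient.mk (maximalIdeal L) (c i j)) := by
  classical
  let κ := FractionRing (L ⧸ maximalIdeal L)
  let f : L →+* κ := (algebraMap (L ⧸ maximalIdeal L) κ).comp (Ideal.Quotient.mk _)
  have hf : Function.Surjective f := by
    haveI : IsDomain (L ⧸ maximalIdeal L) := inferInstance
    refine ((IsFractionRing.surjective_iff_isField (R := L ⧸ maximalIdeal L) (K := κ)).mpr ?_).comp
      Ideal.Quotient.mk_surjective
    exact (Ideal.Quotient.maximal_ideal_iff_isField_quotient _).mp inferInstance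
  have hker : ∀ z, f z = 0 → z ∈ maximalIdeal L := fun z hz => Ideal.Quotient.eq_zero_iff_mem.mp
    (IsFractionRing.injective (L ⧸ maximalIdeal L) κ (hz.trans (map_zero _).symm))
  let W : Set (Fin r → κ) := (fun c : Fin r → L => f ∘ c) '' {c | ∑ j, c j * x j ∈ I}
  obtain ⟨b, hbW, hspan, hli⟩ := exists_linearIndependent κ W
  haveI : Finite b := hli.finite
  obtain ⟨a, ⟨e⟩⟩ := Finite.exists_equiv_fin b
  choose c₀ hc₀ hc₀b using fun i => hbW (e.symm i).2
  let c : Fin a → Fin r → L := fun i => c₀ i.rev
  let w : Fin a → L := fun i => ∑ j, c i j * x j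
  have hli' : LinearIndependent κ fun i j => f (c i j) := by
    have := (hli.comp e.symm e.symm.injective).comp Fin.rev Fin.rev_injective
    have h : (fun i j => f (c i j)) = (Subtype.val ∘ ⇑e.symm) ∘ Fin.rev := funext fun i => hc₀b i.rev
    rw [h]
    exact this
  refine ⟨a, w, c, fun i => rfl, ?_, ?_, hli'⟩
  · -- completion to a system of generators
    obtain ⟨k, hk, e', hdet⟩ := exists_complete (maximalIdeal L) (fun i => c i.rev)
      (hli'.comp Fin.rev Fin.rev_injective)
    subst hk
    let T : Matrix (Fin (k + a)) (Fin (k + a)) L :=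
      Matrix.of fun i j => Fin.append e' (fun i => c i.rev) i j
    have hT : IsUnit T.det := by
      by_contra h
      exact hdet (by simpa [T] using (mem_maximalIdeal _).mpr h)
    have hT' : IsUnit (T.submatrix (Fin.revPerm : Equiv.Perm (Fin (k + a))) id).det := by
      rw [Matrix.det_permute]
      exact ((Units.isUnit _).map (Int.castRingHom L)).mul hT
    have hy := isKoszulRegularSeq_mulVec _ hT' x hx
    set y := (T.submatrix (Fin.revPerm : Equiv.Perm (Fin (k + a))) id).mulVec x with hydef
    have hym : ∀ i, y i ∈ maximalIdeal L := fun i => by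
      simp only [hydef, Matrix.mulVec, dotProduct]
      exact sum_mem fun j _ => Ideal.mul_mem_left _ _ (hxm j)
    have hyw := GrothLib.SeqKinds.isWeaklyRegular_of_isQuasiRegular y hym
      (GrothLib.SeqKinds.isQuasiRegular_of_isH1Regular y (isH1Regular_ofFn y hy))
    have hsplit : List.ofFn y = List.ofFn w ++ (List.ofFn y).drop a := by
      conv_lhs => rw [← List.take_append_drop a (List.ofFn y)]
      congr 1
      refine List.ext_getElem (by simp) fun i h1 h2 => ?_
      simp only [List.getElem_take, List.getElem_ofFn]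
      have hi : i < a := by simpa using h2
      show ∑ j, T (Fin.rev ⟨i, _⟩) j * x j = ∑ j, c ⟨i, hi⟩ j * x j
      have e1 : Fin.rev (⟨i, by omega⟩ : Fin (k + a)) = Fin.natAdd k (Fin.rev ⟨i, hi⟩) := by
        ext; simp [Fin.val_rev]; omega
      simp only [e1, T, Matrix.of_apply, Fin.append_right, Fin.rev_rev]
    rw [hsplit, isWeaklyRegular_append_iff] at hyw
    exact hyw.1
  · let I₀ := Ideal.span (Set.range w)
    have hw : I₀ ≤ I := Ideal.span_le.mpr fun _ ⟨i, hi⟩ => hi ▸ hc₀ i.rev
    have hle : I ≤ I₀ ⊔ maximalIdeal L ^ 2 := fun z hz => by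
      obtain ⟨d, rfl⟩ := Ideal.mem_span_range_iff_exists_fun.mp (hI hz)
      have hd : (f ∘ d) ∈ Submodule.span κ (Set.range fun i j => f (c i j)) := by
        have : (Set.range fun i j => f (c i j)) = b := by
          refine Set.ext fun v => ⟨?_, fun hv => ⟨(e ⟨v, hv⟩).rev, ?_⟩⟩
          · rintro ⟨i, rfl⟩
            have := (e.symm i.rev).2
            rwa [← hc₀b i.rev] at this
          · have := hc₀b (e ⟨v, hv⟩)
            simp only [Equiv.symm_apply_apply] at this
            simpa [c, Fin.rev_rev, Function.comp_def] using this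
        rw [this, hspan]
        exact Submodule.subset_span ⟨d, hz, rfl⟩
      obtain ⟨q, hq⟩ := (Submodule.mem_span_range_iff_exists_fun κ).mp hd
      choose q' hq' using fun i => hf (q i)
      refine Submodule.mem_sup.mpr ⟨∑ i, q' i * w i, sum_mem fun i _ =>
        Ideal.mul_mem_left _ _ (Ideal.subset_span ⟨i, rfl⟩),
        ∑ j, (d j - ∑ i, q' i * c i j) * x j, sum_mem fun j _ => ?_, ?_⟩
      · rw [pow_two]
        refine Ideal.mul_mem_mul (hker _ ?_) (hxm j)
        have := congrFun hq j
        simp only [Finset.sum_apply, Pi.smul_apply, smul_eq_mul, Function.comp_apply] at this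
        simp [map_sum, hq', this]
      · have : ∑ i, q' i * w i = ∑ j, (∑ i, q' i * c i j) * x j := by
          simp only [w, Finset.sum_mul, Finset.mul_sum]
          rw [Finset.sum_comm]
          exact Finset.sum_congr rfl fun j _ => Finset.sum_congr rfl fun i _ => (mul_assoc _ _ _).symm
        rw [this, ← Finset.sum_add_distrib]
        exact Finset.sum_congr rfl fun j _ => by ring
    have hIm : I ≤ maximalIdeal L := hI.trans (Ideal.span_le.mpr (Set.range_subset_iff.mpr hxm))
    haveI : IsLocalRing (L ⧸ I₀) := GrothLib.RegLoc.isLocalRing_quotient (hw.trans hIm)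
    let I' := I.map (Ideal.Quotient.mk I₀)
    haveI : IsRegularLocalRing ((L ⧸ I₀) ⧸ I') :=
      IsRegularLocalRing.of_ringEquiv (DoubleQuot.quotQuotEquivQuotOfLE hw).symm
    have h0 : I' = ⊥ := by
      refine eq_bot_of_le_sq_of_regular_quotient I' ?_
      refine (Ideal.map_mono hle).trans ?_
      rw [Ideal.map_sup, Ideal.map_quotient_self, bot_sup_eq, Ideal.map_pow,
        GrothLib.RegLoc.map_maximalIdeal_quotient]
    refine le_antisymm ?_ hw
    rwa [Ideal.map_eq_bot_iff_le_ker, Ideal.mk_ker] at h0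

/-- A complete intersection through a regular quotient splits, near a prime. -/
theorem kRegAt_split {E P' : Type u} [CommRing E] [CommRing P'] [IsNoetherianRing E] (φ : E →+* P')
    (hφ : Function.Surjective φ) (J : Ideal P') (Q1 : Ideal P') [Q1.IsPrime] (hJQ : J ≤ Q1)
    [IsRegularLocalRing (Localization.AtPrime Q1)] (hK : KRegAt (J.comap φ) (Q1.comap φ)) :
    KRegAt (RingHom.ker φ) (Q1.comap φ) ∧ KRegAt J Q1 := by
  classical
  set p := Q1.comap φ with hp
  let L := Localization.AtPrime p
  let I := RingHom.ker φ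
  obtain ⟨g₀, r, x, hg₀, hxK, hx, hKg⟩ := hK.exists_fin
  let xL : Fin r → L := fun i => algebraMap E L (x i)
  have hu : IsUnit (algebraMap E L g₀) := IsLocalization.map_units L (⟨g₀, hg₀⟩ : p.primeCompl)
  let ψ₀ : Localization.Away g₀ →+* L := IsLocalization.Away.lift g₀ hu
  have hψ₀ : ψ₀.Flat := by
    letI := ψ₀.toAlgebra
    haveI : IsScalarTower E (Localization.Away g₀) L :=
      IsScalarTower.of_algebraMap_eq fun z => (IsLocalization.Away.lift_eq g₀ hu z).symm
    exact (Module.flat_iff_of_isLocalization _ (Submonoid.powers g₀) _).mpr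
      (IsLocalization.flat L p.primeCompl)
  have hxL : LCI.IsKoszulRegularSeq L (List.ofFn xL) := by
    have := GrothLib.KoszulColon.isKoszulRegularSeq_map ψ₀ hψ₀ _ hx
    rw [List.map_ofFn] at this
    rw [show xL = ψ₀ ∘ fun i => algebraMap E (Localization.Away g₀) (x i) from
      funext fun i => (IsLocalization.Away.lift_eq g₀ hu _).symm]
    exact this
  have hxm : ∀ i, xL i ∈ maximalIdeal L := fun i => by
    rw [← Localization.AtPrime.map_eq_maximalIdeal]
    exact Ideal.mem_map_of_mem _ (Ideal.comap_mono hJQ (hxK i))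
  have hKL : Ideal.span (Set.range xL) = (J.comap φ).map (algebraMap E L) := by
    have := congrArg (Ideal.map ψ₀) hKg
    rw [Ideal.map_map, IsLocalization.Away.lift_comp, Ideal.map_span, ← Set.range_comp] at this
    rw [this]
    exact congrArg Ideal.span (congrArg Set.range (funext fun i => (IsLocalization.Away.lift_eq g₀ hu _).symm))
  let IL := I.map (algebraMap E L)
  have hIK : IL ≤ Ideal.span (Set.range xL) := hKL ▸ Ideal.map_mono fun z hz =>
    Ideal.mem_comap.mpr (by rw [RingHom.mem_ker.mp hz]; exact zero_mem _)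
  haveI : IsRegularLocalRing (L ⧸ IL) := by
    let ψ : L →+* Localization.AtPrime Q1 := Localization.localRingHom p Q1 φ hp
    have hT : p.primeCompl.map φ = Q1.primeCompl := by
      ext z
      obtain ⟨y, rfl⟩ := hφ z
      exact ⟨fun ⟨w, hw, hwy⟩ => hwy ▸ fun hh => hw (hp.ge hh), fun hy => ⟨y, fun hyp => hy (hp.le hyp), rfl⟩⟩
    have hψs : Function.Surjective ψ := by
      haveI : IsLocalization (p.primeCompl.map φ) (Localization.AtPrime Q1) := by rw [hT]; infer_instance
      exact IsLocalization.map_surjective_of_surjective (M := p.primeCompl) _ _ hφ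
    have hψk : RingHom.ker ψ = IL := IsLocalization.ker_map _ φ hT
    exact IsRegularLocalRing.of_ringEquiv
      ((Ideal.quotEquivOfEq hψk.symm).trans (RingHom.quotientKerEquivOfSurjective hψs)).symm
  obtain ⟨a, wL, c, hwc, hwreg, hIw, hli⟩ := exists_split xL hxL hxm IL hIK
  have hclear : ∀ i, ∃ (v : E) (s : L), v ∈ I ∧ IsUnit s ∧ algebraMap E L v = s * wL i := fun i => by
    have hi : wL i ∈ IL := hIw ▸ Ideal.subset_span ⟨i, rfl⟩
    obtain ⟨⟨⟨v, hv⟩, s⟩, hs⟩ := (IsLocalization.mem_map_algebraMap_iff p.primeCompl L).mp hi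
    exact ⟨v, algebraMap E L s, hv, IsLocalization.map_units L s, by rw [← hs]; exact mul_comm _ _⟩
  choose v s hvI hs hvs using hclear
  have hva : IsWeaklyRegular L ((List.ofFn v).map (algebraMap E L)) := by
    rw [List.map_ofFn, show algebraMap E L ∘ v = fun i => s i * wL i from funext hvs]
    exact GrothLib.RegSeqLoc.isWeaklyRegular_ofFn_mul s hs hwreg
  obtain ⟨g₁, hg₁, hreg⟩ := GrothLib.RegSeqLoc.exists_away_isWeaklyRegular p.primeCompl L _ hva
  obtain ⟨g₂, hg₂, heq⟩ := GrothLib.RelReg.exists_away_eq_of_fg p.primeCompl L I (Ideal.span (Set.range v))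
    (IsNoetherian.noetherian _) (IsNoetherian.noetherian _) (by
      rw [Ideal.map_span, ← Set.range_comp]
      refine hIw.trans (le_antisymm (Ideal.span_le.mpr ?_) (Ideal.span_le.mpr ?_))
      · rintro _ ⟨i, rfl⟩
        rw [show wL i = ↑(hs i).unit⁻¹ * algebraMap E L (v i) by simp [hvs, ← mul_assoc]]
        exact Ideal.mul_mem_left _ _ (Ideal.subset_span ⟨i, rfl⟩)
      · rintro _ ⟨i, rfl⟩
        show algebraMap E L (v i) ∈ _
        rw [hvs]
        exact Ideal.mul_mem_left _ _ (Ideal.subset_span ⟨i, rfl⟩))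
  let g := g₁ * g₂
  have hg : g ∉ p := fun h => (Ideal.IsPrime.mem_or_mem inferInstance h).elim hg₁ hg₂
  let Eg := Localization.Away g
  let π := Localization.awayMap φ g
  let w : Fin a → Eg := fun i => algebraMap E Eg (v i.rev)
  have hw : LCI.IsKoszulRegularSeq Eg (List.ofFn w) := by
    refine GrothLib.KoszulColon.isKoszulRegularSeq_of_isWeaklyRegular _ ?_
    have := hreg (Submonoid.powers g) Eg
      (isUnit_of_dvd_unit (map_dvd _ (dvd_mul_right g₁ g₂)) (IsLocalization.Away.algebraMap_isUnit g))
    convert this using 1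
    refine List.ext_getElem (by simp) fun i h1 h2 => ?_
    simp only [List.getElem_reverse, List.getElem_ofFn, List.getElem_map, List.length_ofFn, w]
    congr 2
    ext; simp [Fin.val_rev]; simp at h1; omega
  have hker : RingHom.ker π = Ideal.span (Set.range w) := by
    rw [ker_awayMap, heq Eg (algebraMap E Eg)
      (isUnit_of_dvd_unit (map_dvd _ (dvd_mul_left g₂ g₁)) (IsLocalization.Away.algebraMap_isUnit g)),
      Ideal.map_span, ← Set.range_comp]
    refine congrArg Ideal.span ?_
    exact (Fin.rev_surjective.range_comp (fun i => algebraMap E Eg (v i))).symm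
  refine ⟨KRegAt.of_model g hg Eg _ hw ((ker_awayMap φ g).symm.trans (hker.trans (ofList_ofFn w).symm)), ?_⟩
  have hd : Disjoint (Submonoid.powers g : Set E) (p : Set E) := by
    rw [Set.disjoint_left]
    rintro _ ⟨k, rfl⟩ hk
    exact hg (Ideal.IsPrime.mem_of_pow_mem inferInstance k hk)
  let pg : Ideal Eg := p.map (algebraMap E Eg)
  haveI : pg.IsPrime := IsLocalization.isPrime_of_isPrime_disjoint (Submonoid.powers g) Eg p inferInstance hd
  have hpg : pg.comap (algebraMap E Eg) = p :=
    IsLocalization.comap_map_of_isPrime_disjoint (Submonoid.powers g) Eg inferInstance hd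
  let KE := (J.comap φ).map (algebraMap E Eg)
  have hwK : ∀ i, w i ∈ KE := fun i => Ideal.mem_map_of_mem _ (Ideal.mem_comap.mpr (by
    rw [RingHom.mem_ker.mp (hvI i.rev)]; exact zero_mem _))
  have hind : ∀ b : Fin a → Eg, ∑ i, b i * w i ∈ pg * KE → ∀ i, b i ∈ pg := by
    intro b hb i
    have hug : IsUnit (algebraMap E L g) := IsLocalization.map_units L (⟨g, hg⟩ : p.primeCompl)
    let Θ : Eg →+* L := IsLocalization.Away.lift g hug
    have hΘ : (maximalIdeal L).comap Θ = pg := by
      have h := IsLocalization.map_comap (Submonoid.powers g) Eg ((maximalIdeal L).comap Θ)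
      refine h.symm.trans (congrArg (Ideal.map _) ?_)
      show ((maximalIdeal L).comap Θ).comap (algebraMap E _) = _
      rw [Ideal.comap_comap, IsLocalization.Away.lift_comp]
      exact Localization.AtPrime.comap_maximalIdeal
    rw [← hΘ, Ideal.mem_comap]
    have hΘw : ∀ j, Θ (w j) = s j.rev * ∑ l, c j.rev l * xL l := fun j => by
      rw [IsLocalization.Away.lift_eq, hvs, hwc]
    have h2 := Ideal.mem_map_of_mem Θ hb
    rw [map_sum, Ideal.map_mul] at h2
    simp only [map_mul, hΘw] at h2
    let d : Fin r → L := fun l => ∑ j, Θ (b j) * s j.rev * c j.rev l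
    have hd0 : ∀ l, d l ∈ maximalIdeal L := fun l => mem_maximalIdeal_of_relation xL
      (isH1Regular_ofFn xL hxL) hxm d (by
        have e : ∑ l, d l * xL l = ∑ j, Θ (b j) * (s j.rev * ∑ l, c j.rev l * xL l) := by
          trans ∑ l, ∑ j, Θ (b j) * s j.rev * c j.rev l * xL l
          · exact Finset.sum_congr rfl fun l _ => Finset.sum_mul _ _ _
          · rw [Finset.sum_comm]
            refine Finset.sum_congr rfl fun j _ => ?_
            rw [Finset.mul_sum, Finset.mul_sum]
            exact Finset.sum_congr rfl fun l _ => by ring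
        rw [e]
        refine Ideal.mul_mono ?_ ?_ h2
        · exact Ideal.map_le_iff_le_comap.mpr hΘ.ge
        · rw [Ideal.map_map, IsLocalization.Away.lift_comp, hKL]) l
    let f : L →+* FractionRing (L ⧸ maximalIdeal L) :=
      (algebraMap (L ⧸ maximalIdeal L) _).comp (Ideal.Quotient.mk _)
    have hfz : ∀ z, f z = 0 → z ∈ maximalIdeal L := fun z hz => Ideal.Quotient.eq_zero_iff_mem.mp
      (IsFractionRing.injective (L ⧸ maximalIdeal L) _ (hz.trans (map_zero _).symm))
    have h3 : ∀ j, f (Θ (b j) * s j.rev) = 0 := Fintype.linearIndependent_iff.mp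
      (hli.comp Fin.rev Fin.rev_injective) (fun j => f (Θ (b j) * s j.rev)) (funext fun l => by
        have h4 : f (d l) = 0 := by
          simp only [f, RingHom.comp_apply, Ideal.Quotient.eq_zero_iff_mem.mpr (hd0 l), map_zero]
        rw [map_sum] at h4
        simp only [Finset.sum_apply, Pi.smul_apply, smul_eq_mul, Pi.zero_apply, Function.comp_apply]
        rw [← h4]
        exact Finset.sum_congr rfl fun j _ => (map_mul f _ _).symm)
    exact (Ideal.IsPrime.mem_or_mem inferInstance (hfz _ (h3 i))).resolve_right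
      fun h => (mem_maximalIdeal _).mp h (hs i.rev)
  have hπ := awayMap_surjective φ hφ g
  let Q' : Ideal (Localization.Away (φ g)) := Q1.map (algebraMap P' _)
  have hdQ : Disjoint (Submonoid.powers (φ g) : Set P') (Q1 : Set P') := by
    rw [Set.disjoint_left]
    rintro _ ⟨k, rfl⟩ hk
    exact hg (Ideal.IsPrime.mem_of_pow_mem (I := Q1) inferInstance k hk)
  haveI : Q'.IsPrime :=
    IsLocalization.isPrime_of_isPrime_disjoint (Submonoid.powers (φ g)) _ Q1 inferInstance hdQ
  have hQ' : Q'.comap (algebraMap P' _) = Q1 :=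
    IsLocalization.comap_map_of_isPrime_disjoint (Submonoid.powers (φ g)) _ inferInstance hdQ
  have hQπ : Q'.comap π = pg := by
    have h := IsLocalization.map_comap (Submonoid.powers g) Eg (Q'.comap π)
    refine h.symm.trans (congrArg (Ideal.map _) ?_)
    show (Q'.comap π).comap (algebraMap E _) = _
    rw [Ideal.comap_comap, awayMap_comp, ← Ideal.comap_comap, hQ']
  have hdown := KRegAt.down' π hπ w hw hker hwK hind Q' hQπ
    (KRegAt.map (algebraMap E Eg) (RingHom.flat_algebraMap_iff.mpr (IsLocalization.flat Eg (Submonoid.powers g)))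
      pg (hpg.symm ▸ ⟨g₀, hg₀, _, hx, hKg.trans (ofList_ofFn _).symm⟩))
  refine KRegAt.of_away (φ g) (Localization.Away (φ g)) Q' hQ' ?_
  rwa [Ideal.map_map, awayMap_comp, ← Ideal.map_map, Ideal.map_comap_of_surjective φ hφ] at hdown

open MvPolynomial in
/-- Regular middle ring: both maps are LCI. -/
theorem kRegAt_of_regular_middle {A B C : Type u} [CommRing A] [IsNoetherianRing A] [CommRing B]
    [IsRegularRing B] [CommRing C] [Algebra A B] [Algebra B C] [Algebra A C] [IsScalarTower A B C]
    (hAC : LCI.IsLCI A C) {n : ℕ} (α : MvPolynomial (Fin n) A →ₐ[A] B) (hα : Function.Surjective α)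
    {m : ℕ} (β : MvPolynomial (Fin m) B →ₐ[B] C) (hβ : Function.Surjective β) (𝔔 : Ideal C) [𝔔.IsPrime] :
    KRegAt (RingHom.ker α.toRingHom) ((𝔔.comap (algebraMap B C)).comap α.toRingHom) ∧
      KRegAt (RingHom.ker β.toRingHom) (𝔔.comap β.toRingHom) := by
  let P := MvPolynomial (Fin n) A
  let E := MvPolynomial (Fin m) P
  let φ : E →+* MvPolynomial (Fin m) B := MvPolynomial.map α.toRingHom
  have hφs : Function.Surjective φ := MvPolynomial.map_surjective α.toRingHom hα
  let γ : E →+* C := β.toRingHom.comp φ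
  let e : MvPolynomial (Fin (m + n)) A ≃ₐ[A] E :=
    (MvPolynomial.renameEquiv A finSumFinEquiv.symm).trans (MvPolynomial.sumAlgEquiv A (Fin m) (Fin n))
  let γA : E →ₐ[A] C := (β.restrictScalars A).comp (MvPolynomial.mapAlgHom α)
  have hγe : Function.Surjective (γA.comp e.toAlgHom).toRingHom :=
    (hβ.comp (MvPolynomial.map_surjective α.toRingHom hα)).comp e.surjective
  have hK : KRegAt (RingHom.ker γ) (𝔔.comap γ) := (kRegAt_equiv_iff e.toRingEquiv γ 𝔔).mp
    ((isKoszulRegularIdeal_ker_iff _ hγe).mp
      (isKoszulRegularIdeal_of_isLCI hAC (γA.comp e.toAlgHom) hγe) 𝔔 inferInstance)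
  obtain ⟨h1, h2⟩ := kRegAt_split φ hφs (RingHom.ker β.toRingHom) (𝔔.comap β.toRingHom) (ker_le_comap _ _) hK
  refine ⟨?_, h2⟩
  rw [MvPolynomial.ker_map] at h1
  have e1 : ((𝔔.comap β.toRingHom).comap φ).comap (algebraMap P E) =
      (𝔔.comap (algebraMap B C)).comap α.toRingHom := by
    rw [Ideal.comap_comap, Ideal.comap_comap, Ideal.comap_comap]
    congr 1
    refine RingHom.ext fun z => ?_
    show β (MvPolynomial.map α.toRingHom (MvPolynomial.C z)) = algebraMap B C (α z)
    rw [MvPolynomial.map_C]
    exact β.commutes _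
  have h := kRegAt_descent_open (P := P) (D := E) (IsNoetherian.noetherian _)
    ((𝔔.comap β.toRingHom).comap φ) (by rw [e1]; exact ker_le_comap _ _) h1
  simpa only [e1] using h

end GrothLib.LCI6
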